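import Groth.Agent.Lib.FormalModH7.CplSec
import Groth.Agent.Lib.FormalH7.ModSec
import Groth.Agent.Lib.EffCartier.Comap
import Groth.Agent.Lib.HomShH7.FullFaith
import Groth.Agent.Lib.ModLimH13.Hom1

/-!
# Completions along an ideal of the base as formal systems of modules
-/

set_option autoImplicit false
set_option linter.style.haveILetI false
set_option backward.isDefEq.respectTransparency false
set_option backward.isDefEq.respectTransparency.types false
universe u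

open CategoryTheory CategoryTheory.Limits AlgebraicGeometry Opposite TopologicalSpace

namespace Groth.Agent.FormalModH7

variable {A : Type u} [CommRing A] (J : Ideal A) {X : Scheme.{u}} [X.Over (Spec (CommRingCat.of A))]
  (𝓘 : X.IdealSheafData) (h𝓘 : 𝓘 = (FSch.idealSpec A J).comap (X ↘ Spec (CommRingCat.of A)))

include h𝓘 in
theorem ideal_eq_idl {U : X.Opens} (hU : IsAffineOpen U) : 𝓘.ideal ⟨U, hU⟩ = J.map (FormalH7.multHom X U) := by
  subst h𝓘
  rw [EffCartier.comap_ideal (FSch.idealSpec A J) (X ↘ Spec (CommRingCat.of A)) ⟨⊤, isAffineOpen_top _⟩ ⟨U, hU⟩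
    (fun _ _ => trivial), FormalH7.idealSpec_ideal_top', Ideal.map_map]
  congr 1

variable {𝓘} (G : X.Modules) (n : ℕ)

/-- The direct image of a level of the completion. -/
noncomputable abbrev pushLvl (𝓘 : X.IdealSheafData) : X.Modules :=
  (Scheme.Modules.pushforward (FSch.completionToX X 𝓘 n)).obj ((FSch.complMod 𝓘 G).F n)

/-- The unit to a level. -/
noncomputable abbrev unitLvl (𝓘 : X.IdealSheafData) : G ⟶ pushLvl G n 𝓘 :=
  (Scheme.Modules.pullbackPushforwardAdjunction (FSch.completionToX X 𝓘 n)).unit.app G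

variable (𝓘) (h : (FSch.completionAlong X 𝓘).IsFormal)

theorem resC_eq_mres (U : X.Opens) (m : Γ(G, U)) :
    resC 𝓘 h G n U m = M1.mres ((FSch.complMod 𝓘 G).F n) (lvU_zO 𝓘 h n U).ge
      ((unitLvl G n 𝓘).app U m) := rfl

theorem mres_injective_of_eq {Y : Scheme.{u}} (M : Y.Modules) {V W : Y.Opens} (e : V = W) (x : Γ(M, V))
    (hx : M1.mres M e.ge x = 0) : x = 0 := by
  subst e
  simpa [M1.mres] using hx

theorem resC_eq_zero_iff_unit (U : X.Opens) (m : Γ(G, U)) :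
    resC 𝓘 h G n U m = 0 ↔ (unitLvl G n 𝓘).app U m = 0 := by
  refine ⟨fun h0 => mres_injective_of_eq _ (lvU_zO 𝓘 h n U) _ h0, fun h0 => ?_⟩
  rw [resC_eq_mres, h0, map_zero]

variable {G} (hG : Coh.IsQCoh G) [IsLocallyNoetherian X]

include h𝓘 hG h in
theorem smulFamily_unit : Formal.smulFamily (J ^ (n + 1)) G ≫ unitLvl G n 𝓘 = 0 := by
  haveI := hG
  refine (FormalH7.smulFamily_comp_eq_zero_iff _).2 fun a ha => ?_
  refine ModLimH13.hom_ext_affine _ _ fun x => ⟨⊤, trivial, fun W _ hW s => ?_⟩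
  show (unitLvl G n 𝓘).app W ((Formal.smulMod A G a).app W s) = 0
  rw [← resC_eq_zero_iff_unit 𝓘 G n h, resC_eq_zero_iff 𝓘 h G hW, ideal_eq_idl J 𝓘 h𝓘 hW, ← Ideal.map_pow]
  exact Submodule.smul_mem_smul (Ideal.mem_map_of_mem _ ha) Submodule.mem_top

/-- The comparison of the quotient by a power with the level. -/
noncomputable def cmpLvl : Formal.modPow J (n + 1) G ⟶ pushLvl G n 𝓘 :=
  cokernel.desc _ (unitLvl G n 𝓘) (smulFamily_unit J 𝓘 h𝓘 n h hG)

theorem π_cmpLvl : Formal.modPowπ J (n + 1) G ≫ cmpLvl J 𝓘 h𝓘 n h hG = unitLvl G n 𝓘 :=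
  cokernel.π_desc _ _ _

theorem app_π_cmpLvl (U : X.Opens) (s : Γ(G, U)) :
    (cmpLvl J 𝓘 h𝓘 n h hG).app U ((Formal.modPowπ J (n + 1) G).app U s) = (unitLvl G n 𝓘).app U s :=
  congrArg (fun q => q.app U s) (π_cmpLvl J 𝓘 h𝓘 n h hG)

theorem isIso_cmpLvl (hG : Coh.IsCoh G) : IsIso (cmpLvl J 𝓘 h𝓘 n h hG.1) := by
  haveI : Coh.IsQCoh G := hG.1
  haveI : Mono (cmpLvl J 𝓘 h𝓘 n h hG.1) := by
    rw [M1.mono_iff_app]
    intro U
    refine (injective_iff_map_eq_zero _).2 fun t ht => M1.section_ext _ _ fun x hx => ?_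
    obtain ⟨W, hW, hxW, hWU⟩ := exists_isAffineOpen_mem_and_subset (x := x) (U := U) hx
    rw [← M1.germ_mres _ hWU hxW, map_zero]
    suffices h0 : M1.mres _ hWU t = 0 by rw [h0, map_zero]
    obtain ⟨s, hs⟩ := HomShH7.surjective_app_modPowπ J hG (n + 1) hW (M1.mres _ hWU t)
    rw [← hs, HomShH7.app_modPowπ_eq_zero_iff J hG.1 (n + 1) hW]
    have h1 : (unitLvl G n 𝓘).app W s = 0 := by
      rw [← app_π_cmpLvl J 𝓘 h𝓘 n h hG.1, hs, M1.app_mres, ht, map_zero]
    rw [← resC_eq_zero_iff_unit 𝓘 G n h, resC_eq_zero_iff 𝓘 h G hW, ideal_eq_idl J 𝓘 h𝓘 hW] at h1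
    exact h1
  haveI : Epi (cmpLvl J 𝓘 h𝓘 n h hG.1) := by
    rw [M1.epi_iff_locally_surjective]
    intro U t x hx
    obtain ⟨W, hW, hxW, hWU⟩ := exists_isAffineOpen_mem_and_subset (x := x) (U := U) hx
    let t' := M1.mres (pushLvl G n 𝓘) hWU t
    obtain ⟨s, hs⟩ := resC_surjective 𝓘 h G hW n
      (M1.mres ((FSch.complMod 𝓘 G).F n) (lvU_zO 𝓘 h n W).ge t')
    refine ⟨W, hWU, hxW, (Formal.modPowπ J (n + 1) G).app W s, ?_⟩
    rw [app_π_cmpLvl]
    refine sub_eq_zero.1 (mres_injective_of_eq ((FSch.complMod 𝓘 G).F n) (lvU_zO 𝓘 h n W) _ ?_)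
    rw [resC_eq_mres] at hs
    exact (map_sub _ _ _).trans (sub_eq_zero.2 hs)
  exact isIso_of_mono_of_epi _

end Groth.Agent.FormalModH7
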