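import Groth.Agent.Lib.ModLimH13.Sections
import Mathlib.LinearAlgebra.TensorProduct.Quotient
import Mathlib.AlgebraicGeometry.Morphisms.ClosedImmersion

/-!
# Sections of the pullback of a quasi-coherent module to a closed subscheme over affine opens
-/

set_option autoImplicit false
set_option backward.isDefEq.respectTransparency false
universe u

open AlgebraicGeometry CategoryTheory TensorProduct

namespace Groth.Agent.FormalModH7

variable {X Y : Scheme.{u}} (g : X ⟶ Y) (M : Y.Modules) [Coh.IsQCoh M] {W : Y.Opens} {W' : X.Opens}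
  (e : W' ≤ g ⁻¹ᵁ W) (hW : IsAffineOpen W) (hW' : IsAffineOpen W') (hs : Function.Surjective (g.appLE W W' e))

include hW hW' hs in
theorem res'_surjective : Function.Surjective (ModLimH13.res' g M e) := by
  intro t
  induction t using ModLimH13.pullback_induction g M e hW hW' with
  | h0 => exact ⟨0, by simpa using ModLimH13.res'_smul g M e 0 0⟩
  | hadd a b ha hb =>
    obtain ⟨x, rfl⟩ := ha
    obtain ⟨y, rfl⟩ := hb
    exact ⟨x + y, ModLimH13.res'_add g M e x y⟩
  | hres c s =>
    obtain ⟨r, rfl⟩ := hs c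
    exact ⟨r • s, ModLimH13.res'_smul g M e r s⟩

include hW hW' hs in
theorem res'_eq_zero_iff (s : Γ(M, W)) :
    ModLimH13.res' g M e s = 0 ↔ s ∈ RingHom.ker (g.appLE W W' e).hom • (⊤ : Submodule Γ(Y, W) Γ(M, W)) := by
  letI := (g.appLE W W' e).hom.toAlgebra
  constructor
  · intro hs0
    obtain ⟨Φ, hΦ⟩ := ModLimH13.exists_pullEquiv g M e hW hW'
    have h1 : (1 : Γ(X, W')) ⊗ₜ[Γ(Y, W)] s = 0 := Φ.injective (by rw [hΦ, hs0, smul_zero, map_zero])
    let I : Ideal Γ(Y, W) := RingHom.ker (Algebra.ofId Γ(Y, W) Γ(X, W'))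
    let e' : (Γ(Y, W) ⧸ I) ≃ₐ[Γ(Y, W)] Γ(X, W') :=
      Ideal.quotientKerAlgEquivOfSurjective (f := Algebra.ofId Γ(Y, W) Γ(X, W')) hs
    have h2 := congrArg (TensorProduct.congr e'.symm.toLinearEquiv (LinearEquiv.refl Γ(Y, W) Γ(M, W))) h1
    rw [TensorProduct.congr_tmul, map_zero] at h2
    simp only [AlgEquiv.toLinearEquiv_apply, map_one, LinearEquiv.refl_apply] at h2
    have h3 := congrArg (TensorProduct.quotTensorEquivQuotSMul Γ(M, W) I) h2
    rw [TensorProduct.quotTensorEquivQuotSMul_mk_one_tmul, map_zero, Submodule.Quotient.mk_eq_zero] at h3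
    exact h3
  · intro hmem
    refine Submodule.smul_induction_on hmem (fun r hr m _ => ?_) fun a b ha hb => ?_
    · rw [ModLimH13.res'_smul, RingHom.mem_ker.1 hr, zero_smul]
    · rw [ModLimH13.res'_add, ha, hb, add_zero]

end Groth.Agent.FormalModH7
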