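import Groth.Agent.Lib.FormalModH7.Gens
import Mathlib.RingTheory.Filtration

/-!
# Relations between arbitrary sections restrict between affine opens
-/

set_option autoImplicit false
set_option linter.style.haveILetI false
set_option backward.isDefEq.respectTransparency false
universe u

open CategoryTheory CategoryTheory.Limits AlgebraicGeometry Opposite TopologicalSpace

namespace Groth.Agent.FormalModH7

variable {𝔛 : FSch.Sys.{u}} (𝔐 : FSch.ModSys 𝔛) (hN : 𝔛.IsLocNoethFormal) (hM : 𝔐.IsCoh)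
  {V W : (𝔛.X 0).Opens}

include hM in
/-- Restriction between affine opens preserves the relations between any finite family of sections. -/
theorem rels_rS_any (hV : IsAffineOpen V) (hW : IsAffineOpen W) (i : W ≤ V) {ι κ : Type*} [Fintype ι]
    (s : ι → RSec hN.1 𝔐 V) (R : κ → ι → AV 𝔛 hN.1 V)
    (hR : ∀ a : ι → AV 𝔛 hN.1 V, ∑ j, a j • s j = 0 → a ∈ Submodule.span (AV 𝔛 hN.1 V) (Set.range R))
    (c : ι → AV 𝔛 hN.1 W) (hc : ∑ j, c j • rS hN.1 𝔐 i (s j) = 0) :
    c ∈ Submodule.span (AV 𝔛 hN.1 W) (Set.range fun r j => rA hN.1 i (R r j)) := by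
  classical
  haveI := (structure_AV hN hV).1
  haveI := finite_RSec 𝔐 hN hM hV
  refine mem_span_of_levels hN hW _ c fun n => ?_
  let M' := Submodule.span (AV 𝔛 hN.1 V) (Set.range s)
  obtain ⟨k, hk⟩ := Ideal.exists_pow_inf_eq_pow_smul (defIdeal 𝔛 hN.1 V) M'
  let m := n + k
  haveI : Coh.IsQCoh (𝔐.F m) := (hM m).1
  let Rel := {a : ι → LV 𝔛 hN.1 m V // ∑ j, a j • piM hN.1 𝔐 V m (s j) = 0}
  have h3 := rels_mres (𝔐.F m) (isAffineOpen_lvU hN hV m) (isAffineOpen_lvU hN hW m) (lvU_mono hN.1 i m)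
    (fun j => piM hN.1 𝔐 V m (s j)) (fun a : Rel => a.1)
    (fun a ha => Submodule.subset_span ⟨(⟨a, ha⟩ : Rel), rfl⟩) (fun j => prj 𝔛 hN.1 W m (c j)) (by
      have h4 := congrArg (piM hN.1 𝔐 W m) hc
      rw [map_zero, piM_comb] at h4
      simpa only [piM_rS] using h4)
  have hq : ∀ q ∈ Submodule.span (AV 𝔛 hN.1 V) (Set.range R), (fun j => prj 𝔛 hN.1 W n (rA hN.1 i (q j))) ∈
      Submodule.span (LV 𝔛 hN.1 n W) (Set.range fun r j => prj 𝔛 hN.1 W n (rA hN.1 i (R r j))) := fun q hq => by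
    let φ := (prj 𝔛 hN.1 W n).comp (rA hN.1 i)
    show (fun j => φ (q j)) ∈ Submodule.span (LV 𝔛 hN.1 n W) (Set.range fun r j => φ (R r j))
    induction hq using Submodule.span_induction with
    | mem y hy => obtain ⟨r, rfl⟩ := hy; exact Submodule.subset_span ⟨r, rfl⟩
    | zero =>
      rw [show (fun j => φ ((0 : ι → AV 𝔛 hN.1 V) j)) = 0 from funext fun j => map_zero φ]
      exact Submodule.zero_mem _
    | add a b _ _ ha hb =>
      rw [show (fun j => φ ((a + b) j)) = (fun j => φ (a j)) + fun j => φ (b j) from funext fun j => map_add φ _ _]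
      exact Submodule.add_mem _ ha hb
    | smul d a _ ha =>
      rw [show (fun j => φ ((d • a) j)) = φ d • fun j => φ (a j) from funext fun j => map_mul φ _ _]
      exact Submodule.smul_mem _ _ ha
  have key : ∀ z ∈ Submodule.span (LV 𝔛 hN.1 m W) (Set.range fun (a : Rel) j => rO (lvU_mono hN.1 i m) (a.1 j)),
      ∃ d : ι → AV 𝔛 hN.1 W, (∀ j, prj 𝔛 hN.1 W m (d j) = z j) ∧ (fun j => prj 𝔛 hN.1 W n (d j)) ∈
        Submodule.span (LV 𝔛 hN.1 n W) (Set.range fun r j => prj 𝔛 hN.1 W n (rA hN.1 i (R r j))) := fun z hz => by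
    induction hz using Submodule.span_induction with
    | mem y hy =>
      obtain ⟨a, rfl⟩ := hy
      choose a' ha' using fun j => prj_surjective hN hV m (a.1 j)
      refine ⟨fun j => rA hN.1 i (a' j), fun j => by rw [prj_rA, ha']; rfl, ?_⟩
      have h1 : ∑ j, a' j • s j ∈ defIdeal 𝔛 hN.1 V ^ (m + 1) • (⊤ : Submodule _ (RSec hN.1 𝔐 V)) ⊓ M' := by
        refine ⟨?_, Submodule.sum_mem _ fun j _ => Submodule.smul_mem _ _ (Submodule.subset_span ⟨j, rfl⟩)⟩
        rw [← ker_piM 𝔐 hN hM hV]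
        show piM hN.1 𝔐 V m (∑ j, a' j • s j) = 0
        rw [piM_comb]
        simpa only [ha'] using a.2
      rw [hk (m + 1) (Nat.le_succ_of_le (Nat.le_add_left k n)), show m + 1 - k = n + 1 from by omega] at h1
      have h2 := Submodule.smul_mono (le_refl (defIdeal 𝔛 hN.1 V ^ (n + 1))) (inf_le_right (b := M'))  h1
      rw [Submodule.mem_ideal_smul_span_iff_exists_sum] at h2
      obtain ⟨b, hb, hbs⟩ := h2
      rw [Finsupp.sum_fintype _ (fun i c => c • s i) fun j => zero_smul _ _] at hbs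
      have h5 := hR (fun j => a' j - b j) (by simp only [sub_smul, Finset.sum_sub_distrib]; rw [hbs, sub_self])
      have e : (fun j => prj 𝔛 hN.1 W n (rA hN.1 i (a' j))) = fun j => prj 𝔛 hN.1 W n (rA hN.1 i (a' j - b j)) :=
        funext fun j => by
          rw [map_sub, map_sub, show prj 𝔛 hN.1 W n (rA hN.1 i (b j)) = 0 from ?_, sub_zero]
          have hbj : b j ∈ RingHom.ker (prj 𝔛 hN.1 V n) := by rw [(structure_AV hN hV).2.2 n]; exact hb j
          rw [prj_rA, RingHom.mem_ker.1 hbj, map_zero]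
      rw [e]
      exact hq _ h5
    | zero =>
      refine ⟨0, fun j => map_zero _, ?_⟩
      rw [show (fun j => prj 𝔛 hN.1 W n ((0 : ι → AV 𝔛 hN.1 W) j)) = 0 from funext fun j => map_zero _]
      exact Submodule.zero_mem _
    | add a b _ _ ha hb =>
      obtain ⟨a', ha1, ha2⟩ := ha
      obtain ⟨b', hb1, hb2⟩ := hb
      refine ⟨a' + b', fun j => by rw [Pi.add_apply, Pi.add_apply, map_add, ha1, hb1], ?_⟩
      rw [show (fun j => prj 𝔛 hN.1 W n ((a' + b') j)) =
        (fun j => prj 𝔛 hN.1 W n (a' j)) + fun j => prj 𝔛 hN.1 W n (b' j) from funext fun j => map_add _ _ _]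
      exact Submodule.add_mem _ ha2 hb2
    | smul d a _ ha =>
      obtain ⟨a', ha1, ha2⟩ := ha
      obtain ⟨d', rfl⟩ := prj_surjective hN hW m d
      refine ⟨d' • a', fun j => by rw [Pi.smul_apply, Pi.smul_apply, smul_eq_mul, smul_eq_mul, map_mul, ha1], ?_⟩
      rw [show (fun j => prj 𝔛 hN.1 W n ((d' • a') j)) = prj 𝔛 hN.1 W n d' • fun j => prj 𝔛 hN.1 W n (a' j) from
        funext fun j => map_mul _ _ _]
      exact Submodule.smul_mem _ _ ha2
  obtain ⟨d, hd, hd'⟩ := key _ h3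
  have e : (fun j => prj 𝔛 hN.1 W n (c j)) = fun j => prj 𝔛 hN.1 W n (d j) := funext fun j => by
    rw [← sub_eq_zero, ← map_sub, ← RingHom.mem_ker, (structure_AV hN hW).2.2 n]
    refine Ideal.pow_le_pow_right (show n + 1 ≤ m + 1 from Nat.succ_le_succ (Nat.le_add_right n k)) ?_
    rw [← (structure_AV hN hW).2.2 m, RingHom.mem_ker, map_sub, hd, sub_self]
  rw [e]
  exact hd'

end Groth.Agent.FormalModH7
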