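import Groth.Agent.Lib.FormalModH7.Real
import Groth.Agent.Lib.FormalModH7.Flat

/-!
# Coherent modules on locally Noetherian formal schemes over affine opens
-/

set_option autoImplicit false
set_option linter.style.haveILetI false
set_option backward.isDefEq.respectTransparency false
set_option backward.isDefEq.respectTransparency.types false
universe u

open CategoryTheory CategoryTheory.Limits AlgebraicGeometry Opposite TopologicalSpace

namespace Groth.Agent.FormalModH7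

variable {𝔛 : FSch.Sys.{u}} (hN : 𝔛.IsLocNoethFormal) (𝔉 : FSch.ModF 𝔛 hN.1) {V W : (𝔛.X 0).Opens}

/-- Sections of a module. -/
abbrev FSec (V : (𝔛.X 0).Opens) : Type u := ModSite.sect 𝔉 V

noncomputable instance moduleFSec (V : (𝔛.X 0).Opens) : Module (AV 𝔛 hN.1 V) (FSec hN 𝔉 V) :=
  inferInstanceAs (Module ((ModSite.ringSh (𝔛.Osh hN.1)).obj.obj (op V)) (𝔉.val.obj (op V)))

/-- Restriction of sections. -/
noncomputable abbrev rF (i : W ≤ V) : FSec hN 𝔉 V →+ FSec hN 𝔉 W := ModFlat16.smap 𝔉 (homOfLE i)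

variable [SheafOfModules.IsFinitePresentation (R := ModSite.ringSh (𝔛.Osh hN.1)) 𝔉]

/-- Sections are those of the system of inverse images. -/
noncomputable def zetaEquiv (V : (𝔛.X 0).Opens) :
    FSec hN 𝔉 V ≃ₗ[AV 𝔛 hN.1 V] RSec hN.1 (sysL hN 𝔉) V :=
  haveI := isIso_zeta hN 𝔉
  { toFun := (zeta hN 𝔉).val.app (op V)
    map_add' := map_add _
    map_smul' := ((zeta hN 𝔉).val.app (op V)).hom.map_smul
    invFun := (inv (zeta hN 𝔉)).val.app (op V)
    left_inv := fun x => congrArg (fun q => q.val.app (op V) x) (IsIso.hom_inv_id (zeta hN 𝔉))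
    right_inv := fun x => congrArg (fun q => q.val.app (op V) x) (IsIso.inv_hom_id (zeta hN 𝔉)) }

theorem zetaEquiv_rF (i : W ≤ V) (x : FSec hN 𝔉 V) :
    zetaEquiv hN 𝔉 W (rF hN 𝔉 i x) = rS hN.1 (sysL hN 𝔉) i (zetaEquiv hN 𝔉 V x) :=
  ModFlat16.app_smap (zeta hN 𝔉) (homOfLE i) x

theorem finite_FSec (hV : IsAffineOpen V) : Module.Finite (AV 𝔛 hN.1 V) (FSec hN 𝔉 V) :=
  haveI := finite_RSec (sysL hN 𝔉) hN (isCoh_sysL hN 𝔉) hV
  Module.Finite.equiv (zetaEquiv hN 𝔉 V).symm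

theorem span_map_equiv {R M N : Type*} [CommRing R] [AddCommGroup M] [AddCommGroup N] [Module R M] [Module R N]
    (e : M ≃ₗ[R] N) {ι : Type*} (s : ι → M) :
    Submodule.span R (Set.range fun j => e (s j)) = (Submodule.span R (Set.range s)).map e.toLinearMap := by
  rw [Submodule.map_span, ← Set.range_comp]
  rfl

/-- Generators over an affine open restrict to generators of affine opens. -/
theorem span_rF (hV : IsAffineOpen V) (hW : IsAffineOpen W) (i : W ≤ V) {ι : Type*} (s : ι → FSec hN 𝔉 V)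
    (hs : Submodule.span (AV 𝔛 hN.1 V) (Set.range s) = ⊤) :
    Submodule.span (AV 𝔛 hN.1 W) (Set.range fun j => rF hN 𝔉 i (s j)) = ⊤ := by
  have h1 : Submodule.span (AV 𝔛 hN.1 V) (Set.range fun j => zetaEquiv hN 𝔉 V (s j)) = ⊤ := by
    rw [span_map_equiv (zetaEquiv hN 𝔉 V) s, hs, Submodule.map_top, LinearEquiv.range]
  have h2 := span_rS (sysL hN 𝔉) hN (isCoh_sysL hN 𝔉) hV hW i _ h1
  apply Submodule.map_injective_of_injective (f := (zetaEquiv hN 𝔉 W).toLinearMap) (zetaEquiv hN 𝔉 W).injective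
  rw [← span_map_equiv (zetaEquiv hN 𝔉 W), Submodule.map_top, LinearEquiv.range]
  rw [show (fun j => zetaEquiv hN 𝔉 W (rF hN 𝔉 i (s j))) = fun j => rS hN.1 (sysL hN 𝔉) i (zetaEquiv hN 𝔉 V (s j))
    from funext fun j => zetaEquiv_rF hN 𝔉 i (s j)]
  exact h2

/-- Relations restrict between affine opens. -/
theorem rels_rF (hV : IsAffineOpen V) (hW : IsAffineOpen W) (i : W ≤ V) {ι κ : Type*} [Fintype ι]
    (s : ι → FSec hN 𝔉 V) (R : κ → ι → AV 𝔛 hN.1 V)
    (hR : ∀ a : ι → AV 𝔛 hN.1 V, ∑ j, a j • s j = 0 → a ∈ Submodule.span (AV 𝔛 hN.1 V) (Set.range R))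
    (c : ι → AV 𝔛 hN.1 W) (hc : ∑ j, c j • rF hN 𝔉 i (s j) = 0) :
    c ∈ Submodule.span (AV 𝔛 hN.1 W) (Set.range fun r j => rA hN.1 i (R r j)) := by
  refine rels_rS_any (sysL hN 𝔉) hN (isCoh_sysL hN 𝔉) hV hW i (fun j => zetaEquiv hN 𝔉 V (s j)) R (fun a ha => hR a ?_) c ?_
  · apply (zetaEquiv hN 𝔉 V).injective
    rw [map_zero, map_sum]
    simpa only [map_smul] using ha
  · have h0 := congrArg (zetaEquiv hN 𝔉 W) hc
    rw [map_zero, map_sum] at h0
    simpa only [map_smul, zetaEquiv_rF] using h0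

omit [SheafOfModules.IsFinitePresentation (R := ModSite.ringSh (𝔛.Osh hN.1)) 𝔉] in
/-- Generation on affine opens gives local generation. -/
theorem gens_of_affine {U : (𝔛.X 0).Opens} {ι : Type u} [Fintype ι] (s : ι → FSec hN 𝔉 U)
    (h : ∀ (W : (𝔛.X 0).Opens) (_ : IsAffineOpen W) (i : W ≤ U),
      Submodule.span (AV 𝔛 hN.1 W) (Set.range fun j => rF hN 𝔉 i (s j)) = ⊤) :
    ModFlat16.Gens 𝔉 U s := by
  refine ModFlat16.gens_mk _ fun {W'} k x => ⟨affSieve W', affSieve_mem W', fun W'' l hl => ?_⟩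
  obtain ⟨U', hU', h1, h2⟩ := hl
  obtain ⟨c, hc⟩ := (Submodule.mem_span_range_iff_exists_fun (AV 𝔛 hN.1 U')).1
    (h U' hU' (h2.trans k.le) ▸ (Submodule.mem_top (x := rF hN 𝔉 h2 x)))
  refine ⟨fun j => rA hN.1 h1 (c j), ?_⟩
  have h3 := congrArg (rF hN 𝔉 h1) hc.symm
  rw [ModFlat16.smap_comb, ← ModFlat16.smap_comp] at h3
  refine Eq.trans h3 (Finset.sum_congr rfl fun j _ => congrArg (rA hN.1 h1 (c j) • ·) ?_)
  rw [← ModFlat16.smap_comp]
  rfl

theorem gens_of_span (hV : IsAffineOpen V) {ι : Type u} [Fintype ι] (s : ι → FSec hN 𝔉 V)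
    (hs : Submodule.span (AV 𝔛 hN.1 V) (Set.range s) = ⊤) : ModFlat16.Gens 𝔉 V s :=
  gens_of_affine hN 𝔉 s fun _ hW i => span_rF hN 𝔉 hV hW i s hs

theorem exists_gens (hV : IsAffineOpen V) :
    ∃ (ι : Type u) (_ : Fintype ι) (s : ι → FSec hN 𝔉 V), Submodule.span (AV 𝔛 hN.1 V) (Set.range s) = ⊤ := by
  classical
  haveI := finite_FSec hN 𝔉 hV
  obtain ⟨S, hS⟩ := (Module.Finite.fg_top (R := AV 𝔛 hN.1 V) (M := FSec hN 𝔉 V))
  exact ⟨S, inferInstance, fun x => x, by rw [Subtype.range_coe_subtype]; exact hS⟩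

/-- A map of coherent modules on sections. -/
noncomputable def appLin {𝔊 : FSch.ModF 𝔛 hN.1} (φ : 𝔉 ⟶ 𝔊) (V : (𝔛.X 0).Opens) :
    FSec hN 𝔉 V →ₗ[AV 𝔛 hN.1 V] FSec hN 𝔊 V :=
  (φ.val.app (op V)).hom

set_option maxHeartbeats 1000000 in
variable {𝔉} in
/-- Over an affine open the kernel of a map of coherent modules has a finite presentation. -/
theorem hasPres_kernel {𝔊 : FSch.ModF 𝔛 hN.1} [SheafOfModules.IsFinitePresentation (R := ModSite.ringSh (𝔛.Osh hN.1)) 𝔊]
    (φ : 𝔉 ⟶ 𝔊) (hV : IsAffineOpen V) : ModFlat16.HasPres (kernel φ) V := by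
  classical
  haveI := (structure_AV hN hV).1
  haveI := finite_FSec hN 𝔉 hV
  obtain ⟨ν, hν, g, hg⟩ := exists_gens hN 𝔉 hV
  obtain ⟨S, hS⟩ : (LinearMap.ker (appLin hN 𝔉 φ V)).FG := IsNoetherian.noetherian _
  have hmem : ∀ x : S, appLin hN 𝔉 φ V x.1 = 0 := fun x =>
    LinearMap.mem_ker.1 (hS ▸ Submodule.subset_span x.2)
  choose kx hkx using fun x : S => ModFlat16.exists_mod_kernel_section φ (x.1 : FSec hN 𝔉 V) (hmem x)
  let Φ := Fintype.linearCombination (AV 𝔛 hN.1 V) (fun x : S => (x.1 : FSec hN 𝔉 V))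
  obtain ⟨T, hT⟩ : (LinearMap.ker Φ).FG := IsNoetherian.noetherian _
  have hι : ∀ {U : (𝔛.X 0).Opens} (e : U ≤ V) (x : S),
      (kernel.ι φ).val.app (op U) (rF hN (kernel φ) e (kx x)) = rF hN 𝔉 e x.1 := fun e x => by
    rw [ModFlat16.app_smap, hkx]
  refine ⟨S, T, inferInstance, inferInstance, kx, fun r => r.1, gens_of_affine hN _ kx fun W hW i => ?_,
    ModFlat16.rels_mk _ _ (fun r => ?_) fun {V'} k c hc => ?_⟩
  · -- generators
    rw [eq_top_iff]
    rintro y -
    let x : FSec hN 𝔉 W := (kernel.ι φ).val.app (op W) y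
    obtain ⟨c, hc⟩ := (Submodule.mem_span_range_iff_exists_fun (AV 𝔛 hN.1 W)).1
      (span_rF hN 𝔉 hV hW i g hg ▸ (Submodule.mem_top (x := x)))
    have hφx : ∑ j, c j • rF hN 𝔊 i (appLin hN 𝔉 φ V (g j)) = 0 := by
      have h0 := congrArg (appLin hN 𝔉 φ W) hc
      rw [show appLin hN 𝔉 φ W x = 0 from ModFlat16.app_smap_comp_zero _ φ (kernel.condition φ) y, map_sum] at h0
      refine Eq.trans (Finset.sum_congr rfl fun j _ => ?_) h0
      rw [map_smul]
      exact congrArg (c j • ·) (ModFlat16.app_smap φ (homOfLE i) (g j)).symm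
    let Φg := Fintype.linearCombination (AV 𝔛 hN.1 V) (fun j => appLin hN 𝔉 φ V (g j))
    have h1 := rels_rF hN 𝔊 hV hW i _ (fun a : LinearMap.ker Φg => a.1) (fun a ha => Submodule.subset_span
      ⟨⟨a, by rw [LinearMap.mem_ker, Fintype.linearCombination_apply]; exact ha⟩, rfl⟩) c hφx
    let L := Fintype.linearCombination (AV 𝔛 hN.1 W) (fun j => rF hN 𝔉 i (g j))
    let P := Submodule.span (AV 𝔛 hN.1 W) (Set.range fun x => rF hN (kernel φ) i (kx x))
    have hle : Submodule.span (AV 𝔛 hN.1 W) (Set.range fun (a : LinearMap.ker Φg) j => rA hN.1 i (a.1 j)) ≤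
        (P.map (appLin hN (kernel φ) (kernel.ι φ) W)).comap L := by
      rw [Submodule.span_le]
      rintro _ ⟨a, rfl⟩
      have hxk : ∑ j, a.1 j • g j ∈ Submodule.span (AV 𝔛 hN.1 V) (S : Set (FSec hN 𝔉 V)) := by
        rw [hS, LinearMap.mem_ker, map_sum]
        simpa only [map_smul, Φg, Fintype.linearCombination_apply] using LinearMap.mem_ker.1 a.2
      have e1 : L (fun j => rA hN.1 i (a.1 j)) = rF hN 𝔉 i (∑ j, a.1 j • g j) := by
        rw [Fintype.linearCombination_apply, ModFlat16.smap_comb]; rfl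
      show L (fun j => rA hN.1 i (a.1 j)) ∈ P.map (appLin hN (kernel φ) (kernel.ι φ) W)
      rw [e1]
      generalize ∑ j, a.1 j • g j = z at hxk
      induction hxk using Submodule.span_induction with
      | mem z hz => exact ⟨_, Submodule.subset_span ⟨⟨z, hz⟩, rfl⟩, hι i ⟨z, hz⟩⟩
      | zero => rw [map_zero]; exact Submodule.zero_mem _
      | add a b _ _ ha hb => rw [map_add]; exact Submodule.add_mem _ ha hb
      | smul d z _ hz => rw [ModFlat16.smap_smul]; exact Submodule.smul_mem _ _ hz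
    obtain ⟨y', hy', he⟩ := hle h1
    rw [Fintype.linearCombination_apply, hc] at he
    have hyy : y' = y := ModFlat16.sections_injective' (kernel.ι φ) W he
    show y ∈ P
    rwa [hyy] at hy'
  · have h1 : r.1 ∈ LinearMap.ker Φ := hT ▸ Submodule.subset_span r.2
    rw [LinearMap.mem_ker, Fintype.linearCombination_apply] at h1
    refine ModFlat16.sections_injective' (kernel.ι φ) V ?_
    rw [ModFlat16.app_comb, map_zero]
    simp only [hkx]
    exact h1
  · refine ⟨affSieve V', affSieve_mem V', fun W' l hl => ?_⟩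
    obtain ⟨U', hU', h1, h2⟩ := hl
    have hle : U' ≤ V := h2.trans k.le
    have h0 : ∑ x, rA hN.1 h2 (c x) • rF hN 𝔉 hle x.1 = 0 := by
      have h' := congrArg (fun z => (kernel.ι φ).val.app (op U') (rF hN (kernel φ) h2 z)) hc
      simp only [map_zero, ModFlat16.smap_comb, ModFlat16.app_comb] at h'
      refine Eq.trans (Finset.sum_congr rfl fun x _ => ?_) h'
      refine congrArg (rA hN.1 h2 (c x) • ·) ?_
      rw [← hι hle x, ← ModFlat16.smap_comp]
      rfl
    obtain ⟨d, hd⟩ := (Submodule.mem_span_range_iff_exists_fun (AV 𝔛 hN.1 U')).1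
      (rels_rF hN 𝔉 hV hU' hle (fun x : S => x.1) (fun r : T => r.1) (fun a ha => by
        have : a ∈ LinearMap.ker Φ := by rwa [LinearMap.mem_ker, Fintype.linearCombination_apply]
        rw [← hT] at this
        rwa [Subtype.range_coe_subtype]) _ h0)
    refine ⟨fun r => rA hN.1 h1 (d r), fun x => ?_⟩
    have h' := congrArg (rA hN.1 h1) (congrFun hd x).symm
    rw [Finset.sum_apply, map_sum, rA_comp] at h'
    refine Eq.trans h' (Finset.sum_congr rfl fun r _ => ?_)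
    rw [Pi.smul_apply, smul_eq_mul, map_mul, rA_comp]
    rfl

end Groth.Agent.FormalModH7

namespace Groth.Agent.FormalModH7

variable {𝔛 : FSch.Sys.{u}} (hN : 𝔛.IsLocNoethFormal) {𝔉 𝔊 : FSch.ModF 𝔛 hN.1}
  [SheafOfModules.IsFinitePresentation (R := ModSite.ringSh (𝔛.Osh hN.1)) 𝔉]
  [SheafOfModules.IsFinitePresentation (R := ModSite.ringSh (𝔛.Osh hN.1)) 𝔊]

/-- Kernels of maps of coherent modules are coherent. -/
theorem isFinitePresentation_kernel (φ : 𝔉 ⟶ 𝔊) :
    SheafOfModules.IsFinitePresentation (R := ModSite.ringSh (𝔛.Osh hN.1)) (kernel φ) := by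
  refine ModFlat16.isFinitePresentation_of_covd fun X => ⟨affSieve X, affSieve_mem X, fun U k hk => ?_⟩
  obtain ⟨U', hU', hle, -⟩ := hk
  exact ModFlat16.HasPres.res (homOfLE hle) (hasPres_kernel hN φ hU')

/-- Cokernels of maps of coherent modules are coherent. -/
theorem isFinitePresentation_coker (φ : 𝔉 ⟶ 𝔊) :
    SheafOfModules.IsFinitePresentation (R := ModSite.ringSh (𝔛.Osh hN.1)) (cokernel φ) :=
  haveI : SheafOfModules.IsFiniteType (R := ModSite.ringSh (𝔛.Osh hN.1)) 𝔉 := inferInstance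
  ModFlat16.isFinitePresentation_cokernel φ

/-- Images of maps of coherent modules are coherent. -/
theorem isFinitePresentation_image (φ : 𝔉 ⟶ 𝔊) :
    SheafOfModules.IsFinitePresentation (R := ModSite.ringSh (𝔛.Osh hN.1)) (Abelian.image φ) :=
  haveI := isFinitePresentation_coker hN φ
  isFinitePresentation_kernel hN (cokernel.π φ)

end Groth.Agent.FormalModH7
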