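import Groth.Agent.Lib.FormalModH7.Lvl

/-!
# Homomorphisms of coherent systems and of their modules
-/

set_option autoImplicit false
set_option linter.style.haveILetI false
set_option backward.isDefEq.respectTransparency false
universe u

open CategoryTheory CategoryTheory.Limits AlgebraicGeometry Opposite TopologicalSpace

namespace Groth.Agent.FormalModH7

variable {𝔛 : FSch.Sys.{u}} (hN : 𝔛.IsLocNoethFormal) {𝔐 𝔑 : FSch.ModSys 𝔛} (hM : 𝔐.IsCoh)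

theorem realModMap_proj (φ : 𝔐 ⟶ 𝔑) (k : ℕ) :
    FSch.ModSys.realModMap hN.1 φ ≫ FSch.realProj 𝔛 hN.1 𝔑.F 𝔑.toPush k =
      FSch.realProj 𝔛 hN.1 𝔐.F 𝔐.toPush k ≫ (FSch.levelMor 𝔛 hN.1 k).push.map (φ.app k) :=
  FSch.realLimMap_realProj 𝔛 hN.1 _ _ k

theorem homEquiv_pullTo {k : ℕ} {G : (𝔛.X k).Modules} (g : 𝔐.F k ⟶ G) :
    (FSch.levelMor 𝔛 hN.1 k).adj.homEquiv _ _ (pullTo 𝔐 hN k ≫ g) =
      FSch.realProj 𝔛 hN.1 𝔐.F 𝔐.toPush k ≫ (FSch.levelMor 𝔛 hN.1 k).push.map g :=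
  (Adjunction.homEquiv_naturality_right _ _ _).trans (congrArg (· ≫ _) (Equiv.apply_symm_apply _ _))

theorem pullTo_comp (φ : 𝔐 ⟶ 𝔑) (k : ℕ) :
    pullTo 𝔐 hN k ≫ φ.app k = ((FSch.levelMor 𝔛 hN.1 k).adj.homEquiv _ _).symm
      (FSch.ModSys.realModMap hN.1 φ ≫ FSch.realProj 𝔛 hN.1 𝔑.F 𝔑.toPush k) := by
  rw [realModMap_proj hN, Adjunction.homEquiv_naturality_right_symm]

include hM in
theorem realModMap_injective :
    Function.Injective (fun φ : 𝔐 ⟶ 𝔑 => FSch.ModSys.realModMap hN.1 φ) := by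
  intro φ ψ e
  refine FSch.ModSys.Hom.ext (funext fun k => ?_)
  haveI := isIso_pullTo (k := k) 𝔐 hN hM
  rw [← cancel_epi (pullTo 𝔐 hN k), pullTo_comp, pullTo_comp]
  exact congrArg (fun q => ((FSch.levelMor 𝔛 hN.1 k).adj.homEquiv _ _).symm (q ≫ _)) e

/-- The levels of a map of modules. -/
noncomputable def lvlMap (Φ : 𝔐.realMod hN.1 ⟶ 𝔑.realMod hN.1) (k : ℕ) : 𝔐.F k ⟶ 𝔑.F k :=
  haveI := isIso_pullTo (k := k) 𝔐 hN hM
  inv (pullTo 𝔐 hN k) ≫ ((FSch.levelMor 𝔛 hN.1 k).adj.homEquiv _ _).symm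
    (Φ ≫ FSch.realProj 𝔛 hN.1 𝔑.F 𝔑.toPush k)

theorem proj_lvlMap (Φ : 𝔐.realMod hN.1 ⟶ 𝔑.realMod hN.1) (k : ℕ) :
    FSch.realProj 𝔛 hN.1 𝔐.F 𝔐.toPush k ≫ (FSch.levelMor 𝔛 hN.1 k).push.map (lvlMap hN hM Φ k) =
      Φ ≫ FSch.realProj 𝔛 hN.1 𝔑.F 𝔑.toPush k := by
  haveI := isIso_pullTo (k := k) 𝔐 hN hM
  have h1 : pullTo 𝔐 hN k ≫ lvlMap hN hM Φ k = ((FSch.levelMor 𝔛 hN.1 k).adj.homEquiv _ _).symm
      (Φ ≫ FSch.realProj 𝔛 hN.1 𝔑.F 𝔑.toPush k) := IsIso.hom_inv_id_assoc _ _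
  have h2 := congrArg ((FSch.levelMor 𝔛 hN.1 k).adj.homEquiv _ _) h1
  rwa [Adjunction.homEquiv_naturality_right, Equiv.apply_symm_apply, Equiv.apply_symm_apply] at h2

theorem lvlMap_comm (Φ : 𝔐.realMod hN.1 ⟶ 𝔑.realMod hN.1) (k : ℕ) :
    𝔐.toPush k ≫ (Scheme.Modules.pushforward (𝔛.ι k)).map (lvlMap hN hM Φ k) =
      lvlMap hN hM Φ (k + 1) ≫ 𝔑.toPush k := by
  haveI := isIso_pullTo (k := k + 1) 𝔐 hN hM
  haveI : Epi (pullTo 𝔐 hN (k + 1)) := IsIso.epi_of_iso _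
  refine (cancel_epi (pullTo 𝔐 hN (k + 1))).1 ?_
  apply ((FSch.levelMor 𝔛 hN.1 (k + 1)).adj.homEquiv _ _).injective
  refine (homEquiv_pullTo hN _).trans (Eq.trans ?_ (homEquiv_pullTo hN _).symm)
  haveI : Mono ((FSch.pushCompare 𝔛 hN.1 k).app (𝔑.F k)) := by
    refine @IsIso.mono_of_iso _ _ _ _ _ ⟨(FSch.pushCompareInv 𝔛 hN.1 k).app (𝔑.F k), ?_, ?_⟩
    · exact FSch.pushCompare_pushCompareInv 𝔛 hN.1 k _
    · exact FSch.pushCompareInv_pushCompare 𝔛 hN.1 k _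
  rw [← cancel_mono ((FSch.pushCompare 𝔛 hN.1 k).app (𝔑.F k)), Functor.map_comp, Functor.map_comp]
  simp only [Category.assoc]
  have nat := (FSch.pushCompare 𝔛 hN.1 k).naturality (lvlMap hN hM Φ k)
  erw [nat, reassoc_of% (proj_lvlMap hN hM Φ (k + 1))]
  erw [FSch.realProj_map 𝔛 hN.1 𝔑.F 𝔑.toPush k, FSch.realProj_map_assoc 𝔛 hN.1 𝔐.F 𝔐.toPush k]
  exact proj_lvlMap hN hM Φ k

include hM in
theorem realModMap_surjective :
    Function.Surjective (fun φ : 𝔐 ⟶ 𝔑 => FSch.ModSys.realModMap hN.1 φ) := by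
  intro Φ
  refine ⟨⟨lvlMap hN hM Φ, fun k => ?_⟩, ?_⟩
  · apply ((Scheme.Modules.pullbackPushforwardAdjunction (𝔛.ι k)).homEquiv _ _).injective
    rw [Adjunction.homEquiv_naturality_left, Adjunction.homEquiv_naturality_right]
    exact (lvlMap_comm hN hM Φ k).symm
  · refine limit.hom_ext fun j => ?_
    induction j using Opposite.rec with
    | op k => exact (realModMap_proj hN _ k).trans (proj_lvlMap hN hM Φ k)

end Groth.Agent.FormalModH7
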