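import Groth.Agent.Lib.FormalModH7.CplBridge
import Groth.Agent.Lib.FormalModH7.Hom
import Groth.Agent.S4473

/-!
# Maps of completions of coherent modules with proper common support are algebraic
-/

set_option autoImplicit false
set_option linter.style.haveILetI false
set_option backward.isDefEq.respectTransparency false
set_option backward.isDefEq.respectTransparency.types false
universe u

open CategoryTheory CategoryTheory.Limits AlgebraicGeometry Opposite TopologicalSpace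

namespace Groth.Agent.FormalModH7

theorem comp_transition {X Y : Scheme.{u}} {F : X.Modules} (p : Y ⟶ X) {G : Y.Modules}
    (φ : (Scheme.Modules.pullback p).obj F ⟶ G) (U : X.Opens) (s : Γ(F, U)) :
    (((Scheme.Modules.pullbackPushforwardAdjunction p).unit.app F) ≫ (Scheme.Modules.pushforward p).map φ).app U s =
      φ.app (p ⁻¹ᵁ U) (((Scheme.Modules.pullbackPushforwardAdjunction p).unit.app F).app U s) := rfl

variable {A : Type u} [CommRing A] [IsNoetherianRing A] (J : Ideal A) [IsAdicComplete J A] {X : Scheme.{u}}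
  [X.Over (Spec (CommRingCat.of A))]
  [LocallyOfFiniteType (X ↘ Spec (CommRingCat.of A))] [QuasiCompact (X ↘ Spec (CommRingCat.of A))]
  [IsLocallyNoetherian X]
  (𝓘 : X.IdealSheafData) (h𝓘 : 𝓘 = (FSch.idealSpec A J).comap (X ↘ Spec (CommRingCat.of A)))
  (h : (FSch.completionAlong X 𝓘).IsFormal) {F G : X.Modules}

include h𝓘 in
/-- Maps of completions are completions of maps. -/
theorem exists_complModMap_eq (hF : Coh.IsCoh F) (hG : Coh.IsCoh G)
    (hs : ClSub.IsProperOver (X ↘ Spec (CommRingCat.of A)) (CohB1.support F ∩ CohB1.support G))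
    (Φ : (FSch.complMod 𝓘 F).realMod h ⟶ (FSch.complMod 𝓘 G).realMod h) :
    ∃ φ : F ⟶ G, FSch.ModSys.realModMap h (FSch.complModMap 𝓘 φ) = Φ := by
  haveI : Coh.IsQCoh F := hF.1
  haveI : Coh.IsQCoh G := hG.1
  have hN := isLocNoethFormal_completionAlong 𝓘 h
  obtain ⟨σ, hσ⟩ := realModMap_surjective hN (isCoh_complMod 𝓘 hF) Φ
  haveI : ∀ n, IsIso (cmpLvl J 𝓘 h𝓘 n h hG.1) := fun n => isIso_cmpLvl J 𝓘 h𝓘 n h hG
  let Ψ : ∀ n, F ⟶ Formal.modPow J (n + 1) G := fun n =>
    unitLvl F n 𝓘 ≫ (Scheme.Modules.pushforward (FSch.completionToX X 𝓘 n)).map (σ.app n) ≫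
      inv (cmpLvl J 𝓘 h𝓘 n h hG.1)
  have hΨc : ∀ n, Ψ n ≫ cmpLvl J 𝓘 h𝓘 n h hG.1 =
      unitLvl F n 𝓘 ≫ (Scheme.Modules.pushforward (FSch.completionToX X 𝓘 n)).map (σ.app n) := fun n => by
    simp only [Ψ, Category.assoc, IsIso.inv_hom_id, Category.comp_id]
  -- the levels of sections
  have hlev : ∀ n (W : X.Opens) (hW : IsAffineOpen W) (s : Γ(F, W)) (t : Γ(G, W)),
      (Formal.modPowπ J (n + 1) G).app W t = (Ψ n).app W s ↔
        resC 𝓘 h G n W t = (σ.app n).app ((FSch.completionAlong X 𝓘).lvU h n (zO 𝓘 W)) (resC 𝓘 h F n W s) := by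
    intro n W hW s t
    have e1 : (cmpLvl J 𝓘 h𝓘 n h hG.1).app W ((Ψ n).app W s) =
        (σ.app n).app (FSch.completionToX X 𝓘 n ⁻¹ᵁ W) ((unitLvl F n 𝓘).app W s) :=
      (congrArg (fun q => q.app W s) (hΨc n)).trans (comp_transition _ (σ.app n) W s)
    have hinj : Function.Injective ((cmpLvl J 𝓘 h𝓘 n h hG.1).app W) := M1.app_injective _ W
    rw [← hinj.eq_iff, app_π_cmpLvl, e1, resC_eq_mres, resC_eq_mres, M1.app_mres]
    exact ⟨fun e => by rw [e], fun e => sub_eq_zero.1 (mres_injective_of_eq _ (lvU_zO 𝓘 h n W) _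
      ((map_sub _ _ _).trans (sub_eq_zero.2 e)))⟩
  have hcompat : ∀ n, Ψ (n + 1) ≫ Formal.modPowTrans J (n + 1) G = Ψ n := fun n => by
    refine ModLimH13.hom_ext_affine _ _ fun x => ⟨⊤, trivial, fun W _ hW s => ?_⟩
    obtain ⟨t, ht⟩ := HomShH7.surjective_app_modPowπ J hG (n + 1 + 1) hW ((Ψ (n + 1)).app W s)
    have h1 := (hlev (n + 1) W hW s t).1 ht
    show (Formal.modPowTrans J (n + 1) G).app W ((Ψ (n + 1)).app W s) = (Ψ n).app W s
    rw [← ht]
    refine Eq.trans (congrArg (fun q => q.app W t) (Formal.modPowπ_trans J (n + 1) G)) ?_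
    refine (hlev n W hW s t).2 ?_
    have hx : ∀ k, piM h (FSch.complMod 𝓘 G) (zO 𝓘 W) k
        ((FSch.ModSys.realModMap h σ).val.app (op (zO 𝓘 W)) (cplSec 𝓘 h F W s)) =
          (σ.app k).app ((FSch.completionAlong X 𝓘).lvU h k (zO 𝓘 W)) (resC 𝓘 h F k W s) := fun k => by
      refine (congrArg (fun q => q.val.app (op (zO 𝓘 W)) (cplSec 𝓘 h F W s))
        (FSch.realLimMap_realProj (FSch.completionAlong X 𝓘) h σ.app (FSch.ModSys.Hom.toPush_comm σ) k)).trans ?_
      exact congrArg ((σ.app k).app ((FSch.completionAlong X 𝓘).lvU h k (zO 𝓘 W))) (piM_cplSec 𝓘 h F W s k)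
    rw [← hx, ← trM_piM h (FSch.complMod 𝓘 G) (zO 𝓘 W), hx, ← h1, trM_resC]
  let χ : ∀ n, Formal.modPow J (n + 1) F ⟶ Formal.modPow J (n + 1) G := fun n =>
    cokernel.desc _ (Ψ n) (FormalH7.smulFamily_comp_of_killed _ (FormalH7.killedBy_modPow J (n + 1) G))
  have hπχ : ∀ n, Formal.modPowπ J (n + 1) F ≫ χ n = Ψ n := fun n => cokernel.π_desc _ _ _
  let ψ : Formal.completion J F ⟶ Formal.completion J G := NatTrans.ofOpSequence χ fun n => by
    haveI : Epi (Formal.modPowπ J (n + 1 + 1) F) := FormalH7.epi_modPowπ J (n + 1 + 1) F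
    rw [Algz27C.completion_map, Algz27C.completion_map]
    refine (cancel_epi (Formal.modPowπ J (n + 1 + 1) F)).1 ?_
    refine (Category.assoc _ _ _).symm.trans ((congrArg (· ≫ χ n) (Formal.modPowπ_trans J (n + 1) F)).trans ?_)
    refine (hπχ n).trans ((hcompat n).symm.trans ?_)
    exact (congrArg (· ≫ _) (hπχ (n + 1)).symm).trans (Category.assoc _ _ _)
  obtain ⟨φ, hφ, -⟩ := Groth.Agent.S4473.result A J X F G hF hG hs ψ
  refine ⟨φ, hσ ▸ congrArg (FSch.ModSys.realModMap h) (FSch.ModSys.Hom.ext (funext fun n => ?_))⟩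
  rw [FSch.complModMap_app]
  apply ((Scheme.Modules.pullbackPushforwardAdjunction (FSch.completionToX X 𝓘 n)).homEquiv _ _).injective
  rw [Adjunction.homEquiv_unit, Adjunction.homEquiv_unit]
  have h1 : Ψ n = φ ≫ Formal.modPowπ J (n + 1) G := (hπχ n).symm.trans (hφ n)
  have h2 := hΨc n
  rw [h1, Category.assoc, π_cmpLvl] at h2
  exact ((Scheme.Modules.pullbackPushforwardAdjunction (FSch.completionToX X 𝓘 n)).unit.naturality φ).symm.trans h2

end Groth.Agent.FormalModH7
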