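import Groth.Agent.Lib.FormalModH7.Coh
import Groth.Agent.Lib.FormalH7.Sys
import Groth.Agent.Lib.FormalModH7.ClosedSec
import Groth.Agent.Lib.ModM1.Pull

/-!
# The completion of a coherent module along an ideal sheaf, over affine opens
-/

set_option autoImplicit false
set_option linter.style.haveILetI false
set_option backward.isDefEq.respectTransparency false
set_option backward.isDefEq.respectTransparency.types false
universe u

open CategoryTheory CategoryTheory.Limits AlgebraicGeometry Opposite TopologicalSpace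

namespace Groth.Agent.FormalModH7

variable {X : Scheme.{u}} (𝓘 : X.IdealSheafData)

theorem isLocNoethFormal_completionAlong [IsLocallyNoetherian X] (h : (FSch.completionAlong X 𝓘).IsFormal) :
    (FSch.completionAlong X 𝓘).IsLocNoethFormal :=
  ⟨h, (FormalH7.isFormal_isAdic_completionAlong X 𝓘).2, fun n =>
    LocallyOfFiniteType.isLocallyNoetherian (FSch.completionToX X 𝓘 n)⟩

theorem isCoh_complMod {F : X.Modules} (hF : Coh.IsCoh F) : (FSch.complMod 𝓘 F).IsCoh :=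
  fun n => M1.isCoh_pullback (FSch.completionToX X 𝓘 n) hF

theorem trM_apply {𝔛 : FSch.Sys.{u}} (h : 𝔛.IsFormal) (𝔐 : FSch.ModSys 𝔛) (V : (𝔛.X 0).Opens) (n : ℕ)
    (t : MV h 𝔐 V (n + 1)) :
    trM h 𝔐 V n t = (𝔐.e n).hom.app (𝔛.lvU h n V)
      (ModLimH13.res' (𝔛.ι n) (𝔐.F (n + 1)) (𝔛.lvU_le h n V) t) := rfl

/-- The trace of an open on the closed subscheme. -/
noncomputable abbrev zO (U : X.Opens) : ((FSch.completionAlong X 𝓘).X 0).Opens := FSch.completionToX X 𝓘 0 ⁻¹ᵁ U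

variable (h : (FSch.completionAlong X 𝓘).IsFormal)

theorem lvU_zO (n : ℕ) (U : X.Opens) :
    FSch.completionToX X 𝓘 n ⁻¹ᵁ U = (FSch.completionAlong X 𝓘).lvU h n (zO 𝓘 U) :=
  FSch.lvU_p _ h (FSch.completionToX X 𝓘) (FSch.completionToX_comm X 𝓘) n U

theorem isAffineOpen_zO {U : X.Opens} (hU : IsAffineOpen U) : IsAffineOpen (zO 𝓘 U) :=
  hU.preimage (FSch.completionToX X 𝓘 0)

theorem zO_mono {U U' : X.Opens} (e : U' ≤ U) : zO 𝓘 U' ≤ zO 𝓘 U := (FSch.completionToX X 𝓘 0).preimage_mono e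

/-- The map of a ring of sections to a level. -/
noncomputable def shL (n : ℕ) (U : X.Opens) : Γ(X, U) →+* LV (FSch.completionAlong X 𝓘) h n (zO 𝓘 U) :=
  ((FSch.completionToX X 𝓘 n).appLE U _ (lvU_zO 𝓘 h n U).ge).hom

theorem shL_surjective (n : ℕ) {U : X.Opens} (hU : IsAffineOpen U) : Function.Surjective (shL 𝓘 h n U) := by
  have h1 := (FSch.completionToX X 𝓘 n).app_surjective U hU
  have key : ∀ (W : ((FSch.completionAlong X 𝓘).X n).Opens) (e : FSch.completionToX X 𝓘 n ⁻¹ᵁ U = W),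
      Function.Surjective ((FSch.completionToX X 𝓘 n).appLE U W e.ge) := by
    rintro W rfl
    rw [← Scheme.Hom.app_eq_appLE]
    exact h1
  exact key _ (lvU_zO 𝓘 h n U)

theorem ker_shL (n : ℕ) {U : X.Opens} (hU : IsAffineOpen U) :
    RingHom.ker (shL 𝓘 h n U) = 𝓘.ideal ⟨U, hU⟩ ^ (n + 1) := by
  refine (ker_appLE_eq (FSch.completionToX X 𝓘 n) ⟨U, hU⟩ _ (lvU_zO 𝓘 h n U).symm).trans ?_
  rw [FormalH7.completionAlong_ker, Scheme.IdealSheafData.ideal_pow]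
  rfl

/-- The map of a ring of sections to its completion. -/
noncomputable def shA (U : X.Opens) : Γ(X, U) →+* AV (FSch.completionAlong X 𝓘) h (zO 𝓘 U) :=
  ModFlat16.shp (FSch.toSchemeMor (FSch.completionAlong X 𝓘) h (FSch.completionToX X 𝓘) (FSch.completionToX_comm X 𝓘)) U

theorem prj_shA (n : ℕ) (U : X.Opens) (a : Γ(X, U)) :
    prj (FSch.completionAlong X 𝓘) h (zO 𝓘 U) n (shA 𝓘 h U a) = shL 𝓘 h n U a := by
  have h1 := congrArg (fun φ => (φ.hom.app (op U)).hom a)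
    (FSch.schSharp_proj (FSch.completionAlong X 𝓘) h (FSch.completionToX X 𝓘) (FSch.completionToX_comm X 𝓘) n)
  exact h1.trans (congrArg (fun φ => φ.hom a)
    (FSch.schLevel_app (FSch.completionAlong X 𝓘) h (FSch.completionToX X 𝓘) (FSch.completionToX_comm X 𝓘) n (op U)))

variable (F : X.Modules)

/-- The image of a section at a level. -/
noncomputable def resC (n : ℕ) (U : X.Opens) :
    Γ(F, U) →+ MV h (FSch.complMod 𝓘 F) (zO 𝓘 U) n :=
  AddMonoidHom.mk' (ModLimH13.res' (FSch.completionToX X 𝓘 n) F (lvU_zO 𝓘 h n U).ge)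
    (ModLimH13.res'_add _ _ _)

theorem resC_smul (n : ℕ) (U : X.Opens) (a : Γ(X, U)) (s : Γ(F, U)) :
    resC 𝓘 h F n U (a • s) =
      (shL 𝓘 h n U a • (resC 𝓘 h F n U s : Γ((FSch.complMod 𝓘 F).F n, (FSch.completionAlong X 𝓘).lvU h n (zO 𝓘 U))) : Γ((FSch.complMod 𝓘 F).F n, _)) :=
  ModLimH13.res'_smul _ _ _ a s

theorem complMod_e_app (n : ℕ) :
    ((FSch.complMod 𝓘 F).e n) = (FSch.complTransIso 𝓘 n).app F := FSch.complMod_e 𝓘 F n

theorem complTransIso_eq_cmp (n : ℕ) :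
    (FSch.complTransIso 𝓘 n) = (ModLimH13.cmp ((FSch.completionAlong X 𝓘).ι n) (FSch.completionToX X 𝓘 (n + 1))
        (h := FSch.completionToX X 𝓘 n) (FSch.completionToX_comm X 𝓘 n)) := by
  unfold FSch.complTransIso ModLimH13.cmp
  exact rfl

theorem complMod_hom (n : ℕ) :
    ((FSch.complMod 𝓘 F).e n).hom = (FSch.complTransIso 𝓘 n).hom.app F := (congrArg Iso.hom (complMod_e_app 𝓘 F n)).trans (Iso.app_hom (FSch.complTransIso 𝓘 n) F)

theorem complMod_hom_cmp (n : ℕ) :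
    ((FSch.complMod 𝓘 F).e n).hom =
      (ModLimH13.cmp ((FSch.completionAlong X 𝓘).ι n) (FSch.completionToX X 𝓘 (n + 1))
        (h := FSch.completionToX X 𝓘 n) (FSch.completionToX_comm X 𝓘 n)).hom.app F :=
  (complMod_hom 𝓘 F n).trans (congrArg (fun e => e.hom.app F) (complTransIso_eq_cmp 𝓘 n))

theorem trM_eq_trans (n : ℕ) (V : ((FSch.completionAlong X 𝓘).X 0).Opens)
    (t : MV h (FSch.complMod 𝓘 F) V (n + 1)) :
    trM h (FSch.complMod 𝓘 F) V n t =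
      ModLimH13.trans ((FSch.completionAlong X 𝓘).ι n) (FSch.completionToX X 𝓘 (n + 1)) F
        (h := FSch.completionToX X 𝓘 n) (FSch.completionToX_comm X 𝓘 n) ((FSch.completionAlong X 𝓘).lvU_le h n V) t := by
  refine (trM_apply h (FSch.complMod 𝓘 F) V n t).trans ?_
  rw [ModLimH13.trans, ← complMod_hom_cmp]
  with_unfolding_all exact congrArg _ rfl

theorem trM_resC (n : ℕ) (U : X.Opens) (s : Γ(F, U)) :
    trM h (FSch.complMod 𝓘 F) (zO 𝓘 U) n (resC 𝓘 h F (n + 1) U s) = resC 𝓘 h F n U s := by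
  rw [trM_eq_trans]
  exact ModLimH13.trans_res' ((FSch.completionAlong X 𝓘).ι n) (FSch.completionToX X 𝓘 (n + 1)) F
    (FSch.completionToX_comm X 𝓘 n) ((FSch.completionAlong X 𝓘).lvU_le h n (zO 𝓘 U))
    (lvU_zO 𝓘 h (n + 1) U).ge s

theorem exists_cplSec (U : X.Opens) (s : Γ(F, U)) :
    ∃ x : RSec h (FSch.complMod 𝓘 F) (zO 𝓘 U),
      ∀ n, piM h (FSch.complMod 𝓘 F) (zO 𝓘 U) n x = resC 𝓘 h F n U s := by
  have key : ∀ y : ∀ n, MV h (FSch.complMod 𝓘 F) (zO 𝓘 U) n,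
      (∀ n, y n = resC 𝓘 h F n U s) →
      ∃ x : RSec h (FSch.complMod 𝓘 F) (zO 𝓘 U), ∀ n, piM h (FSch.complMod 𝓘 F) (zO 𝓘 U) n x = y n := fun y hy =>
    exists_piM h (FSch.complMod 𝓘 F) (zO 𝓘 U) y fun n => by rw [hy, hy]; exact trM_resC 𝓘 h F n U s
  obtain ⟨x, hx⟩ := key (fun n => resC 𝓘 h F n U s) fun _ => rfl
  exact ⟨x, hx⟩

/-- The image of a section in the completion. -/
noncomputable def cplSec (U : X.Opens) (s : Γ(F, U)) : RSec h (FSch.complMod 𝓘 F) (zO 𝓘 U) :=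
  (exists_cplSec 𝓘 h F U s).choose

theorem piM_cplSec (U : X.Opens) (s : Γ(F, U)) (n : ℕ) :
    piM h (FSch.complMod 𝓘 F) (zO 𝓘 U) n (cplSec 𝓘 h F U s) = resC 𝓘 h F n U s :=
  (exists_cplSec 𝓘 h F U s).choose_spec n

theorem RSec_ext {V : ((FSch.completionAlong X 𝓘).X 0).Opens} {x y : RSec h (FSch.complMod 𝓘 F) V}
    (hxy : ∀ n, piM h (FSch.complMod 𝓘 F) V n x = piM h (FSch.complMod 𝓘 F) V n y) : x = y := by
  refine sub_eq_zero.1 (piM_ext h _ _ fun n => ?_)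
  rw [map_sub, hxy, sub_self]

theorem cplSec_add (U : X.Opens) (s t : Γ(F, U)) :
    cplSec 𝓘 h F U (s + t) = cplSec 𝓘 h F U s + cplSec 𝓘 h F U t :=
  RSec_ext 𝓘 h F fun n => by rw [map_add, piM_cplSec, piM_cplSec, piM_cplSec, map_add]

theorem cplSec_smul (U : X.Opens) (a : Γ(X, U)) (s : Γ(F, U)) :
    cplSec 𝓘 h F U (a • s) = shA 𝓘 h U a • cplSec 𝓘 h F U s :=
  RSec_ext 𝓘 h F fun n => by
    rw [piM_smul, piM_cplSec, piM_cplSec, prj_shA, resC_smul]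

theorem cplSec_zero (U : X.Opens) : cplSec 𝓘 h F U 0 = 0 :=
  RSec_ext 𝓘 h F fun n => by rw [piM_cplSec, map_zero, map_zero]

theorem mres_resC (n : ℕ) {U U' : X.Opens} (e : U' ≤ U) (s : Γ(F, U)) :
    M1.mres ((FSch.complMod 𝓘 F).F n) (lvU_mono h (zO_mono 𝓘 e) n) (resC 𝓘 h F n U s) =
      resC 𝓘 h F n U' (M1.mres F e s) :=
  (ModLimH13.mres_res' (FSch.completionToX X 𝓘 n) F (lvU_zO 𝓘 h n U).ge _ s).trans
    (ModLimH13.res'_mres (FSch.completionToX X 𝓘 n) F e (lvU_zO 𝓘 h n U').ge s).symm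

theorem rS_cplSec {U U' : X.Opens} (e : U' ≤ U) (s : Γ(F, U)) :
    rS h (FSch.complMod 𝓘 F) (zO_mono 𝓘 e) (cplSec 𝓘 h F U s) = cplSec 𝓘 h F U' (M1.mres F e s) :=
  RSec_ext 𝓘 h F fun n => by rw [piM_rS, piM_cplSec, piM_cplSec, mres_resC]

section QCoh

variable {U : X.Opens} (hU : IsAffineOpen U) [Coh.IsQCoh F]

include hU in
theorem resC_surjective (n : ℕ) : Function.Surjective (resC 𝓘 h F n U) :=
  res'_surjective (FSch.completionToX X 𝓘 n) F (lvU_zO 𝓘 h n U).ge hU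
    ((lvU_zO 𝓘 h n U) ▸ hU.preimage (FSch.completionToX X 𝓘 n)) (shL_surjective 𝓘 h n hU)

theorem resC_eq_zero_iff (n : ℕ) (s : Γ(F, U)) :
    resC 𝓘 h F n U s = 0 ↔ s ∈ 𝓘.ideal ⟨U, hU⟩ ^ (n + 1) • (⊤ : Submodule Γ(X, U) Γ(F, U)) := by
  rw [← ker_shL 𝓘 h n hU]
  exact res'_eq_zero_iff (FSch.completionToX X 𝓘 n) F (lvU_zO 𝓘 h n U).ge hU
    ((lvU_zO 𝓘 h n U) ▸ hU.preimage (FSch.completionToX X 𝓘 n)) (shL_surjective 𝓘 h n hU) s

end QCoh

variable {𝓘}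

/-- The arrows factoring through traces of affine opens. -/
def zSieve (V : ((FSch.completionAlong X 𝓘).X 0).Opens) : Sieve V where
  arrows W _ := ∃ U : X.Opens, IsAffineOpen U ∧ W ≤ zO 𝓘 U ∧ zO 𝓘 U ≤ V
  downward_closed := by
    rintro W₁ W₂ f ⟨U, h1, h2, h3⟩ g
    exact ⟨U, h1, g.le.trans h2, h3⟩

theorem exists_affine_zO {V : ((FSch.completionAlong X 𝓘).X 0).Opens} {x : (FSch.completionAlong X 𝓘).X 0}
    (hx : x ∈ V) : ∃ U : X.Opens, IsAffineOpen U ∧ x ∈ zO 𝓘 U ∧ zO 𝓘 U ≤ V := by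
  obtain ⟨T, hT, hTV⟩ := (FSch.completionToX X 𝓘 0).isClosedEmbedding.isInducing.isOpen_iff.1 V.2
  have hxT : FSch.completionToX X 𝓘 0 x ∈ T := by
    have : x ∈ (FSch.completionToX X 𝓘 0) ⁻¹' T := by
      show x ∈ _
      rw [hTV]
      exact hx
    exact this
  obtain ⟨U, hU, hxU, hUT⟩ := exists_isAffineOpen_mem_and_subset (U := ⟨T, hT⟩) hxT
  refine ⟨U, hU, hxU, fun y hy => ?_⟩
  have : y ∈ (FSch.completionToX X 𝓘 0) ⁻¹' T := hUT hy
  rwa [hTV] at this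

theorem zSieve_mem (V : ((FSch.completionAlong X 𝓘).X 0).Opens) :
    zSieve V ∈ Opens.grothendieckTopology _ V := fun x hx => by
  obtain ⟨U, hU, hxU, hUV⟩ := exists_affine_zO hx
  exact ⟨zO 𝓘 U, homOfLE hUV, ⟨U, hU, le_rfl, hUV⟩, hxU⟩

end Groth.Agent.FormalModH7
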