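import Groth.Agent.Lib.FormalModH7.CplSec
import Groth.Agent.Lib.FormalModH7.Cpl
import Groth.Agent.Lib.AffHom12.Basic
import Groth.Agent.Lib.ModM1.Coh

/-!
# Coherent systems on a formal spectrum
-/

set_option autoImplicit false
set_option linter.style.haveILetI false
set_option linter.unusedSectionVars false
set_option backward.isDefEq.respectTransparency false
set_option backward.isDefEq.respectTransparency.types false
universe u

open CategoryTheory CategoryTheory.Limits AlgebraicGeometry Opposite TopologicalSpace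

noncomputable section

namespace Groth.Agent.FormalModH7

/-- Membership in multiples along a semilinear bijection. -/
theorem mem_smul_top_iff_of_semilinear {A B M N : Type*} [CommRing A] [CommRing B] [AddCommGroup M] [Module A M]
    [AddCommGroup N] [Module B N] (g : A →+* B) (hg : Function.Surjective g) (f : M →+ N) (hf : Function.Bijective f)
    (hlin : ∀ a x, f (a • x) = g a • f x) (K : Ideal A) (x : M) :
    x ∈ K • (⊤ : Submodule A M) ↔ f x ∈ K.map g • (⊤ : Submodule B N) := by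
  constructor
  · intro hx
    refine Submodule.smul_induction_on hx (fun a ha y _ => ?_) fun a b ha hb => by
      rw [map_add]; exact Submodule.add_mem _ ha hb
    rw [hlin]
    exact Submodule.smul_mem_smul (Ideal.mem_map_of_mem g ha) Submodule.mem_top
  · intro hx
    obtain ⟨x', hx', he⟩ : ∃ x' ∈ K • (⊤ : Submodule A M), f x' = f x := by
      refine Submodule.smul_induction_on hx (fun b hb z _ => ?_) fun a b ha hb => ?_
      · obtain ⟨a, ha, rfl⟩ := (Ideal.mem_map_iff_of_surjective g hg).1 hb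
        obtain ⟨y, rfl⟩ := hf.2 z
        exact ⟨a • y, Submodule.smul_mem_smul ha Submodule.mem_top, hlin a y⟩
      · obtain ⟨y, hy, rfl⟩ := ha
        obtain ⟨z, hz, rfl⟩ := hb
        exact ⟨y + z, Submodule.add_mem _ hy hz, map_add f y z⟩
    rwa [← hf.1 he]

/-- Descent along a surjection with smaller kernel. -/
theorem exists_desc {M P Q : Type*} [AddCommGroup M] [AddCommGroup P] [AddCommGroup Q] (q : M →+ P) (p : M →+ Q)
    (hq : Function.Surjective q) (h : ∀ x, q x = 0 → p x = 0) : ∃ l : P →+ Q, ∀ x, l (q x) = p x := by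
  choose s hs using hq
  have key : ∀ x, p (s (q x)) = p x := fun x => sub_eq_zero.1 (by
    rw [← map_sub]
    exact h _ (by rw [map_sub, hs, sub_self]))
  refine ⟨AddMonoidHom.mk' (fun t => p (s t)) fun t t' => ?_, key⟩
  obtain ⟨x, rfl⟩ : ∃ x, q x = t := ⟨_, hs t⟩
  obtain ⟨y, rfl⟩ : ∃ y, q y = t' := ⟨_, hs t'⟩
  show p (s (q x + q y)) = p (s (q x)) + p (s (q y))
  rw [key, key, ← map_add q, key, map_add]

variable {A : Type u} [CommRing A] [IsNoetherianRing A] (J : Ideal A)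

/-- The completion of the spectrum. -/
abbrev Xh : FSch.Sys.{u} := FSch.completionAlong (Spec (CommRingCat.of A)) (FSch.idealSpec A J)

theorem formal_Xh : (Xh J).IsFormal :=
  (FormalH7.isFormal_isAdic_completionAlong (Spec (CommRingCat.of A)) (FSch.idealSpec A J)).1

theorem noeth_Xh : (Xh J).IsLocNoethFormal := isLocNoethFormal_completionAlong _ (formal_Xh J)

/-- The common space as an open. -/
abbrev V0 : ((Xh J).X 0).Opens := zO (FSch.idealSpec A J) ⊤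

theorem isAffineOpen_V0 : IsAffineOpen (V0 J) := isAffineOpen_zO _ (isAffineOpen_top _)

/-- The ring as global functions. -/
abbrev gT (A : Type u) [CommRing A] : A →+* Γ(Spec (CommRingCat.of A), ⊤) :=
  (Scheme.ΓSpecIso (CommRingCat.of A)).inv.hom

omit [IsNoetherianRing A] in
theorem gT_bijective : Function.Bijective (gT A) :=
  ConcreteCategory.bijective_of_isIso (Scheme.ΓSpecIso (CommRingCat.of A)).inv

/-- The ring to the sections of the formal spectrum. -/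
def phiA : A →+* AV (Xh J) (noeth_Xh J).1 (V0 J) := (shA (FSch.idealSpec A J) (noeth_Xh J).1 ⊤).comp (gT A)

theorem prj_phiA (n : ℕ) (a : A) :
    prj (Xh J) (noeth_Xh J).1 (V0 J) n (phiA J a) = shL (FSch.idealSpec A J) (noeth_Xh J).1 n ⊤ (gT A a) :=
  prj_shA _ _ n ⊤ (gT A a)

theorem shL_gT_eq_zero_iff (n : ℕ) (a : A) :
    shL (FSch.idealSpec A J) (noeth_Xh J).1 n ⊤ (gT A a) = 0 ↔ a ∈ J ^ (n + 1) := by
  rw [← RingHom.mem_ker, ker_shL _ _ n (isAffineOpen_top _), FormalH7.idealSpec_ideal_top', ← Ideal.map_pow]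
  constructor
  · intro h
    obtain ⟨b, hb, hab⟩ := (Ideal.mem_map_iff_of_surjective _ gT_bijective.2).1 h
    rwa [← gT_bijective.1 hab]
  · exact Ideal.mem_map_of_mem _

theorem phiA_surjective [IsAdicComplete J A] : Function.Surjective (phiA J) := fun y => by
  choose a ha using fun n => (shL_surjective (FSch.idealSpec A J) (noeth_Xh J).1 n (isAffineOpen_top _)).comp gT_bijective.2
    (prj (Xh J) (noeth_Xh J).1 (V0 J) n y)
  have key : ∀ m n, m ≤ n → prj (Xh J) (noeth_Xh J).1 (V0 J) m (phiA J (a n)) =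
      prj (Xh J) (noeth_Xh J).1 (V0 J) m y := fun m n e => by
    have hstep : ∀ z z' : AV (Xh J) (noeth_Xh J).1 (V0 J), prj (Xh J) (noeth_Xh J).1 (V0 J) n z =
        prj (Xh J) (noeth_Xh J).1 (V0 J) n z' →
        prj (Xh J) (noeth_Xh J).1 (V0 J) m z = prj (Xh J) (noeth_Xh J).1 (V0 J) m z' := by
      induction n, e using Nat.le_induction with
      | base => exact fun z z' h => h
      | succ n _ ih => exact fun z z' h => ih z z' (by rw [← tr_prj, h, tr_prj])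
    exact hstep _ _ ((prj_phiA J n (a n)).trans (ha n))
  have hc : ∀ {m n}, m ≤ n → a m ≡ a n [SMOD (J ^ m • ⊤ : Submodule A A)] := fun {m n} e => by
    rw [SModEq.sub_mem, smul_eq_mul, Ideal.mul_top]
    refine Ideal.pow_le_pow_right m.le_succ ((shL_gT_eq_zero_iff J m _).1 ?_)
    rw [← prj_phiA, map_sub, map_sub, key m m le_rfl, key m n e, sub_self]
  obtain ⟨L, hL⟩ := IsPrecomplete.prec' a hc
  refine ⟨L, ext (Xh J) (noeth_Xh J).1 (V0 J) fun n => ?_⟩
  have h1 := hL (n + 1)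
  rw [SModEq.sub_mem, smul_eq_mul, Ideal.mul_top] at h1
  have h2 := (shL_gT_eq_zero_iff J n _).2 h1
  rw [← prj_phiA, map_sub, map_sub, sub_eq_zero] at h2
  exact h2.symm.trans (key n (n + 1) n.le_succ)

theorem map_phiA [IsAdicComplete J A] : J.map (phiA J) = defIdeal (Xh J) (noeth_Xh J).1 (V0 J) := by
  refine le_antisymm (Ideal.map_le_iff_le_comap.2 fun a ha => ?_) fun y hy => ?_
  · rw [Ideal.mem_comap, defIdeal, RingHom.mem_ker, prj_phiA, shL_gT_eq_zero_iff, zero_add, pow_one]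
    exact ha
  · obtain ⟨a, rfl⟩ := phiA_surjective J y
    rw [defIdeal, RingHom.mem_ker, prj_phiA, shL_gT_eq_zero_iff, zero_add, pow_one] at hy
    exact Ideal.mem_map_of_mem _ hy

section

/-- The associated sheaf. -/
abbrev TM {A : Type u} [CommRing A] (M : ModuleCat.{u} A) : (Spec (CommRingCat.of A)).Modules :=
  tilde (R := CommRingCat.of A) M

variable [IsAdicComplete J A] (𝔐 : FSch.ModSys (Xh J)) (hM : 𝔐.IsCoh)

/-- The sections of the module, over the ring. -/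
def secMod : ModuleCat.{u} A :=
  letI : Module A (RSec (noeth_Xh J).1 𝔐 (V0 J)) := Module.compHom _ (phiA J)
  ModuleCat.of A (RSec (noeth_Xh J).1 𝔐 (V0 J))

/-- A section as an element of the sections over the ring. -/
def secIn : secMod J 𝔐 →+ RSec (noeth_Xh J).1 𝔐 (V0 J) :=
  AddMonoidHom.id _

theorem secIn_bijective : Function.Bijective (secIn J 𝔐) := Function.bijective_id

theorem secIn_smul (a : A) (x : secMod J 𝔐) : secIn J 𝔐 (a • x) = phiA J a • secIn J 𝔐 x := rfl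

include hM in
theorem finite_secMod : Module.Finite A (secMod J 𝔐) := by
  haveI := finite_RSec 𝔐 (noeth_Xh J) hM (isAffineOpen_V0 J)
  obtain ⟨T, hT⟩ := Module.Finite.fg_top (R := AV (Xh J) (noeth_Xh J).1 (V0 J))
    (M := RSec (noeth_Xh J).1 𝔐 (V0 J))
  refine ⟨⟨T, eq_top_iff.2 fun x _ => ?_⟩⟩
  have hx : secIn J 𝔐 x ∈ Submodule.span (AV (Xh J) (noeth_Xh J).1 (V0 J)) (T : Set (RSec (noeth_Xh J).1 𝔐 (V0 J))) :=
    hT ▸ Submodule.mem_top
  have key : ∀ y ∈ Submodule.span (AV (Xh J) (noeth_Xh J).1 (V0 J)) (T : Set (RSec (noeth_Xh J).1 𝔐 (V0 J))),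
      ∃ z ∈ Submodule.span A ((secIn J 𝔐) ⁻¹' (T : Set (RSec (noeth_Xh J).1 𝔐 (V0 J)))), secIn J 𝔐 z = y := fun y hy => by
    induction hy using Submodule.span_induction with
    | mem y hy => exact ⟨y, Submodule.subset_span hy, rfl⟩
    | zero => exact ⟨0, Submodule.zero_mem _, map_zero _⟩
    | add p q _ _ hp hq =>
      obtain ⟨p', hp', rfl⟩ := hp
      obtain ⟨q', hq', rfl⟩ := hq
      exact ⟨p' + q', Submodule.add_mem _ hp' hq', map_add _ _ _⟩
    | smul c p _ hp =>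
      obtain ⟨p', hp', rfl⟩ := hp
      obtain ⟨c', rfl⟩ := phiA_surjective J c
      exact ⟨c' • p', Submodule.smul_mem _ _ hp', secIn_smul J 𝔐 c' p'⟩
  obtain ⟨z, hz, he⟩ := key _ hx
  rw [← (secIn_bijective J 𝔐).1 he]
  exact hz

/-- An element as a section of the associated sheaf. -/
def secTop {A : Type u} [CommRing A] (M : ModuleCat.{u} A) : M →+ Γ(TM M, ⊤) :=
  AddMonoidHom.mk' (fun x => (tilde.toOpen (R := CommRingCat.of A) M ⊤).hom x) (fun a b => map_add _ a b)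

omit [IsNoetherianRing A] in
theorem secTop_bijective (M : ModuleCat.{u} A) : Function.Bijective (secTop M) :=
  haveI : IsIso (tilde.toOpen (R := CommRingCat.of A) M ⊤) := tilde.isIso_toOpen_top (R := CommRingCat.of A)
  ConcreteCategory.bijective_of_isIso (tilde.toOpen (R := CommRingCat.of A) M ⊤)

omit [IsNoetherianRing A] in
theorem secTop_smul (M : ModuleCat.{u} A) (a : A) (x : M) : secTop M (a • x) = gT A a • secTop M x := by
  refine ((tilde.toOpen (R := CommRingCat.of A) M ⊤).hom.map_smul a x).trans ?_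
  exact rfl

theorem coh_tilde (M : ModuleCat.{u} A) [Module.Finite A M] : Coh.IsCoh (TM M) :=
  haveI : Module.Finite ↑(CommRingCat.of A) M := ‹Module.Finite A M›
  ⟨inferInstance, M1.isFT_tilde (R := CommRingCat.of A) M⟩

/-- An element of the sections at a level of the completion. -/
def qLvl (n : ℕ) : secMod J 𝔐 →+
    MV (noeth_Xh J).1 (FSch.complMod (FSch.idealSpec A J) (TM (secMod J 𝔐))) (V0 J) n :=
  (resC (FSch.idealSpec A J) (noeth_Xh J).1 (TM (secMod J 𝔐)) n ⊤).comp (secTop (secMod J 𝔐))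

/-- An element of the sections at a level of the system. -/
def pLvl (n : ℕ) : secMod J 𝔐 →+ MV (noeth_Xh J).1 𝔐 (V0 J) n :=
  (piM (noeth_Xh J).1 𝔐 (V0 J) n).toAddMonoidHom.comp (secIn J 𝔐)

set_option maxHeartbeats 1000000 in
include hM in
theorem exists_lvl_map (n : ℕ) :
    ∃ φ : (FSch.complMod (FSch.idealSpec A J) (TM (secMod J 𝔐))).F n ⟶ 𝔐.F n,
      IsIso φ ∧ ∀ x, φ.app ((Xh J).lvU (noeth_Xh J).1 n (V0 J)) (qLvl J 𝔐 n x) = pLvl J 𝔐 n x := by
  haveI := finite_secMod J 𝔐 hM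
  haveI : IsAffine ((Xh J).X n) :=
    isAffine_of_isAffineHom (FSch.completionToX (Spec (CommRingCat.of A)) (FSch.idealSpec A J) n)
  haveI : Coh.IsQCoh (TM (secMod J 𝔐)) := (coh_tilde (secMod J 𝔐)).1
  have hG := (isCoh_complMod (FSch.idealSpec A J) (coh_tilde (secMod J 𝔐)) n).1
  have hqs : Function.Surjective (qLvl J 𝔐 n) :=
    (resC_surjective _ _ _ (isAffineOpen_top _) n).comp (secTop_bijective _).2
  have hps : Function.Surjective (pLvl J 𝔐 n) :=
    (piM_surjective 𝔐 (noeth_Xh J) hM (isAffineOpen_V0 J) n).comp (secIn_bijective J 𝔐).2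
  have hqk : ∀ x, qLvl J 𝔐 n x = 0 ↔ x ∈ J ^ (n + 1) • (⊤ : Submodule A (secMod J 𝔐)) := fun x => by
    refine (resC_eq_zero_iff _ _ _ (isAffineOpen_top _) n (secTop _ x)).trans ?_
    rw [FormalH7.idealSpec_ideal_top', ← Ideal.map_pow]
    exact (mem_smul_top_iff_of_semilinear (gT A) gT_bijective.2 (secTop _) (secTop_bijective _)
      (secTop_smul _) _ x).symm
  have hpk : ∀ x, pLvl J 𝔐 n x = 0 ↔ x ∈ J ^ (n + 1) • (⊤ : Submodule A (secMod J 𝔐)) := fun x => by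
    refine Iff.trans ?_ (mem_smul_top_iff_of_semilinear (phiA J) (phiA_surjective J) (secIn J 𝔐)
      (secIn_bijective J 𝔐) (secIn_smul J 𝔐) _ x).symm
    rw [Ideal.map_pow, map_phiA, ← ker_piM 𝔐 (noeth_Xh J) hM (isAffineOpen_V0 J), LinearMap.mem_ker]
    rfl
  choose sq hsq using hqs
  choose sp hsp using hps
  have hql : ∀ (a : A) x, qLvl J 𝔐 n (a • x) =
      (shL (FSch.idealSpec A J) (noeth_Xh J).1 n ⊤ (gT A a) • (qLvl J 𝔐 n x :
        Γ((FSch.complMod (FSch.idealSpec A J) (TM (secMod J 𝔐))).F n, (Xh J).lvU (noeth_Xh J).1 n (V0 J))) :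
          Γ((FSch.complMod (FSch.idealSpec A J) (TM (secMod J 𝔐))).F n, _)) := fun a x => by
    show resC _ _ _ n ⊤ (secTop _ (a • x)) = _
    rw [secTop_smul, resC_smul]
    rfl
  have hpl : ∀ (a : A) x, pLvl J 𝔐 n (a • x) =
      (shL (FSch.idealSpec A J) (noeth_Xh J).1 n ⊤ (gT A a) • (pLvl J 𝔐 n x :
        Γ(𝔐.F n, (Xh J).lvU (noeth_Xh J).1 n (V0 J))) : Γ(𝔐.F n, _)) := fun a x => by
    show piM _ _ _ n (secIn J 𝔐 (a • x)) = _
    rw [secIn_smul, piM_smul, prj_phiA]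
    rfl
  have hrs : Function.Surjective fun a => shL (FSch.idealSpec A J) (noeth_Xh J).1 n ⊤ (gT A a) :=
    (shL_surjective _ _ n (isAffineOpen_top _)).comp gT_bijective.2
  obtain ⟨l, hl⟩ : ∃ l : Γ((FSch.complMod (FSch.idealSpec A J) (TM (secMod J 𝔐))).F n, ⊤) →+ Γ(𝔐.F n, ⊤),
      ∀ x, l (qLvl J 𝔐 n x) = pLvl J 𝔐 n x :=
    exists_desc (qLvl J 𝔐 n) (pLvl J 𝔐 n) (fun b => ⟨sq b, hsq b⟩) fun x hx => (hpk x).2 ((hqk x).1 hx)
  obtain ⟨l', hl'⟩ : ∃ l : Γ(𝔐.F n, ⊤) →+ Γ((FSch.complMod (FSch.idealSpec A J) (TM (secMod J 𝔐))).F n, ⊤),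
      ∀ x, l (pLvl J 𝔐 n x) = qLvl J 𝔐 n x :=
    exists_desc (pLvl J 𝔐 n) (qLvl J 𝔐 n) (fun b => ⟨sp b, hsp b⟩) fun x hx => (hqk x).2 ((hpk x).1 hx)
  obtain ⟨φ, hφ⟩ := AffHom12.exists_hom_top hG (H := 𝔐.F n) l fun r t => by
    obtain ⟨a, rfl⟩ := hrs r
    obtain ⟨x, rfl⟩ : ∃ x, qLvl J 𝔐 n x = t := ⟨_, hsq t⟩
    refine Eq.trans (congrArg l (hql a x).symm) ?_
    rw [hl, hl]
    exact hpl a x
  obtain ⟨ψ, hψ⟩ := AffHom12.exists_hom_top (hM n).1
    (H := (FSch.complMod (FSch.idealSpec A J) (TM (secMod J 𝔐))).F n) l' fun r t => by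
    obtain ⟨a, rfl⟩ := hrs r
    obtain ⟨x, rfl⟩ : ∃ x, pLvl J 𝔐 n x = t := ⟨_, hsp t⟩
    refine Eq.trans (congrArg l' (hpl a x).symm) ?_
    rw [hl', hl']
    exact hql a x
  refine ⟨φ, ⟨ψ, AffHom12.hom_ext_top hG _ _ fun t => ?_, AffHom12.hom_ext_top (hM n).1 _ _ fun t => ?_⟩,
    fun x => (hφ _).trans (hl x)⟩
  · obtain ⟨x, rfl⟩ : ∃ x, qLvl J 𝔐 n x = t := ⟨_, hsq t⟩
    show ψ.app ⊤ (φ.app ⊤ _) = _
    rw [hφ, hl, hψ, hl']
    rfl
  · obtain ⟨x, rfl⟩ : ∃ x, pLvl J 𝔐 n x = t := ⟨_, hsp t⟩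
    show φ.app ⊤ (ψ.app ⊤ _) = _
    rw [hψ, hl', hφ, hl]
    rfl

theorem nonempty_iso_of_levels {𝔛 : FSch.Sys.{u}} {G H : FSch.ModSys 𝔛} (φ : ∀ n, G.F n ⟶ H.F n)
    (hφ : ∀ n, IsIso (φ n))
    (hcomm : ∀ n, (Scheme.Modules.pullback (𝔛.ι n)).map (φ (n + 1)) ≫ (H.e n).hom = (G.e n).hom ≫ φ n) :
    Nonempty (H ≅ G) := by
  haveI := hφ
  have hcomm' : ∀ n, (Scheme.Modules.pullback (𝔛.ι n)).map (inv (φ (n + 1))) ≫ (G.e n).hom =
      (H.e n).hom ≫ inv (φ n) := fun n => by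
    rw [Functor.map_inv, IsIso.inv_comp_eq, ← Category.assoc, hcomm, Category.assoc, IsIso.hom_inv_id, Category.comp_id]
  let Φ : G ⟶ H := ⟨φ, hcomm⟩
  let Ψ : H ⟶ G := ⟨fun n => inv (φ n), hcomm'⟩
  exact ⟨⟨Ψ, Φ, FSch.ModSys.Hom.ext (funext fun n => IsIso.inv_hom_id (φ n)),
    FSch.ModSys.Hom.ext (funext fun n => IsIso.hom_inv_id (φ n))⟩⟩

theorem pLvl_succ (n : ℕ) (x : secMod J 𝔐) :
    trM (noeth_Xh J).1 𝔐 (V0 J) n (pLvl J 𝔐 (n + 1) x) = pLvl J 𝔐 n x :=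
  trM_piM (noeth_Xh J).1 𝔐 (V0 J) n (secIn J 𝔐 x)

end

section Comm

/-- Compatibility of levelwise maps sending generators to generators. -/
theorem lvl_comm {X : Scheme.{u}} [IsAffine X] (𝓘 : X.IdealSheafData) (hN : (FSch.completionAlong X 𝓘).IsLocNoethFormal)
    {G H : FSch.ModSys (FSch.completionAlong X 𝓘)} (hG : G.IsCoh) (φ : ∀ n, G.F n ⟶ H.F n) {S : Type u}
    (q : ∀ n, S → MV hN.1 G (zO 𝓘 ⊤) n) (p : ∀ n, S → MV hN.1 H (zO 𝓘 ⊤) n)
    (hq : ∀ n x, trM hN.1 G (zO 𝓘 ⊤) n (q (n + 1) x) = q n x)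
    (hp : ∀ n x, trM hN.1 H (zO 𝓘 ⊤) n (p (n + 1) x) = p n x) (hqs : ∀ n, Function.Surjective (q n))
    (hφ : ∀ n x, (φ n).app ((FSch.completionAlong X 𝓘).lvU hN.1 n (zO 𝓘 ⊤)) (q n x) = p n x) (n : ℕ) :
    (Scheme.Modules.pullback ((FSch.completionAlong X 𝓘).ι n)).map (φ (n + 1)) ≫ (H.e n).hom =
      (G.e n).hom ≫ φ n := by
  haveI : IsAffine ((FSch.completionAlong X 𝓘).X n) := isAffine_of_isAffineHom (FSch.completionToX X 𝓘 n)
  haveI : Coh.IsQCoh (G.F (n + 1)) := (hG (n + 1)).1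
  have hA := isAffineOpen_zO 𝓘 (isAffineOpen_top X)
  refine AffHom12.hom_ext_top (M1.isCoh_pullback ((FSch.completionAlong X 𝓘).ι n) (hG (n + 1))).1 _ _ fun t => ?_
  obtain ⟨s, rfl⟩ := res'_surjective ((FSch.completionAlong X 𝓘).ι n) (G.F (n + 1))
    ((FSch.completionAlong X 𝓘).lvU_le hN.1 n (zO 𝓘 ⊤))
    (isAffineOpen_lvU hN hA _) (isAffineOpen_lvU hN hA _) (tr_surjective hN hA n) t
  obtain ⟨x, rfl⟩ := hqs (n + 1) s
  show (H.e n).hom.app ((FSch.completionAlong X 𝓘).lvU hN.1 n (zO 𝓘 ⊤))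
      (((Scheme.Modules.pullback ((FSch.completionAlong X 𝓘).ι n)).map (φ (n + 1))).app
        ((FSch.completionAlong X 𝓘).lvU hN.1 n (zO 𝓘 ⊤))
        (ModLimH13.res' ((FSch.completionAlong X 𝓘).ι n) (G.F (n + 1))
          ((FSch.completionAlong X 𝓘).lvU_le hN.1 n (zO 𝓘 ⊤)) (q (n + 1) x))) =
    (φ n).app ((FSch.completionAlong X 𝓘).lvU hN.1 n (zO 𝓘 ⊤))
      (trM hN.1 G (zO 𝓘 ⊤) n (q (n + 1) x))
  rw [ModLimH13.map_res', hφ]
  refine Eq.trans ?_ (congrArg ((φ n).app _) (hq n x)).symm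
  exact (hp n x).trans (hφ n x).symm

variable {X : Scheme.{u}} [IsAffine X] (𝓘 : X.IdealSheafData) (hN : (FSch.completionAlong X 𝓘).IsLocNoethFormal)
  (F : X.Modules) (hF : Coh.IsCoh F) (𝔑 : FSch.ModSys (FSch.completionAlong X 𝓘))
  (φ : ∀ n, (FSch.complMod 𝓘 F).F n ⟶ 𝔑.F n)
  (p : ∀ n, Γ(F, ⊤) → MV hN.1 𝔑 (zO 𝓘 ⊤) n)
  (hp : ∀ n y, trM hN.1 𝔑 (zO 𝓘 ⊤) n (p (n + 1) y) = p n y)
  (hφ : ∀ n y, (φ n).app ((FSch.completionAlong X 𝓘).lvU hN.1 n (zO 𝓘 ⊤)) (resC 𝓘 hN.1 F n ⊤ y) = p n y)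

include hF hp hφ in
/-- Compatibility of levelwise maps sending sections to a compatible family. -/
theorem cpl_comm (n : ℕ) :
    (Scheme.Modules.pullback ((FSch.completionAlong X 𝓘).ι n)).map (φ (n + 1)) ≫ (𝔑.e n).hom =
      ((FSch.complMod 𝓘 F).e n).hom ≫ φ n := by
  haveI : Coh.IsQCoh F := hF.1
  have key : ∀ q : ∀ m, Γ(F, ⊤) → MV hN.1 (FSch.complMod 𝓘 F) (zO 𝓘 ⊤) m,
      (∀ m y, q m y = resC 𝓘 hN.1 F m ⊤ y) →
      (Scheme.Modules.pullback ((FSch.completionAlong X 𝓘).ι n)).map (φ (n + 1)) ≫ (𝔑.e n).hom =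
        ((FSch.complMod 𝓘 F).e n).hom ≫ φ n := fun q hq =>
    lvl_comm 𝓘 hN (isCoh_complMod 𝓘 hF) φ q p
      (fun m y => by rw [hq, hq]; exact trM_resC 𝓘 hN.1 F m ⊤ y) hp
      (fun m b => by
        obtain ⟨y, hy⟩ := resC_surjective 𝓘 hN.1 F (isAffineOpen_top X) m b
        exact ⟨y, (hq m y).trans hy⟩)
      (fun m y => by rw [hq]; exact hφ m y) n
  exact key (fun m y => resC 𝓘 hN.1 F m ⊤ y) fun _ _ => rfl

end Comm

section

variable [IsAdicComplete J A] (𝔐 : FSch.ModSys (Xh J)) (hM : 𝔐.IsCoh)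

include hM in
/-- A coherent system on a formal spectrum is the completion of a finite module. -/
theorem exists_iso_complMod_tilde :
    ∃ M : ModuleCat.{u} A, Module.Finite A M ∧
      Nonempty (𝔐 ≅ FSch.complMod (FSch.idealSpec A J) (TM M)) := by
  haveI := finite_secMod J 𝔐 hM
  choose φ hφ hφx using exists_lvl_map J 𝔐 hM
  choose σ hσ using (secTop_bijective (secMod J 𝔐)).2
  refine ⟨secMod J 𝔐, finite_secMod J 𝔐 hM, nonempty_iso_of_levels φ hφ fun n => ?_⟩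
  refine cpl_comm (FSch.idealSpec A J) (noeth_Xh J) (TM (secMod J 𝔐)) (coh_tilde (secMod J 𝔐)) 𝔐 φ
    (fun n y => pLvl J 𝔐 n (σ y)) (fun n y => pLvl_succ J 𝔐 n (σ y)) (fun n y => ?_) n
  rw [← hφx n (σ y), qLvl, AddMonoidHom.comp_apply, hσ]

end

end Groth.Agent.FormalModH7
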