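import Groth.Agent.Lib.FormalModH7.EqFlatDef
import Groth.Agent.Lib.ModFlat16.LocFT

/-!
# Morphisms of ringed sites satisfying the equational condition are flat
-/

set_option autoImplicit false
set_option linter.style.haveILetI false
set_option backward.isDefEq.respectTransparency false
set_option backward.isDefEq.respectTransparency.types false

universe u

open CategoryTheory CategoryTheory.Limits Opposite TensorProduct

noncomputable section

namespace Groth.Agent.FormalModH7

open ModFlat16 Groth.Agent.KFlat.Site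

variable {C D : Type u} [SmallCategory C] [SmallCategory D] {J : GrothendieckTopology C}
  {K : GrothendieckTopology D} {O_C : Sheaf J CommRingCat.{u}} {O_D : Sheaf K CommRingCat.{u}}
  {f : ModSite.RMor O_C O_D}

/-- Inverse images along equationally flat morphisms keep monomorphisms. -/
theorem mono_pull_of_eqFlat (hflat : EqFlat f) {A B : ModSite.Mod O_D} (φ : A ⟶ B) [Mono φ] :
    Mono (f.pull.map φ) := by
  classical
  suffices h : Mono (mapSh (f := f) φ) by rw [pull_map_eq]; infer_instance
  let PF := (ModSite.shPre O_C).obj (preQ f A)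
  suffices hinj : ∀ (U : C) (σ : ModSite.sect PF U), (mapSh (f := f) φ).val.app (op U) σ = 0 → σ = 0 by
    have hm : Mono ((ModSite.toPre O_C).map (mapSh (f := f) φ)) := PresheafOfModules.mono_of_injective fun {A} =>
      (injective_iff_map_eq_zero ((mapSh (f := f) φ).val.app A).hom).2 fun x hx => hinj A.unop x hx
    haveI := (toPreFF O_C).faithful
    exact (ModSite.toPre O_C).mono_of_mono_map hm
  intro U σ hσ
  have sep : ∀ {U : C} (σ : ModSite.sect PF U) (T : Sieve U), T ∈ J U →
      (∀ ⦃W : C⦄ (k : W ⟶ U), T k → smap PF k σ = 0) → σ = 0 := fun {U} σ T hT h =>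
    (Presheaf.IsSheaf.isSeparated (ModSite.toAb PF).property) U T hT _ _
      fun W k hk => (h k hk).trans (map_zero (smap PF k)).symm
  obtain ⟨S₀, hS₀, hz₀⟩ := exists_local_clsHom σ
  refine sep σ S₀ hS₀ fun W₀ k₀ hk₀ => ?_
  obtain ⟨z, hz⟩ := hz₀ k₀ hk₀
  rw [← hz]
  let φ₀ : (SymT f A).obj (op W₀) → (SymT f B).obj (op W₀) := symMap φ
  let z' : (SymT f A).obj (op W₀) →₀ O_C.obj.obj (op W₀) := z
  let zG : (SymT f B).obj (op W₀) →₀ O_C.obj.obj (op W₀) := Finsupp.mapDomain φ₀ z'
  have hzG : clsHom f B W₀ (zG : (preP f B).obj (op W₀)) = 0 := by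
    have h0 : (mapSh (f := f) φ).val.app (op W₀) (clsHom f A W₀ z) = 0 := by
      rw [hz]
      exact (PresheafOfModules.naturality_apply (mapSh (f := f) φ).val k₀.op σ).trans
        ((congrArg _ hσ).trans (map_zero _))
    refine Eq.trans ?_ h0
    rw [clsHom_eq_sum, clsHom_eq_sum z', Finsupp.sum_mapDomain_index
      (h := fun (s : (SymT f B).obj (op W₀)) (r : O_C.obj.obj (op W₀)) =>
        (r • cls f B s.2.1 s.2.2 : ModSite.sect ((ModSite.shPre O_C).obj (preQ f B)) W₀))
      (fun s => zero_smul _ _) (fun s r r' => add_smul r r' _), Finsupp.sum, Finsupp.sum]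
    refine Eq.trans (Finset.sum_congr rfl fun s _ => ?_) (map_sum _ _ _).symm
    exact ((congrArg _ (mapSh_cls φ s.2.1 s.2.2).symm).trans ((map_smul _ _ _).symm))
  obtain ⟨S₁, hS₁, hc₁⟩ := exists_local_rel _ hzG
  refine sep _ S₁ hS₁ fun W₁ k₁ hk₁ => ?_
  obtain ⟨c, hc⟩ := hc₁ k₁ hk₁
  -- restrict the symbols
  let z₁ : (SymT f A).obj (op W₁) →₀ O_C.obj.obj (op W₁) := (preP f A).map k₁.op z
  let φ₁ : (SymT f A).obj (op W₁) → (SymT f B).obj (op W₁) := symMap φ
  have hc' : (relMap f B).app (op W₁) c = (Finsupp.mapDomain φ₁ z₁ : (preP f B).obj (op W₁)) := by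
    exact hc.trans (map_mapDomain_symMap φ k₁ z')
  let N₀ : Finset (Node f W₁) := z₁.support.image node
  obtain ⟨T, hT, hT'⟩ := exists_node (f := f) (M := B) N₀ (Finsupp.mapDomain φ₁ z₁) (fun s hs => by
    obtain ⟨t, ht, rfl⟩ := Finset.mem_image.1 (Finsupp.mapDomain_support hs)
    exact Finset.mem_image.2 ⟨t, ht, rfl⟩) c hc'
  rw [clsHom_map k₁, show (preP f A).map k₁.op z = (z₁ : (preP f A).obj (op W₁)) from rfl]
  refine sep _ T hT fun W₂ k hk => ?_
  obtain ⟨V₀, u₀, g, hsome, hg, hsum⟩ := hT' k hk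
  letI : Algebra (O_D.obj.obj (op V₀)) (O_C.obj.obj (op W₂)) := (rho f u₀).toAlgebra
  letI : Module (O_D.obj.obj (op V₀)) (ModSite.sect B V₀) :=
    inferInstanceAs (Module ((ModSite.ringSh O_D).obj.obj (op V₀)) (B.val.obj (op V₀)))
  let e : Fin (Fintype.card z₁.support) ≃ z₁.support := (Fintype.equivFin z₁.support).symm
  choose a ha using fun i => Option.isSome_iff_exists.1
    (hsome (node (e i).1) (Finset.mem_image_of_mem node (e i).2))
  let nv : Fin (Fintype.card z₁.support) → O_C.obj.obj (op W₂) := fun i => rmap O_C k (z₁ (e i).1)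
  let mF : Fin (Fintype.card z₁.support) → ModSite.sect A V₀ := fun i => smap A (a i) (e i).1.2.2
  let mG : Fin (Fintype.card z₁.support) → ModSite.sect B V₀ := fun i => φ.val.app (op V₀) (mF i)
  have hvan : ∑ i, nv i ⊗ₜ[O_D.obj.obj (op V₀)] mG i = 0 := by
    refine Eq.trans ?_ hsum
    rw [Finsupp.sum_mapDomain_index (fun s => by rw [map_zero, TensorProduct.zero_tmul])
      (fun s r r' => by rw [map_add, TensorProduct.add_tmul]), Finsupp.sum]
    refine Eq.trans ?_ (Finset.sum_coe_sort z₁.support _)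
    refine Eq.trans ?_ (e.sum_comp _)
    refine Finset.sum_congr rfl fun i _ => congrArg (nv i ⊗ₜ[O_D.obj.obj (op V₀)] ·) ?_
    have hn : g (node (φ₁ (e i).1)) = some (a i) := ha i
    simp only [hn, Option.isSome_some, dite_true, Option.get_some]
    exact PresheafOfModules.naturality_apply φ.val (a i).op (e i).1.2.2
  obtain ⟨p, r, g', Am, y, hn, hrels⟩ := vanish_data (R := O_D.obj.obj (op V₀)) (M := ModSite.sect B V₀)
    (N := O_C.obj.obj (op W₂)) mG nv hvan
  have hsplit : ∀ i, rmap O_C k (z₁ (e i).1) = ∑ s, rho f u₀ (Am (Sum.inl i) s) * y s := fun i => by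
    refine Eq.trans (hn (Sum.inl i)) (Finset.sum_congr rfl fun s _ => ?_)
    rw [Algebra.smul_def]
    rfl
  have hrel0 : ∀ j, ∑ s, y s * rho f u₀ (Am (Sum.inr j) s) = 0 := fun j => by
    refine Eq.trans ?_ (hn (Sum.inr j)).symm
    refine Finset.sum_congr rfl fun s _ => ?_
    rw [Algebra.smul_def, mul_comm]
    rfl
  obtain ⟨T₁, hT₁, hT₁'⟩ := hflat.many W₂ V₀ u₀ r y p (fun j s => Am (Sum.inr j) s) hrel0
  refine sep _ T₁ hT₁ fun W₃ k₃ hk₃ => ?_
  obtain ⟨V', b, u', t, cc, zz, hu', hy, hcc⟩ := hT₁' k₃ hk₃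
  let φV := (φ.val.app (op V')).hom
  have hinj : Function.Injective φV := ModFlat16.sections_injective' φ V'
  let co : Fin (Fintype.card z₁.support) → Fin t → O_D.obj.obj (op V') := fun i q =>
    ∑ s, rmap O_D b (Am (Sum.inl i) s) * cc s q
  have hco : ∀ q, ∑ i, co i q • smap A b (mF i) = 0 := fun q => by
    refine hinj ?_
    rw [map_zero, map_sum]
    have h1 : ∀ s, ∑ i : Fin (Fintype.card z₁.support) ⊕ Fin p, rmap O_D b (Am i s) • smap B b (Sum.elim mG g' i) = 0 :=
      fun s => by
      refine Eq.trans ?_ ((congrArg (smap B b) (hrels s)).trans (map_zero _))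
      rw [map_sum]
      exact Finset.sum_congr rfl fun i _ => (smap_smul b _ _).symm
    have h2 : ∑ s, cc s q • ∑ i : Fin (Fintype.card z₁.support) ⊕ Fin p,
        rmap O_D b (Am i s) • smap B b (Sum.elim mG g' i) = 0 :=
      Finset.sum_eq_zero fun s _ => by rw [h1, smul_zero]
    refine Eq.trans ?_ h2
    simp only [Finset.smul_sum, smul_smul]
    rw [Finset.sum_comm, Fintype.sum_sum_type]
    simp only [Sum.elim_inl, Sum.elim_inr]
    rw [show ∑ j, ∑ s, (cc s q * rmap O_D b (Am (Sum.inr j) s)) • smap B b (g' j) = 0 from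
      Finset.sum_eq_zero fun j _ => by
        rw [← Finset.sum_smul, show ∑ s, cc s q * rmap O_D b (Am (Sum.inr j) s) = 0 from hcc j q, zero_smul],
      add_zero]
    refine Finset.sum_congr rfl fun i _ => ?_
    refine (LinearMap.map_smul φV (co i q) _).trans ?_
    rw [show φV (smap A b (mF i)) = smap B b (mG i) from PresheafOfModules.naturality_apply φ.val b.op (mF i),
      ← Finset.sum_smul]
    exact congrArg (· • _) (Finset.sum_congr rfl fun s _ => by ring)
  have hz3 : ∑ i, rmap O_C (k₃ ≫ k) (z₁ (e i).1) • clsAdd u' (smap A b (mF i)) = 0 := by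
    calc _ = ∑ i, ∑ q, zz q • clsAdd u' (co i q • smap A b (mF i)) := by
          refine Finset.sum_congr rfl fun i _ => ?_
          rw [rmap_comp, hsplit i, map_sum]
          simp only [map_mul, rmap_rho, hy, ← hu', ← rho_rmap, Finset.mul_sum, Finset.sum_smul]
          rw [Finset.sum_comm]
          refine Finset.sum_congr rfl fun q _ => ?_
          rw [show clsAdd u' (co i q • smap A b (mF i)) = _ from cls_smul u' _ _, smul_smul, map_sum,
            Finset.mul_sum, Finset.sum_smul]
          refine Finset.sum_congr rfl fun s _ => congrArg₂ (· • ·) ?_ rfl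
          rw [map_mul]
          ring
      _ = ∑ q, zz q • clsAdd u' (∑ i, co i q • smap A b (mF i)) := by
          rw [Finset.sum_comm]
          exact Finset.sum_congr rfl fun q _ => by rw [map_sum, Finset.smul_sum]
      _ = 0 := Finset.sum_eq_zero fun q _ => by rw [hco q, map_zero, smul_zero]
  rw [← smap_comp, clsHom_eq_sum, Finsupp.sum, map_sum, ← Finset.sum_coe_sort, ← e.sum_comp]
  refine Eq.trans (Finset.sum_congr rfl fun i _ => ?_) hz3
  rw [smap_smul, map_cls]
  refine congrArg₂ (· • ·) rfl ?_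
  show _ = cls f A u' (smap A b (smap A (a i) (e i).1.2.2))
  rw [cls_res, cls_res]
  refine congrArg (fun w => cls f A w _) ?_
  rw [hu']
  simp only [Category.assoc, hg _ _ (ha i)]
  rfl

/-- An equationally flat morphism of ringed sites is flat. -/
theorem isFlat_of_eqFlat (hflat : EqFlat f) : ModSite.RMor.IsFlat f := by
  haveI : f.pull.IsLeftAdjoint := f.adj.isLeftAdjoint
  haveI : PreservesColimitsOfSize.{0, 0} f.pull := f.adj.leftAdjoint_preservesColimits
  haveI : PreservesFiniteColimits f.pull := PreservesColimitsOfSize.preservesFiniteColimits _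
  haveI := preservesBinaryBiproducts_of_preservesBinaryCoproducts f.pull
  haveI : f.pull.Additive := Functor.additive_of_preservesBinaryBiproducts _
  refine (Functor.preservesFiniteLimits_iff_forall_exact_map_and_mono _).2 fun S hS => ?_
  haveI := hS.mono_f
  exact ⟨((f.pull.preservesFiniteColimits_iff_forall_exact_map_and_epi).1 inferInstance S hS).1,
    mono_pull_of_eqFlat hflat S.f⟩

end Groth.Agent.FormalModH7
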