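import Groth.Prelude.Def_ModSite
import Mathlib.Algebra.Category.ModuleCat.Sheaf.Quasicoherent

/-!
# Finite free modules are finitely presented
-/

set_option autoImplicit false
set_option linter.style.haveILetI false
set_option backward.isDefEq.respectTransparency false
set_option backward.isDefEq.respectTransparency.types false
universe u

open CategoryTheory CategoryTheory.Limits Opposite

namespace Groth.Agent.FormalModH7

variable {X : TopCat.{u}} {O : Sheaf (Opens.grothendieckTopology X) CommRingCat.{u}}

theorem isFinitePresentation_free (σ : Type u) [Finite σ] :
    SheafOfModules.IsFinitePresentation (R := ModSite.ringSh O)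
      (SheafOfModules.free (R := ModSite.ringSh O) σ) := by
  let M := SheafOfModules.free (R := ModSite.ringSh O) σ
  let z : SheafOfModules.free (R := ModSite.ringSh O) PEmpty.{u+1} ⟶ M := 0
  let P : M.Presentation := SheafOfModules.presentationOfIsCokernelFree z (𝟙 M) (by simp [z])
    (CokernelCofork.IsColimit.ofId z rfl)
  constructor
  refine ⟨P.quasicoherentData, ?_⟩
  constructor
  intro i
  constructor
  · constructor
    exact inferInstanceAs (Finite σ)
  · constructor
    exact inferInstanceAs (Finite PEmpty.{u+1})

theorem isFinitePresentation_unit :
    SheafOfModules.IsFinitePresentation (R := ModSite.ringSh O) (SheafOfModules.unit (ModSite.ringSh O)) :=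
  haveI := isFinitePresentation_free (O := O) PUnit.{u+1}
  ObjectProperty.prop_of_iso (SheafOfModules.isFinitePresentation (ModSite.ringSh O))
    (coproductUniqueIso fun _ : PUnit.{u+1} => SheafOfModules.unit (ModSite.ringSh O)) this

end Groth.Agent.FormalModH7
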