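import Groth.Agent.Lib.FormalModH7.Coh
import Groth.Agent.Lib.FormalModH7.FreeFP

/-!
# Solutions of linear equations restrict between affine opens
-/

set_option autoImplicit false
set_option linter.style.haveILetI false
set_option backward.isDefEq.respectTransparency false
set_option backward.isDefEq.respectTransparency.types false
universe u

open CategoryTheory CategoryTheory.Limits AlgebraicGeometry Opposite TopologicalSpace

namespace Groth.Agent.FormalModH7

variable {𝔛 : FSch.Sys.{u}} (hN : 𝔛.IsLocNoethFormal) {V W : (𝔛.X 0).Opens}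

/-- The solutions of finitely many linear equations. -/
noncomputable def sol {ι σ : Type*} [Fintype ι] (f : σ → ι → AV 𝔛 hN.1 V) (F : Finset σ) :
    Submodule (AV 𝔛 hN.1 V) (ι → AV 𝔛 hN.1 V) where
  carrier := {c | ∀ j ∈ F, ∑ k, c k * f j k = 0}
  add_mem' ha hb j hj := by simp only [Pi.add_apply, add_mul, Finset.sum_add_distrib, ha j hj, hb j hj, add_zero]
  zero_mem' j _ := by simp
  smul_mem' r c hc j hj := by
    simp only [Pi.smul_apply, smul_eq_mul, mul_assoc, ← Finset.mul_sum, hc j hj, mul_zero]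

theorem mem_sol {ι σ : Type*} [Fintype ι] (f : σ → ι → AV 𝔛 hN.1 V) (F : Finset σ) (c : ι → AV 𝔛 hN.1 V) :
    c ∈ sol hN f F ↔ ∀ j ∈ F, ∑ k, c k * f j k = 0 := Iff.rfl

/-- Solutions over a smaller affine open are combinations of solutions over the bigger one. -/
theorem mem_span_sol (hV : IsAffineOpen V) (hW : IsAffineOpen W) (i : W ≤ V) {ι σ : Type*} [Fintype ι] [DecidableEq σ]
    (f : σ → ι → AV 𝔛 hN.1 V) (F : Finset σ) :
    ∀ c : ι → AV 𝔛 hN.1 W, (∀ j ∈ F, ∑ k, c k * rA hN.1 i (f j k) = 0) →
      c ∈ Submodule.span (AV 𝔛 hN.1 W) (Set.range fun (a : sol hN f F) k => rA hN.1 i (a.1 k)) := by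
  classical
  induction F using Finset.induction_on with
  | empty =>
    intro c _
    have e : c = ∑ k, c k • fun k' => rA hN.1 i ((Pi.single k 1 : ι → AV 𝔛 hN.1 V) k') := by
      funext k'
      simp only [Finset.sum_apply, Pi.smul_apply, smul_eq_mul, Pi.single_apply, apply_ite (rA hN.1 i), map_one,
        map_zero, mul_ite, mul_one, mul_zero]
      simp
    rw [e]
    exact Submodule.sum_mem _ fun k _ => Submodule.smul_mem _ _
      (Submodule.subset_span ⟨⟨Pi.single k 1, fun j hj => absurd hj (Finset.notMem_empty j)⟩, rfl⟩)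
  | @insert j₀ F hj₀ ih =>
    intro c hc
    haveI := (structure_AV hN hV).1
    obtain ⟨T, hT⟩ : (sol hN f F).FG := IsNoetherian.noetherian _
    have h1 := ih c fun j hj => hc j (Finset.mem_insert_of_mem hj)
    have hle : Submodule.span (AV 𝔛 hN.1 W) (Set.range fun (a : sol hN f F) k => rA hN.1 i (a.1 k)) ≤
        Submodule.span (AV 𝔛 hN.1 W) (Set.range fun (q : T) k => rA hN.1 i (q.1 k)) := by
      rw [Submodule.span_le]
      rintro _ ⟨a, rfl⟩
      show (fun k => rA hN.1 i (a.1 k)) ∈ Submodule.span (AV 𝔛 hN.1 W) (Set.range fun (q : T) k => rA hN.1 i (q.1 k))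
      have ha : a.1 ∈ Submodule.span (AV 𝔛 hN.1 V) (T : Set (ι → AV 𝔛 hN.1 V)) := by rw [hT]; exact a.2
      generalize a.1 = z at ha
      induction ha using Submodule.span_induction with
      | mem y hy => exact Submodule.subset_span ⟨⟨y, hy⟩, rfl⟩
      | zero =>
        rw [show (fun k => rA hN.1 i ((0 : ι → AV 𝔛 hN.1 V) k)) = 0 from funext fun k => map_zero _]
        exact Submodule.zero_mem _
      | add x y _ _ hx hy =>
        rw [show (fun k => rA hN.1 i ((x + y) k)) = (fun k => rA hN.1 i (x k)) + fun k => rA hN.1 i (y k) from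
          funext fun k => map_add _ _ _]
        exact Submodule.add_mem _ hx hy
      | smul d x _ hx =>
        rw [show (fun k => rA hN.1 i ((d • x) k)) = rA hN.1 i d • fun k => rA hN.1 i (x k) from
          funext fun k => map_mul _ _ _]
        exact Submodule.smul_mem _ _ hx
    obtain ⟨e, he⟩ := (Submodule.mem_span_range_iff_exists_fun (AV 𝔛 hN.1 W)).1 (hle h1)
    haveI : SheafOfModules.IsFinitePresentation (R := ModSite.ringSh (𝔛.Osh hN.1)) (FSch.unitF 𝔛 hN.1) :=
      isFinitePresentation_unit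
    let u : T → FSec hN (FSch.unitF 𝔛 hN.1) V := fun q => (∑ k, q.1 k * f j₀ k : AV 𝔛 hN.1 V)
    let Φ := Fintype.linearCombination (AV 𝔛 hN.1 V) u
    have h2 : ∑ q, e q • rF hN (FSch.unitF 𝔛 hN.1) i (u q) = 0 := by
      show ∑ q, e q * rA hN.1 i (∑ k, q.1 k * f j₀ k) = (0 : AV 𝔛 hN.1 W)
      simp only [map_sum, map_mul, Finset.mul_sum, ← mul_assoc]
      rw [Finset.sum_comm]
      simp only [← Finset.sum_mul]
      refine Eq.trans (Finset.sum_congr rfl fun k _ => ?_) (hc j₀ (Finset.mem_insert_self _ _))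
      refine congrArg (· * _) ?_
      rw [← he, Finset.sum_apply]
      rfl
    have h3 := rels_rF hN (FSch.unitF 𝔛 hN.1) hV hW i u (fun a : LinearMap.ker Φ => a.1) (fun a ha =>
      Submodule.subset_span ⟨⟨a, by rw [LinearMap.mem_ker, Fintype.linearCombination_apply]; exact ha⟩, rfl⟩) e h2
    let L := Fintype.linearCombination (AV 𝔛 hN.1 W) (fun (q : T) k => rA hN.1 i (q.1 k))
    have hle2 : Submodule.span (AV 𝔛 hN.1 W) (Set.range fun (a : LinearMap.ker Φ) q => rA hN.1 i (a.1 q)) ≤
        (Submodule.span (AV 𝔛 hN.1 W) (Set.range fun (a : sol hN f (insert j₀ F)) k => rA hN.1 i (a.1 k))).comap L := by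
      rw [Submodule.span_le]
      rintro _ ⟨a, rfl⟩
      have hsol : (∑ q, a.1 q • q.1 : ι → AV 𝔛 hN.1 V) ∈ sol hN f (insert j₀ F) := by
        rw [mem_sol]
        intro j hj
        rcases Finset.mem_insert.1 hj with rfl | hj
        · have h4 := LinearMap.mem_ker.1 a.2
          rw [Fintype.linearCombination_apply] at h4
          refine Eq.trans ?_ h4
          show ∑ k, (∑ q, a.1 q • q.1) k * f j k = ∑ q, a.1 q * (∑ k, q.1 k * f j k)
          simp only [Finset.sum_apply, Pi.smul_apply, smul_eq_mul, Finset.sum_mul, Finset.mul_sum, mul_assoc]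
          rw [Finset.sum_comm]
        · have : (∑ q, a.1 q • q.1 : ι → AV 𝔛 hN.1 V) ∈ sol hN f F :=
            Submodule.sum_mem _ fun q _ => Submodule.smul_mem _ _ (hT ▸ Submodule.subset_span q.2)
          exact this j hj
      show L (fun q => rA hN.1 i (a.1 q)) ∈
        Submodule.span (AV 𝔛 hN.1 W) (Set.range fun (a : sol hN f (insert j₀ F)) k => rA hN.1 i (a.1 k))
      refine Submodule.subset_span ⟨⟨_, hsol⟩, ?_⟩
      funext k
      simp only [L, Fintype.linearCombination_apply, Finset.sum_apply, Pi.smul_apply, smul_eq_mul, map_sum, map_mul]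
    have h5 := hle2 h3
    rw [Submodule.mem_comap, Fintype.linearCombination_apply, he] at h5
    exact h5

end Groth.Agent.FormalModH7
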