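import Groth.Agent.Lib.ModFlat16.LocFT

/-!
# Isomorphisms detected on generators and relations
-/

set_option autoImplicit false
set_option linter.style.haveILetI false
set_option backward.isDefEq.respectTransparency false
set_option backward.isDefEq.respectTransparency.types false

universe u

open CategoryTheory CategoryTheory.Limits Opposite

namespace Groth.Agent.FormalModH7

open ModFlat16

variable {C : Type u} [SmallCategory C] {J : GrothendieckTopology C} {O : Sheaf J CommRingCat.{u}}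
  {A B : ModSite.Mod O}

theorem sect_ext (M : ModSite.Mod O) {V : C} {x y : ModSite.sect M V} (S : Sieve V) (hS : S ∈ J V)
    (h : ∀ ⦃W : C⦄ (l : W ⟶ V), S l → smap M l x = smap M l y) : x = y :=
  (((isSheaf_iff_isSheaf_of_type _ _).1 ((sheafCompose _ (forget AddCommGrpCat.{u})).obj (ModSite.toAb M)).property) _
    hS).isSeparatedFor.ext fun _ a ha => h a ha

theorem mono_of_sections (θ : A ⟶ B) (h : ∀ (V : C) (x : ModSite.sect A V), θ.val.app (op V) x = 0 → x = 0) :
    Mono θ := by
  constructor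
  intro Z g g' e
  apply SheafOfModules.hom_ext
  refine PresheafOfModules.hom_ext fun V => ?_
  obtain ⟨V, rfl⟩ : ∃ V', op V' = V := ⟨V.unop, rfl⟩
  refine ModuleCat.hom_ext (LinearMap.ext fun z => ?_)
  refine sub_eq_zero.1 (h V _ ?_)
  rw [map_sub, sub_eq_zero]
  exact congrArg (fun q => q.val.app (op V) z) e

theorem epi_of_locally (θ : A ⟶ B)
    (h : ∀ (V : C) (y : ModSite.sect B V), ∃ S ∈ J V, ∀ ⦃W : C⦄ (l : W ⟶ V), S l →
      ∃ x, θ.val.app (op W) x = smap B l y) : Epi θ := by
  refine (SheafOfModules.toSheaf (ModSite.ringSh O)).epi_of_epi_map ?_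
  refine (Sheaf.isLocallySurjective_iff_epi' _ _).1 ⟨fun {V} y => ?_⟩
  obtain ⟨S, hS, h'⟩ := h V y
  exact J.superset_covering (fun W l hl => h' l hl) hS

/-- A map matching local generators and their relations is an isomorphism. -/
theorem isIso_of_pres (θ : A ⟶ B)
    (h : Covd J fun U => ∃ (ι : Type u) (_ : Fintype ι) (s : ι → ModSite.sect A U),
      Gens A U s ∧ Gens B U (fun i => θ.val.app (op U) (s i)) ∧
        ∀ {V : C} (k : V ⟶ U) (c : ι → O.obj.obj (op V)),
          ∑ i, c i • smap B k (θ.val.app (op U) (s i)) = 0 →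
            ∃ S ∈ J V, ∀ ⦃W : C⦄ (l : W ⟶ V), S l → ∑ i, rmap O l (c i) • smap A (l ≫ k) (s i) = 0) :
    IsIso θ := by
  haveI : Epi θ := by
    refine epi_of_locally θ fun V y => ?_
    obtain ⟨S₁, hS₁, h₁⟩ := h V
    refine bind_cover S₁ hS₁ fun U m hm => ?_
    obtain ⟨ι, hι, s, -, hB, -⟩ := h₁ m hm
    obtain ⟨T, hT, h₂⟩ := gens_apply hB (𝟙 U) (smap B m y)
    refine ⟨T, hT, fun W l hl => ?_⟩
    obtain ⟨c, hc⟩ := h₂ l hl
    refine ⟨∑ i, c i • smap A l (s i), ?_⟩
    rw [app_comb, smap_comp m l, hc]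
    exact Finset.sum_congr rfl fun i _ => by rw [app_smap, Category.comp_id]
  haveI : Mono θ := by
    refine mono_of_sections θ fun V x hx => ?_
    obtain ⟨S₁, hS₁, h₁⟩ := h V
    have key : ∀ ⦃U : C⦄ (m : U ⟶ V), S₁ m → ∃ T ∈ J U, ∀ ⦃W : C⦄ (l : W ⟶ U), T l → smap A (l ≫ m) x = 0 := by
      intro U m hm
      obtain ⟨ι, hι, s, hA, -, hrel⟩ := h₁ m hm
      obtain ⟨T, hT, h₂⟩ := gens_apply hA (𝟙 U) (smap A m x)
      refine bind_cover T hT fun W l hl => ?_
      obtain ⟨c, hc⟩ := h₂ l hl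
      rw [← smap_comp, Category.comp_id] at hc
      obtain ⟨T', hT', h₃⟩ := hrel l c (by
        have h0 := congrArg (θ.val.app (op W)) hc
        rw [app_comb, app_smap, hx, map_zero] at h0
        simpa only [app_smap] using h0.symm)
      refine ⟨T', hT', fun W' l' hl' => ?_⟩
      rw [Category.assoc, smap_comp, hc, smap_comb]
      simpa only [← smap_comp] using h₃ l' hl'
    obtain ⟨T, hT, hT'⟩ := bind_cover (Q := fun W l => smap A l x = 0) S₁ hS₁ key
    exact sect_ext A T hT fun W l hl => by rw [hT' l hl, map_zero]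
  exact isIso_of_mono_of_epi θ

end Groth.Agent.FormalModH7
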