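import Groth.Agent.Lib.FormalModH7.QLift

/-!
# Kernels, images and cokernels of quasi-coherent modules on locally Noetherian formal schemes
-/

set_option autoImplicit false
set_option linter.style.haveILetI false
set_option linter.unusedSectionVars false
set_option backward.isDefEq.respectTransparency false
set_option backward.isDefEq.respectTransparency.types false
universe u

open CategoryTheory CategoryTheory.Limits AlgebraicGeometry Opposite TopologicalSpace

namespace Groth.Agent.FormalModH7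

open ModFlat16

section General

variable {C : Type u} [SmallCategory C] {J : GrothendieckTopology C} {O : Sheaf J CommRingCat.{u}}
  {M N : ModSite.Mod O}

theorem app_sum {U : C} (f : M ⟶ N) {ι : Type*} (F : Finset ι) (c : ι → O.obj.obj (op U)) (t : ι → ModSite.sect M U) :
    f.val.app (op U) (∑ j ∈ F, c j • t j) = ∑ j ∈ F, c j • f.val.app (op U) (t j) := by
  rw [map_sum]
  exact Finset.sum_congr rfl fun j _ => (f.val.app (op U)).hom.map_smul (c j) (t j)

theorem cond_apply {P : ModSite.Mod O} (f : M ⟶ N) (g : N ⟶ P) (h : f ≫ g = 0) {U : C} (x : ModSite.sect M U) :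
    g.val.app (op U) (f.val.app (op U) x) = 0 :=
  congrArg (fun q : M ⟶ P => q.val.app (op U) x) h

theorem exists_sum_image {R P κ τ : Type*} [Semiring R] [AddCommMonoid P] [Module R P] [Fintype κ] (e : κ → R)
    (w : κ → τ) (f : τ → P) : ∃ (F : Finset τ) (c : τ → R), ∑ q, e q • f (w q) = ∑ v ∈ F, c v • f v := by
  classical
  refine ⟨Finset.univ.image w, fun v => ∑ q ∈ Finset.univ.filter (fun q => w q = v), e q, ?_⟩
  simp only [Finset.sum_smul]
  rw [← Finset.sum_fiberwise_of_maps_to (fun q _ => Finset.mem_image_of_mem w (Finset.mem_univ q))]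
  exact Finset.sum_congr rfl fun v _ => Finset.sum_congr rfl fun q hq => by rw [(Finset.mem_filter.1 hq).2]

open scoped Classical in
theorem comb_rel {V W W₁ W₂ : C} (l₁ : W₁ ⟶ W) (l₂ : W₂ ⟶ W₁) (k : W ⟶ V) {σ κ : Type*} [Fintype κ] (F G : Finset σ)
    (hFG : F ⊆ G) (c : σ → O.obj.obj (op W₁)) (a : κ → σ → O.obj.obj (op V)) (e : κ → O.obj.obj (op W₂))
    (g : σ → ModSite.sect M V)
    (he : ∀ j ∈ G, (if j ∈ F then rmap O l₂ (c j) else 0) = ∑ q, e q * rmap O (l₂ ≫ l₁ ≫ k) (a q j))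
    (x : ModSite.sect M W) (hx : smap M l₁ x = ∑ j ∈ F, c j • smap M (l₁ ≫ k) (g j)) :
    smap M (l₂ ≫ l₁) x = ∑ q, e q • smap M ((l₂ ≫ l₁) ≫ k) (∑ j ∈ G, a q j • g j) := by
  have e2 : ∀ q, e q • smap M ((l₂ ≫ l₁) ≫ k) (∑ j ∈ G, a q j • g j) =
      ∑ j ∈ G, (e q * rmap O (l₂ ≫ l₁ ≫ k) (a q j)) • smap M (l₂ ≫ l₁ ≫ k) (g j) := fun q => by
    rw [map_sum, Finset.smul_sum, Category.assoc]
    exact Finset.sum_congr rfl fun j _ => (congrArg (e q • ·) (smap_smul _ _ _)).trans (mul_smul _ _ _).symm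
  rw [Finset.sum_congr rfl fun q _ => e2 q, Finset.sum_comm, smap_comp, hx, map_sum]
  simp only [← Finset.sum_smul]
  refine Eq.trans ?_ (Finset.sum_congr rfl fun j hj => congrArg (· • smap M (l₂ ≫ l₁ ≫ k) (g j)) (he j hj))
  refine Eq.trans ?_ (Finset.sum_subset hFG fun j _ hj => by rw [if_neg hj, zero_smul])
  exact Finset.sum_congr rfl fun j hj => by rw [if_pos hj, smap_smul, ← smap_comp]

variable {K : ModSite.Mod O} (i : K ⟶ M) (φ : M ⟶ N) {V : C}

/-- A kernel is generated by its sections. -/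
theorem genF_ker (hinj : ∀ U, Function.Injective (i.val.app (op U)))
    (h0' : ∀ {U : C} (x : ModSite.sect K U), φ.val.app (op U) (i.val.app (op U) x) = 0)
    (hlift : ∀ (U : C) (y : ModSite.sect M U), φ.val.app (op U) y = 0 → ∃ w, i.val.app (op U) w = y)
    {σ : Type u} {g : σ → ModSite.sect M V} (hg : GenF M V g) (hr : RelF N V fun j => φ.val.app (op V) (g j)) :
    GenF K V fun w : ModSite.sect K V => w := fun W k x => by
  classical
  obtain ⟨S, hS, h⟩ := hg k (i.val.app (op W) x)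
  refine bind_cover S hS fun W₁ l₁ hl₁ => ?_
  obtain ⟨F, c, hc⟩ := h l₁ hl₁
  have h0 : ∑ j ∈ F, c j • smap N (l₁ ≫ k) (φ.val.app (op V) (g j)) = 0 := by
    refine Eq.trans (Eq.trans ?_ (congrArg (φ.val.app (op W₁)) hc).symm) ?_
    · rw [app_sum]
      exact Finset.sum_congr rfl fun j _ => by rw [app_smap]
    · rw [app_smap, h0' x, map_zero]
  obtain ⟨T, hT, h'⟩ := hr (l₁ ≫ k) F c h0
  refine ⟨T, hT, fun W₂ l₂ hl₂ => ?_⟩
  obtain ⟨κ, hκ, G, a, e, hFG, ha, he⟩ := h' l₂ hl₂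
  choose w hw using fun q => hlift V (∑ j ∈ G, a q j • g j) ((app_sum φ G (a q) g).trans (ha q))
  obtain ⟨F₂, c₂, h₂⟩ := exists_sum_image e w fun v => smap K ((l₂ ≫ l₁) ≫ k) v
  refine ⟨F₂, c₂, Eq.trans ?_ h₂⟩
  refine hinj W₂ ?_
  rw [app_sum, app_smap]
  refine Eq.trans ?_ (Finset.sum_congr rfl fun q _ => congrArg (e q • ·)
    ((app_smap i ((l₂ ≫ l₁) ≫ k) (w q)).trans (congrArg _ (hw q))).symm)
  exact comb_rel (M := M) l₁ l₂ k F G hFG c a e g he _ hc

/-- The relations between the sections of a submodule. -/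
theorem relF_ker (hinj : ∀ U, Function.Injective (i.val.app (op U)))
    (hr : RelF M V fun w : ModSite.sect K V => i.val.app (op V) w) : RelF K V fun w : ModSite.sect K V => w :=
  fun W k F c hc => by
  classical
  have h0 : ∑ j ∈ F, c j • smap M k (i.val.app (op V) j) = 0 := by
    refine Eq.trans ?_ ((congrArg (i.val.app (op W)) hc).trans (map_zero _))
    rw [app_sum]
    exact Finset.sum_congr rfl fun j _ => by rw [app_smap]
  obtain ⟨T, hT, h'⟩ := hr k F c h0
  refine ⟨T, hT, fun W₁ l₁ hl₁ => ?_⟩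
  obtain ⟨κ, hκ, G, a, e, hFG, ha, he⟩ := h' l₁ hl₁
  refine ⟨κ, hκ, G, a, e, hFG, fun q => hinj V ?_, he⟩
  rw [app_sum, map_zero]
  exact ha q

end General

variable {𝔛 : FSch.Sys.{u}} (hN : 𝔛.IsLocNoethFormal)

/-- An affine open with generators whose relations behave. -/
structure QData (𝔉 : FSch.ModF 𝔛 hN.1) (V : (𝔛.X 0).Opens) where
  /-- The index type -/
  σ : Type u
  /-- The generators -/
  g : σ → FSec hN 𝔉 V
  gen : GenF 𝔉 V g
  rel : ∀ ⦃τ : Type u⦄ (t : τ → FSec hN 𝔉 V), RelF 𝔉 V t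
  lift : ∀ s : FSec hN 𝔉 V, ∃ (F : Finset σ) (c : σ → AV 𝔛 hN.1 V), s = ∑ j ∈ F, c j • g j

/-- The data on an affine open inside the open of a presentation. -/
noncomputable def QData.ofPres {𝔉 : FSch.ModF 𝔛 hN.1} {X₀ V : (𝔛.X 0).Opens} (hV : IsAffineOpen V) (hVX : V ≤ X₀)
    (P : SheafOfModules.Presentation ((ModSite.restr (𝔛.Osh hN.1) X₀).obj 𝔉)) : QData hN 𝔉 V where
  σ := P.generators.I
  g := gX hN hVX P
  gen := genF_gX hN hVX P
  rel := fun _ t => relF_of_pres hN hV hVX P t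
  lift := exists_lift_gX hN hV hVX P

/-- A property of opens which holds on small affines holds locally. -/
theorem covd_qdata {𝔉 𝔊 : FSch.ModF 𝔛 hN.1} [hF : SheafOfModules.IsQuasicoherent.{u} 𝔉]
    [hG : SheafOfModules.IsQuasicoherent.{u} 𝔊] (Q : (𝔛.X 0).Opens → Prop)
    (h : ∀ (V : (𝔛.X 0).Opens), QData hN 𝔉 V → QData hN 𝔊 V → Q V) :
    Covd (Opens.grothendieckTopology (𝔛.X 0)) fun U => ∃ V, U ≤ V ∧ Q V := by
  intro X
  obtain ⟨q⟩ := hF.nonempty_quasicoherentData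
  obtain ⟨q'⟩ := hG.nonempty_quasicoherentData
  refine ⟨{ arrows := fun U _ => ∃ V, U ≤ V ∧ Q V
            downward_closed := by
              rintro W₁ W₂ f ⟨V, h1, h2⟩ g
              exact ⟨V, g.le.trans h1, h2⟩ }, fun x hx => ?_, fun U k hk => hk⟩
  obtain ⟨Y, g, ⟨i, ⟨gi⟩⟩, hxY⟩ := q.coversTop X x hx
  obtain ⟨Z, g', ⟨i', ⟨gi'⟩⟩, hxZ⟩ := q'.coversTop Y x hxY
  obtain ⟨V, hV, hxV, hle⟩ := exists_isAffineOpen_mem_and_subset (U := Z) hxZ
  refine ⟨V, homOfLE (hle.trans (g'.le.trans g.le)), ⟨V, le_rfl, h V ?_ ?_⟩, hxV⟩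
  · exact QData.ofPres hN hV (hle.trans (g'.le.trans gi.le)) (q.presentation i)
  · exact QData.ofPres hN hV (hle.trans gi'.le) (q'.presentation i')

variable {𝔉 𝔊 : FSch.ModF 𝔛 hN.1}

theorem GenF.res {σ : Type u} {M : FSch.ModF 𝔛 hN.1} {U V : (𝔛.X 0).Opens} (i : U ≤ V) {s : σ → FSec hN M V}
    (h : GenF M V s) : GenF M U fun j => smap M (homOfLE i) (s j) := fun W k x => by
  obtain ⟨S, hS, h'⟩ := h (k ≫ homOfLE i) x
  refine ⟨S, hS, fun W' l hl => ?_⟩
  obtain ⟨F, c, hc⟩ := h' l hl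
  refine ⟨F, c, hc.trans (Finset.sum_congr rfl fun j _ => congrArg (c j • ·) ?_)⟩
  rw [← smap_comp, Category.assoc]

set_option maxHeartbeats 1000000 in
/-- The cokernel is presented on a good affine. -/
theorem presentation_cokernel (φ : 𝔉 ⟶ 𝔊) {V : (𝔛.X 0).Opens} (DF : QData hN 𝔉 V) (DG : QData hN 𝔊 V) :
    Nonempty (SheafOfModules.Presentation ((ModSite.restr (𝔛.Osh hN.1) V).obj (cokernel φ))) := by
  classical
  let p := cokernel.π φ
  refine nonempty_presentation_of_genF (s := fun j => p.val.app (op V) (DG.g j)) (fun W k x => ?_) fun W k F c hc => ?_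
  · obtain ⟨S, hS, h⟩ := ExtSupp8.exists_local_preimage p x
    refine bind_cover S hS fun W₁ l₁ hl₁ => ?_
    obtain ⟨y, hy⟩ := h l₁ hl₁
    obtain ⟨T, hT, h'⟩ := DG.gen (l₁ ≫ k) y
    refine ⟨T, hT, fun W₂ l₂ hl₂ => ?_⟩
    obtain ⟨F, c, hc⟩ := h' l₂ hl₂
    refine ⟨F, c, ?_⟩
    rw [smap_comp, show smap (cokernel φ) l₁ x = p.val.app (op W₁) y from hy.symm, ← app_smap, hc, app_sum]
    exact Finset.sum_congr rfl fun j _ => by rw [app_smap, Category.assoc]
  · have h0 : p.val.app (op W) (∑ j ∈ F, c j • smap 𝔊 k (DG.g j)) = 0 := by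
      rw [app_sum]
      exact Eq.trans (Finset.sum_congr rfl fun j _ => by rw [app_smap]) hc
    obtain ⟨S, hS, h⟩ := exists_locally_of_exact (ShortComplex.exact_cokernel φ) _ h0
    refine bind_cover S hS fun W₁ l₁ hl₁ => ?_
    obtain ⟨y, hy⟩ := h l₁ hl₁
    obtain ⟨T, hT, h'⟩ := DF.gen (l₁ ≫ k) y
    refine bind_cover T hT fun W₂ l₂ hl₂ => ?_
    obtain ⟨F', d, hd⟩ := h' l₂ hl₂
    choose H z hz using fun i : DF.σ => DG.lift (φ.val.app (op V) (DF.g i))
    let z' : DF.σ → DG.σ → AV 𝔛 hN.1 V := fun i j => if j ∈ H i then z i j else 0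
    have hz' : ∀ i (G : Finset DG.σ), H i ⊆ G → ∑ j ∈ G, z' i j • DG.g j = φ.val.app (op V) (DF.g i) := fun i G hG => by
      rw [hz i]
      refine (Finset.sum_subset hG fun j _ hj => by rw [show z' i j = 0 from if_neg hj, zero_smul]).symm.trans ?_
      exact Finset.sum_congr rfl fun j hj => by rw [show z' i j = z i j from if_pos hj]
    let G₀ := F ∪ F'.biUnion H
    let K := (l₂ ≫ l₁) ≫ k
    let c' : DG.σ → AV 𝔛 hN.1 W₂ := fun j =>
      (if j ∈ F then rmap (𝔛.Osh hN.1) (l₂ ≫ l₁) (c j) else 0) - ∑ i ∈ F', d i * rmap (𝔛.Osh hN.1) K (z' i j)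
    have h1 : ∑ j ∈ G₀, c' j • smap 𝔊 K (DG.g j) = 0 := by
      simp only [c', sub_smul, Finset.sum_sub_distrib, Finset.sum_smul, mul_smul, ite_smul, zero_smul]
      rw [Finset.sum_comm, Finset.sum_ite_mem, Finset.inter_eq_right.2 Finset.subset_union_left, sub_eq_zero]
      simp only [← Finset.smul_sum]
      have e1 : ∀ i ∈ F', ∑ j ∈ G₀, rmap (𝔛.Osh hN.1) K (z' i j) • smap 𝔊 K (DG.g j) =
          φ.val.app (op W₂) (smap 𝔉 K (DF.g i)) := fun i hi => by
        rw [app_smap, ← hz' i G₀ (Finset.Subset.trans (fun j hj => Finset.mem_biUnion.2 ⟨i, hi, hj⟩) Finset.subset_union_right),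
          map_sum]
        exact Finset.sum_congr rfl fun j _ => (smap_smul K (z' i j) (DG.g j)).symm
      rw [Finset.sum_congr rfl fun i hi => congrArg (d i • ·) (e1 i hi)]
      have e2 : smap 𝔊 (l₂ ≫ l₁) (∑ j ∈ F, c j • smap 𝔊 k (DG.g j)) =
          ∑ i ∈ F', d i • φ.val.app (op W₂) (smap 𝔉 K (DF.g i)) := by
        rw [smap_comp, ← hy]
        refine (app_smap φ l₂ y).symm.trans ?_
        rw [hd, app_sum]
        exact Finset.sum_congr rfl fun i _ => by simp only [K, Category.assoc]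
      rw [← e2, map_sum]
      exact Finset.sum_congr rfl fun j _ => by rw [smap_smul, ← smap_comp]
    obtain ⟨S', hS', hrel⟩ := DG.rel DG.g K G₀ c' h1
    refine ⟨S', hS', fun W₃ l₃ hl₃ => ?_⟩
    obtain ⟨κ, hκ, G, a, e, hG, ha, he⟩ := hrel l₃ hl₃
    refine ⟨κ ⊕ F', inferInstance, G, Sum.elim a (fun i => z' i.1), Sum.elim e (fun i => rmap (𝔛.Osh hN.1) l₃ (d i.1)),
      (Finset.subset_union_left).trans hG, fun q => ?_, fun j hj => ?_⟩
    · rw [← app_sum]
      rcases q with q | i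
      · show p.val.app (op V) (∑ j ∈ G, a q j • DG.g j) = 0
        rw [ha q, map_zero]
      · show p.val.app (op V) (∑ j ∈ G, z' i.1 j • DG.g j) = 0
        rw [hz' i.1 G ((Finset.Subset.trans (fun j hj => Finset.mem_biUnion.2 ⟨i.1, i.2, hj⟩) Finset.subset_union_right).trans hG)]
        exact cond_apply φ p (cokernel.condition φ) _
    · rw [Fintype.sum_sum_type]
      simp only [Sum.elim_inl, Sum.elim_inr, Category.assoc]
      rw [Finset.sum_coe_sort F' (fun i => rmap (𝔛.Osh hN.1) l₃ (d i) * rmap (𝔛.Osh hN.1) (l₃ ≫ l₂ ≫ l₁ ≫ k) (z' i j))]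
      have he' := he j hj
      simp only [K, Category.assoc] at he'
      rw [← he']
      by_cases hj₀ : j ∈ G₀
      · rw [if_pos hj₀]
        simp only [c', map_sub, map_sum, map_mul, K, Category.assoc]
        split_ifs <;> simp only [map_zero, ← rmap_comp] <;> ring
      · rw [if_neg hj₀, if_neg fun h => hj₀ (Finset.mem_union_left _ h), zero_add]
        refine (Finset.sum_eq_zero fun i hi => ?_).symm
        rw [show z' i j = 0 from if_neg fun h => hj₀ (Finset.mem_union_right _ (Finset.mem_biUnion.2 ⟨i, hi, h⟩)),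
          map_zero, mul_zero]

/-- The kernel is presented on a good affine. -/
theorem presentation_kernel (φ : 𝔉 ⟶ 𝔊) {V : (𝔛.X 0).Opens} (DF : QData hN 𝔉 V) (DG : QData hN 𝔊 V) :
    Nonempty (SheafOfModules.Presentation ((ModSite.restr (𝔛.Osh hN.1) V).obj (kernel φ))) :=
  nonempty_presentation_of_genF
    (genF_ker (kernel.ι φ) φ (sections_injective' _) (cond_apply _ _ (kernel.condition φ))
      (fun _ y hy => exists_mod_kernel_section φ y hy) DF.gen (DG.rel _))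
    (relF_ker (kernel.ι φ) (sections_injective' _) (DF.rel _))

variable [SheafOfModules.IsQuasicoherent.{u} 𝔉] [SheafOfModules.IsQuasicoherent.{u} 𝔊] (φ : 𝔉 ⟶ 𝔊)

theorem isQuasicoherent_of_qdata (M : FSch.ModF 𝔛 hN.1) (𝔉 𝔊 : FSch.ModF 𝔛 hN.1)
    [SheafOfModules.IsQuasicoherent.{u} 𝔉] [SheafOfModules.IsQuasicoherent.{u} 𝔊]
    (h : ∀ (V : (𝔛.X 0).Opens), QData hN 𝔉 V → QData hN 𝔊 V →
      Nonempty (SheafOfModules.Presentation ((ModSite.restr (𝔛.Osh hN.1) V).obj M))) :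
    SheafOfModules.IsQuasicoherent.{u} M := by
  refine isQuasicoherent_of_covd fun X => ?_
  obtain ⟨S, hS, h'⟩ := covd_qdata hN (𝔉 := 𝔉) (𝔊 := 𝔊)
    (fun V => Nonempty (SheafOfModules.Presentation ((ModSite.restr (𝔛.Osh hN.1) V).obj M))) h X
  refine ⟨S, hS, fun U k hk => ?_⟩
  obtain ⟨V, hUV, hP⟩ := h' k hk
  exact ⟨V, ⟨homOfLE hUV⟩, hP⟩

theorem isQuasicoherent_cokernel' : SheafOfModules.IsQuasicoherent.{u} (cokernel φ) :=
  isQuasicoherent_of_qdata hN _ 𝔉 𝔊 fun _ DF DG => presentation_cokernel hN φ DF DG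

theorem isQuasicoherent_kernel' : SheafOfModules.IsQuasicoherent.{u} (kernel φ) :=
  isQuasicoherent_of_qdata hN _ 𝔉 𝔊 fun _ DF DG => presentation_kernel hN φ DF DG

end Groth.Agent.FormalModH7
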