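import Groth.Agent.Lib.FormalModH7.QKer
import Groth.Agent.Lib.FormalModH7.Coh
import Groth.Agent.Lib.ModFlat16.ColimFT

/-!
# Filtered colimits of coherent modules on locally Noetherian formal schemes are quasi-coherent
-/

set_option autoImplicit false
set_option linter.style.haveILetI false
set_option linter.unusedSectionVars false
set_option backward.isDefEq.respectTransparency false
set_option backward.isDefEq.respectTransparency.types false
universe u

open CategoryTheory CategoryTheory.Limits AlgebraicGeometry Opposite TopologicalSpace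

namespace Groth.Agent.FormalModH7

open ModFlat16

section Colim

variable {X : TopCat.{u}} {O : Sheaf (Opens.grothendieckTopology X) CommRingCat.{u}} {I : Type u} [SmallCategory I] [IsFiltered I]
  (D : I ⥤ ModSite.Mod O) (c : Cocone D) (hc : IsColimit c)

include hc in
theorem exists_local_rep_filt {U : Opens X} (s : ModSite.sect c.pt U) {x : X} (hx : x ∈ U) :
    ∃ (j : I) (V : Opens X) (hV : V ≤ U), x ∈ V ∧
      ∃ t : ModSite.sect (D.obj j) V, (c.ι.app j).val.app (op V) t = smap c.pt (homOfLE hV) s :=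
  haveI : PreservesColimitsOfSize.{u, u} (SheafOfModules.toSheaf (ModSite.ringSh O)) := ⟨inferInstance⟩
  CohFound.exists_local_rep (D := D ⋙ SheafOfModules.toSheaf (ModSite.ringSh O))
    (c := (SheafOfModules.toSheaf (ModSite.ringSh O)).mapCocone c)
    (isColimitOfPreserves (SheafOfModules.toSheaf (ModSite.ringSh O)) hc) (U := U) s hx

include hc in
theorem exists_local_zero_filt {j : I} {U : Opens X} (t : ModSite.sect (D.obj j) U)
    (ht : (c.ι.app j).val.app (op U) t = 0) {x : X} (hx : x ∈ U) :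
    ∃ (k : I) (f : j ⟶ k) (V : Opens X) (hV : V ≤ U), x ∈ V ∧
      smap (D.obj k) (homOfLE hV) ((D.map f).val.app (op U) t) = 0 :=
  haveI : PreservesColimitsOfSize.{u, u} (SheafOfModules.toSheaf (ModSite.ringSh O)) := ⟨inferInstance⟩
  CohFound.exists_local_zero (D := D ⋙ SheafOfModules.toSheaf (ModSite.ringSh O))
    (c := (SheafOfModules.toSheaf (ModSite.ringSh O)).mapCocone c)
    (isColimitOfPreserves (SheafOfModules.toSheaf (ModSite.ringSh O)) hc) (U := U) t ht hx

/-- The structure maps of a cocone. -/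
abbrev cmap (j : I) : D.obj j ⟶ c.pt := c.ι.app j

/-- The sections of all stages, in the colimit. -/
noncomputable def colimGen (V : Opens X) (q : Σ j : I, ModSite.sect (D.obj j) V) : ModSite.sect c.pt V :=
  (cmap D c q.1).val.app (op V) q.2

include hc in
/-- The sections of the stages generate the colimit. -/
theorem genF_colim {V : Opens X}
    (hgen : ∀ j, ∃ (σ : Type u) (g : σ → ModSite.sect (D.obj j) V), GenF (D.obj j) V g) :
    GenF c.pt V (colimGen D c V) := fun W k x => by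
  classical
  let S : Sieve W :=
    { arrows := fun W₁ _ => ∃ (l : W₁ ⟶ W) (j : I) (t : ModSite.sect (D.obj j) W₁),
        (cmap D c j).val.app (op W₁) t = smap c.pt l x
      downward_closed := by
        rintro W₁ W₂ f ⟨l, j, t, ht⟩ g
        exact ⟨g ≫ l, j, smap (D.obj j) g t, by rw [app_smap, ht, smap_comp]⟩ }
  refine bind_cover S
    (fun y hy => ?_) fun W₁ l₁ hl₁ => ?_
  · obtain ⟨j, V', hV', hyV, t, ht⟩ := exists_local_rep_filt D c hc x hy
    exact ⟨V', homOfLE hV', ⟨homOfLE hV', j, t, ht⟩, hyV⟩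
  · obtain ⟨l, j, t, ht⟩ := hl₁
    obtain ⟨σ, g, hg⟩ := hgen j
    obtain ⟨T, hT, h⟩ := hg (l₁ ≫ k) t
    refine ⟨T, hT, fun W₂ l₂ hl₂ => ?_⟩
    obtain ⟨F, d, hd⟩ := h l₂ hl₂
    obtain ⟨F', d', h'⟩ := exists_sum_image (κ := F) (fun q => d q.1) (fun q => (⟨j, g q.1⟩ : Σ j, ModSite.sect (D.obj j) V))
      fun q => smap c.pt ((l₂ ≫ l₁) ≫ k) (colimGen D c V q)
    refine ⟨F', d', Eq.trans ?_ h'⟩
    rw [Subsingleton.elim l₁ l, smap_comp, ← ht, ← app_smap, hd, app_sum,
      Finset.sum_coe_sort F (fun q => d q • smap c.pt ((l₂ ≫ l) ≫ k) (colimGen D c V ⟨j, g q⟩))]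
    exact Finset.sum_congr rfl fun q _ => by rw [app_smap, Subsingleton.elim (l₂ ≫ l₁ ≫ k) ((l₂ ≫ l) ≫ k)]; rfl

include hc in
/-- The relations between the sections of the stages. -/
theorem relF_colim {V : Opens X} (hrel : ∀ (j : I) ⦃τ : Type u⦄ (t : τ → ModSite.sect (D.obj j) V), RelF (D.obj j) V t) :
    RelF c.pt V (colimGen D c V) := fun W k F a ha => by
  classical
  obtain ⟨j₀, hj₀⟩ := IsFiltered.sup_objs_exists (F.image Sigma.fst)
  let f := fun q : F => (hj₀ (Finset.mem_image_of_mem Sigma.fst q.2)).some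
  let y := fun q : F => (D.map (f q)).val.app (op V) q.1.2
  have hy : (cmap D c j₀).val.app (op W) (∑ q, a q.1 • smap (D.obj j₀) k (y q)) = 0 := by
    refine Eq.trans ?_ ha
    rw [app_sum, ← Finset.sum_coe_sort F (fun q => a q • smap c.pt k (colimGen D c V q))]
    refine Finset.sum_congr rfl fun q _ => congrArg (a q.1 • ·) ?_
    rw [app_smap]
    exact congrArg (smap c.pt k) (congrArg (fun h : D.obj q.1.1 ⟶ c.pt => h.val.app (op V) q.1.2) (c.w (f q)))
  let S : Sieve W :=
    { arrows := fun W₁ _ => ∃ (l : W₁ ⟶ W) (j : I) (g : j₀ ⟶ j),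
        smap (D.obj j) l ((D.map g).val.app (op W) (∑ q, a q.1 • smap (D.obj j₀) k (y q))) = 0
      downward_closed := by
        rintro W₁ W₂ f ⟨l, j, g, hg⟩ g'
        exact ⟨g' ≫ l, j, g, by rw [smap_comp, hg, map_zero]⟩ }
  refine bind_cover S
    (fun x hx => ?_) fun W₁ l₁ hl₁ => ?_
  · obtain ⟨j, g, V', hV', hxV, hg⟩ := exists_local_zero_filt D c hc _ hy hx
    exact ⟨V', homOfLE hV', ⟨homOfLE hV', j, g, hg⟩, hxV⟩
  · obtain ⟨l, j, g, hg⟩ := hl₁
    let z := fun q : F => (D.map g).val.app (op V) (y q)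
    have hz : ∑ q ∈ Finset.univ, rmap O l₁ (a q.1) • smap (D.obj j) (l₁ ≫ k) (z q) = 0 := by
      refine Eq.trans ?_ hg
      rw [app_sum, map_sum]
      refine Finset.sum_congr rfl fun q _ => ?_
      rw [smap_smul, app_smap, ← smap_comp, Subsingleton.elim l l₁]
    obtain ⟨T, hT, h⟩ := hrel j z (l₁ ≫ k) Finset.univ (fun q => rmap O l₁ (a q.1)) hz
    refine ⟨T, hT, fun W₂ l₂ hl₂ => ?_⟩
    obtain ⟨κ, hκ, G, b, e, hG, hb, he⟩ := h l₂ hl₂
    obtain rfl : G = Finset.univ := Finset.univ_subset_iff.1 hG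
    refine ⟨κ, hκ, F, fun r q => if hq : q ∈ F then b r ⟨q, hq⟩ else 0, e, subset_rfl, fun r => ?_, fun q hq => ?_⟩
    · have h1 := (congrArg ((cmap D c j).val.app (op V)) (hb r)).trans (map_zero _)
      rw [app_sum] at h1
      refine Eq.trans ?_ h1
      rw [← Finset.sum_coe_sort F (fun q => (if hq : q ∈ F then b r ⟨q, hq⟩ else 0) • colimGen D c V q)]
      refine Finset.sum_congr rfl fun q _ => ?_
      rw [dif_pos q.2]
      refine congrArg (b r q • ·) ?_
      exact (congrArg (fun h : D.obj q.1.1 ⟶ c.pt => h.val.app (op V) q.1.2)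
        (by rw [← Functor.map_comp_assoc]; exact c.w _ : D.map (f q) ≫ D.map g ≫ cmap D c j = cmap D c q.1.1)).symm
    · have h1 := he ⟨q, hq⟩ (Finset.mem_univ _)
      rw [if_pos (Finset.mem_univ _)] at h1
      rw [if_pos hq, rmap_comp, h1, Category.assoc]
      exact Finset.sum_congr rfl fun r _ => by simp only [dif_pos hq]

end Colim

variable {𝔛 : FSch.Sys.{u}} (hN : 𝔛.IsLocNoethFormal)

/-- A coherent module is presented on every affine open. -/
theorem qdata_coh (𝔉 : FSch.ModF 𝔛 hN.1) [SheafOfModules.IsFinitePresentation (R := ModSite.ringSh (𝔛.Osh hN.1)) 𝔉]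
    {V : (𝔛.X 0).Opens} (hV : IsAffineOpen V) : Nonempty (QData hN 𝔉 V) := by
  obtain ⟨P, -⟩ := exists_presentation_of_hasPres (hasPres_kernel hN (0 : 𝔉 ⟶ 𝔉) hV)
  exact ⟨QData.ofPres hN hV le_rfl (P.ofIsIso ((ModSite.restr (𝔛.Osh hN.1) V).map kernelZeroIsoSource.hom))⟩

/-- A filtered colimit of coherent modules is quasi-coherent. -/
theorem isQuasicoherent_colim {I : Type u} [SmallCategory I] [IsFiltered I] (D : I ⥤ FSch.ModF 𝔛 hN.1)
    (c : Cocone D) (hc : IsColimit c)
    (hD : ∀ j, SheafOfModules.IsFinitePresentation (R := ModSite.ringSh (𝔛.Osh hN.1)) (D.obj j)) :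
    SheafOfModules.IsQuasicoherent.{u} c.pt := by
  refine isQuasicoherent_of_covd fun X => ⟨affSieve X, affSieve_mem X, fun U k hk => ?_⟩
  obtain ⟨V, hV, hle, -⟩ := hk
  have Q : ∀ j, QData hN (D.obj j) V := fun j => haveI := hD j; (qdata_coh hN (D.obj j) hV).some
  exact ⟨V, ⟨homOfLE hle⟩, nonempty_presentation_of_genF (genF_colim D c hc fun j => ⟨_, _, (Q j).gen⟩)
    (relF_colim D c hc fun j _ t => (Q j).rel t)⟩

end Groth.Agent.FormalModH7
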