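import Groth.Agent.Lib.FormalModH7.Coh
import Mathlib.CategoryTheory.Adjunction.Additive

/-!
# Coherent modules and their bottom level
-/

set_option autoImplicit false
set_option linter.style.haveILetI false
set_option backward.isDefEq.respectTransparency false
set_option backward.isDefEq.respectTransparency.types false
universe u

open CategoryTheory CategoryTheory.Limits AlgebraicGeometry Opposite TopologicalSpace

namespace Groth.Agent.FormalModH7

variable {𝔛 : FSch.Sys.{u}} (hN : 𝔛.IsLocNoethFormal) {V W : (𝔛.X 0).Opens}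

/-- The ideals of definition restrict to each other. -/
theorem map_defIdeal_res (hV : IsAffineOpen V) (hW : IsAffineOpen W) (i : W ≤ V) :
    (defIdeal 𝔛 hN.1 V).map (rA hN.1 i) = defIdeal 𝔛 hN.1 W := by
  refine le_antisymm (Ideal.map_le_iff_le_comap.2 fun a ha => ?_) fun x hx => ?_
  · have h1 := rA_mem_pow (h := hN.1) i 1 (a := a) (by rwa [pow_one])
    rwa [pow_one] at h1
  · obtain ⟨S, hS⟩ := fg_defIdeal hN hV
    have hmem : (fun _ : PUnit.{1} => x) ∈ Submodule.span (AV 𝔛 hN.1 W)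
        (Set.range fun (r : S) (_ : PUnit.{1}) => rA hN.1 i r.1) := by
      refine mem_span_of_levels hN hW _ _ fun m => ?_
      have hlow : prj 𝔛 hN.1 W m x ∈ (RingHom.ker (low hN.1 V m)).map (rL hN.1 i m) := by
        rw [ker_low hN hV m]
        refine Eq.subst (motive := fun J => prj 𝔛 hN.1 W m x ∈ J)
          (Scheme.IdealSheafData.map_ideal _ (U := ⟨_, isAffineOpen_lvU hN hW m⟩)
            (V := ⟨_, isAffineOpen_lvU hN hV m⟩) (lvU_mono hN.1 i m)).symm ?_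
        rw [← ker_low hN hW m, RingHom.mem_ker, low_prj]
        exact hx
      rw [← map_defIdeal hN hV m, Ideal.map_map, ← hS, Ideal.map_span] at hlow
      have key : ∀ z ∈ Ideal.span (((rL hN.1 i m).comp (prj 𝔛 hN.1 V m)) '' (S : Set (AV 𝔛 hN.1 V))),
          (fun _ : PUnit.{1} => z) ∈ Submodule.span (LV 𝔛 hN.1 m W)
            (Set.range fun (r : S) (_ : PUnit.{1}) => prj 𝔛 hN.1 W m (rA hN.1 i r.1)) := fun z hz => by
        induction hz using Submodule.span_induction with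
        | mem y hy =>
          obtain ⟨r, hr, rfl⟩ := hy
          exact Submodule.subset_span ⟨⟨r, hr⟩, funext fun _ => prj_rA hN.1 i m r⟩
        | zero => exact Submodule.zero_mem _
        | add a b _ _ ha hb => exact Submodule.add_mem _ ha hb
        | smul c a _ ha => exact Submodule.smul_mem _ c ha
      exact key _ hlow
    obtain ⟨c, hc⟩ := (Submodule.mem_span_range_iff_exists_fun (AV 𝔛 hN.1 W)).1 hmem
    have h2 := congrFun hc PUnit.unit
    rw [Finset.sum_apply] at h2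
    rw [← h2]
    exact Ideal.sum_mem _ fun r _ => Ideal.mul_mem_left _ _
      (Ideal.mem_map_of_mem _ (hS ▸ Submodule.subset_span r.2))

/-- Images of generators under an epimorphism generate. -/
theorem gens_of_epi {C : Type u} [SmallCategory C] {J : GrothendieckTopology C} {O : Sheaf J CommRingCat.{u}}
    {M N : ModSite.Mod O} (f : M ⟶ N) [Epi f] {U : C} {ι : Type u} [Fintype ι] {s : ι → ModSite.sect M U}
    (hs : ModFlat16.Gens M U s) : ModFlat16.Gens N U fun i => f.val.app (op U) (s i) := by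
  refine ModFlat16.gens_mk _ fun {V} k y => ?_
  obtain ⟨S, hS, h⟩ := ExtSupp8.exists_local_preimage f y
  refine ModFlat16.bind_cover S hS fun W m hm => ?_
  obtain ⟨x, hx⟩ := h m hm
  obtain ⟨T, hT, h'⟩ := ModFlat16.gens_apply hs (m ≫ k) x
  refine ⟨T, hT, fun W' m' hm' => ?_⟩
  obtain ⟨c, hc⟩ := h' m' hm'
  refine ⟨c, ?_⟩
  rw [ModFlat16.smap_comp m m', show ModFlat16.smap N m y = f.val.app (op W) x from hx.symm, ← ModFlat16.app_smap,
    hc, ModFlat16.app_comb]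
  exact Finset.sum_congr rfl fun i _ => by rw [ModFlat16.app_smap, Category.assoc]

variable {𝔉 𝔊 : FSch.ModF 𝔛 hN.1}

/-- A map surjective on affine sections is an epimorphism. -/
theorem epi_of_affine (θ : 𝔉 ⟶ 𝔊)
    (h : ∀ (V : (𝔛.X 0).Opens) (_ : IsAffineOpen V), Function.Surjective (appLin hN 𝔉 θ V)) : Epi θ := by
  refine epi_of_locally θ fun V y => ⟨affSieve V, affSieve_mem V, fun W l hl => ?_⟩
  obtain ⟨U', hU', h1, h2⟩ := hl
  obtain ⟨x, hx⟩ := h U' hU' (rF hN 𝔊 h2 y)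
  refine ⟨rF hN 𝔉 h1 x, ?_⟩
  rw [ModFlat16.app_smap, show θ.val.app (op U') x = rF hN 𝔊 h2 y from hx, ← ModFlat16.smap_comp]
  rfl

variable [SheafOfModules.IsFinitePresentation (R := ModSite.ringSh (𝔛.Osh hN.1)) 𝔉]

/-- The kernel of the unit to a level over an affine open. -/
theorem ker_unitL (hV : IsAffineOpen V) (n : ℕ) (x : FSec hN 𝔉 V) :
    (unitL hN 𝔉 n).val.app (op V) x = 0 ↔ x ∈ defIdeal 𝔛 hN.1 V ^ (n + 1) • (⊤ : Submodule (AV 𝔛 hN.1 V) (FSec hN 𝔉 V)) := by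
  have h1 : ((unitL hN 𝔉 n).val.app (op V) x = 0) ↔ zetaEquiv hN 𝔉 V x ∈
      defIdeal 𝔛 hN.1 V ^ (n + 1) • (⊤ : Submodule (AV 𝔛 hN.1 V) (RSec hN.1 (sysL hN 𝔉) V)) := by
    rw [← ker_piM (sysL hN 𝔉) hN (isCoh_sysL hN 𝔉) hV, LinearMap.mem_ker]
    exact Iff.of_eq (congrArg (fun z => z = (0 : MV hN.1 (sysL hN 𝔉) V n)) (piM_zeta hN 𝔉 V n x).symm)
  rw [h1]
  have h2 : (defIdeal 𝔛 hN.1 V ^ (n + 1) • (⊤ : Submodule (AV 𝔛 hN.1 V) (FSec hN 𝔉 V))).map
      (zetaEquiv hN 𝔉 V).toLinearMap = defIdeal 𝔛 hN.1 V ^ (n + 1) • ⊤ := by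
    rw [Submodule.map_smul'', Submodule.map_top, LinearEquiv.range]
  rw [← h2]
  exact Function.Injective.mem_set_image (zetaEquiv hN 𝔉 V).injective

/-- The kernel of the unit to a level is of finite type. -/
theorem isFiniteType_kernel_unitL (n : ℕ) :
    SheafOfModules.IsFiniteType (R := ModSite.ringSh (𝔛.Osh hN.1)) (kernel (unitL hN 𝔉 n)) := by
  refine ModFlat16.isFiniteType_of_covd fun X => ⟨affSieve X, affSieve_mem X, fun U k hk => ?_⟩
  obtain ⟨V, hV, hle, -⟩ := hk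
  refine ModFlat16.HasGens.res (homOfLE hle) ?_
  classical
  obtain ⟨ν, hν, g, hg⟩ := exists_gens hN 𝔉 hV
  obtain ⟨S, hS⟩ : (defIdeal 𝔛 hN.1 V ^ (n + 1)).FG := (fg_defIdeal hN hV).pow
  have hmem : ∀ p : S × ν, (unitL hN 𝔉 n).val.app (op V) (p.1.1 • g p.2 : FSec hN 𝔉 V) = 0 := fun p =>
    (ker_unitL hN hV n _).2 (Submodule.smul_mem_smul (hS ▸ Submodule.subset_span p.1.2) Submodule.mem_top)
  choose w hw using fun p : S × ν => ModFlat16.exists_mod_kernel_section (unitL hN 𝔉 n) (p.1.1 • g p.2 : FSec hN 𝔉 V) (hmem p)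
  refine ⟨ULift.{u} (S × ν), inferInstance, fun p => w p.down, gens_of_affine hN _ _ fun W hW i => ?_⟩
  rw [eq_top_iff]
  rintro y -
  let x : FSec hN 𝔉 W := (kernel.ι (unitL hN 𝔉 n)).val.app (op W) y
  have hx : x ∈ defIdeal 𝔛 hN.1 W ^ (n + 1) • (⊤ : Submodule (AV 𝔛 hN.1 W) (FSec hN 𝔉 W)) :=
    (ker_unitL hN hW n x).1 (ModFlat16.app_smap_comp_zero _ (unitL hN 𝔉 n) (kernel.condition _) y)
  let P := Submodule.span (AV 𝔛 hN.1 W) (Set.range fun p : ULift.{u} (S × ν) => rF hN (kernel (unitL hN 𝔉 n)) i (w p.down))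
  suffices hxP : x ∈ P.map (appLin hN (kernel (unitL hN 𝔉 n)) (kernel.ι (unitL hN 𝔉 n)) W) by
    obtain ⟨y', hy', he⟩ := hxP
    have hyy : y' = y := ModFlat16.sections_injective' (kernel.ι (unitL hN 𝔉 n)) W he
    show (y : FSec hN (kernel (unitL hN 𝔉 n)) W) ∈ P
    rwa [hyy] at hy'
  rw [← map_defIdeal_res hN hV hW i, ← Ideal.map_pow, ← hS, Ideal.map_span, ← span_rF hN 𝔉 hV hW i g hg,
    Submodule.span_smul_span] at hx
  refine Submodule.span_le.2 ?_ hx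
  intro z hz
  obtain ⟨a, ⟨b, hb, rfl⟩, c, ⟨j, rfl⟩, rfl⟩ := hz
  refine ⟨_, Submodule.subset_span ⟨⟨⟨b, hb⟩, j⟩, rfl⟩, ?_⟩
  show (kernel.ι (unitL hN 𝔉 n)).val.app (op W) (rF hN (kernel (unitL hN 𝔉 n)) i (w (⟨b, hb⟩, j))) = _
  rw [ModFlat16.app_smap, hw, ModFlat16.smap_smul]
  rfl

variable [SheafOfModules.IsFinitePresentation (R := ModSite.ringSh (𝔛.Osh hN.1)) 𝔊]

/-- A map of coherent modules is an epimorphism if it is one at the bottom level. -/
theorem epi_of_epi_pull (θ : 𝔉 ⟶ 𝔊) [Epi ((FSch.levelMor 𝔛 hN.1 0).pull.map θ)] : Epi θ := by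
  refine epi_of_affine hN θ fun V hV => ?_
  obtain ⟨ι, hι, g, hg⟩ := exists_gens hN 𝔉 hV
  have h1 := gens_of_epi ((FSch.levelMor 𝔛 hN.1 0).pull.map θ)
    (gens_pullback (FSch.levelMor 𝔛 hN.1 0) (gens_of_span hN 𝔉 hV g hg))
  have h2 : ∀ j, ((FSch.levelMor 𝔛 hN.1 0).pull.map θ).val.app (op (𝔛.lvU hN.1 0 V))
      ((unitL hN 𝔉 0).val.app (op V) (g j)) = (unitL hN 𝔊 0).val.app (op V) (θ.val.app (op V) (g j)) := fun j =>
    (congrArg (fun q => q.val.app (op V) (g j)) ((FSch.levelMor 𝔛 hN.1 0).adj.unit.naturality θ)).symm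
  have hM := isCoh_sysL hN 𝔊
  haveI : Coh.IsQCoh ((sysL hN 𝔊).F 0) := (hM 0).1
  have h3 : Submodule.span (AV 𝔛 hN.1 V) (Set.range fun j => zetaEquiv hN 𝔊 V (appLin hN 𝔉 θ V (g j))) = ⊤ := by
    refine span_of_level_zero (sysL hN 𝔊) hN hM hV _ ?_
    refine span_of_gens (isAffineOpen_lvU hN hV 0) ((sysL hN 𝔊).F 0) _ ?_
    rw [show (fun j => piM hN.1 (sysL hN 𝔊) V 0 (zetaEquiv hN 𝔊 V (appLin hN 𝔉 θ V (g j)))) =
      fun j => ((FSch.levelMor 𝔛 hN.1 0).pull.map θ).val.app (op (𝔛.lvU hN.1 0 V))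
        ((unitL hN 𝔉 0).val.app (op V) (g j)) from funext fun j => (piM_zeta hN 𝔊 V 0 _).trans (h2 j).symm]
    exact h1
  rw [← LinearMap.range_eq_top, eq_top_iff]
  rintro y -
  have h4 : zetaEquiv hN 𝔊 V y ∈ (LinearMap.range (appLin hN 𝔉 θ V)).map (zetaEquiv hN 𝔊 V).toLinearMap := by
    refine Submodule.span_le.2 ?_ (h3 ▸ (Submodule.mem_top (x := zetaEquiv hN 𝔊 V y)))
    rintro _ ⟨j, rfl⟩
    exact ⟨_, ⟨g j, rfl⟩, rfl⟩
  obtain ⟨y', hy', he⟩ := h4
  exact (zetaEquiv hN 𝔊 V).injective he ▸ hy'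

end Groth.Agent.FormalModH7
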