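import Groth.Agent.Lib.FormalModH7.Qcoh
import Groth.Agent.Lib.FormalModH7.Level

/-!
# Quasi-coherent subobjects and quotients of coherent modules
-/

set_option autoImplicit false
set_option linter.style.haveILetI false
set_option backward.isDefEq.respectTransparency false
set_option backward.isDefEq.respectTransparency.types false
universe u

open CategoryTheory CategoryTheory.Limits AlgebraicGeometry Opposite TopologicalSpace

namespace Groth.Agent.FormalModH7

open ModFlat16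

variable {𝔛 : FSch.Sys.{u}} (hN : 𝔛.IsLocNoethFormal) {𝔉 𝔊 : FSch.ModF 𝔛 hN.1}

/-- A quotient of a module of finite type is of finite type. -/
theorem isFiniteType_of_epi (p : 𝔉 ⟶ 𝔊) [Epi p] [SheafOfModules.IsFiniteType (R := ModSite.ringSh (𝔛.Osh hN.1)) 𝔉] :
    SheafOfModules.IsFiniteType (R := ModSite.ringSh (𝔛.Osh hN.1)) 𝔊 := by
  refine isFiniteType_of_covd fun X => ?_
  obtain ⟨S, hS, h⟩ := covd_hasGens (M := 𝔉) X
  refine ⟨S, hS, fun U k hk => ?_⟩
  obtain ⟨ι, hι, s, hs⟩ := h k hk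
  exact ⟨ι, hι, _, gens_of_epi p hs⟩

set_option maxHeartbeats 1000000 in
/-- A quasi-coherent submodule of a coherent module is of finite type. -/
theorem isFiniteType_of_mono [SheafOfModules.IsFinitePresentation (R := ModSite.ringSh (𝔛.Osh hN.1)) 𝔉]
    [hq : SheafOfModules.IsQuasicoherent (R := ModSite.ringSh (𝔛.Osh hN.1)) 𝔊] (p : 𝔊 ⟶ 𝔉) [Mono p] :
    SheafOfModules.IsFiniteType (R := ModSite.ringSh (𝔛.Osh hN.1)) 𝔊 := by
  classical
  obtain ⟨q⟩ := hq.nonempty_quasicoherentData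
  refine isFiniteType_of_covd fun X => ?_
  let S : Sieve X :=
    { arrows := fun W' _ => ∃ V : (𝔛.X 0).Opens, W' ≤ V ∧ HasGens 𝔊 V
      downward_closed := by
        rintro W₁ W₂ f ⟨V, h1, h2⟩ g
        exact ⟨V, g.le.trans h1, h2⟩ }
  refine ⟨S, fun x hx => ?_, fun U k hk => ?_⟩
  · obtain ⟨Y, g, hg, hxY⟩ := q.coversTop X x hx
    obtain ⟨i, ⟨gi⟩⟩ := hg
    obtain ⟨V, hV, hxV, hle⟩ := exists_isAffineOpen_mem_and_subset (U := Y) (x := x) hxY
    refine ⟨V, homOfLE (hle.trans g.le), ⟨V, le_rfl, ?_⟩, hxV⟩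
    haveI := (structure_AV hN hV).1
    haveI := finite_FSec hN 𝔉 hV
    have hVX : V ≤ q.X i := hle.trans gi.le
    let π := (q.presentation i).generators.π
    let e : (q.presentation i).generators.I → FSec hN 𝔊 V := fun j =>
      top ((ModSite.restr (𝔛.Osh hN.1) (q.X i)).obj 𝔊) (Over.mk (homOfLE hVX)) (topVal (SheafOfModules.ιFree j ≫ π))
    obtain ⟨T, hTs, hT⟩ := (Submodule.fg_span_iff_fg_span_finset_subset (R := AV 𝔛 hN.1 V)
      (Set.range fun j => appLin hN 𝔊 p V (e j))).1 (IsNoetherian.noetherian _)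
    choose jj hjj using fun y : T => hTs y.2
    refine ⟨T, inferInstance, fun y => e (jj y), gens_mk _ fun {W} k y => ?_⟩
    obtain ⟨T₁, hT₁, hT₁'⟩ := exists_finite_lift π (A := Over.mk (k ≫ homOfLE hVX)) y
    refine ⟨T₁, hT₁, fun W' l hl => ?_⟩
    obtain ⟨F, d, hd⟩ := hT₁' l hl
    have hlk : W' ≤ V := l.le.trans k.le
    have hspan : ∀ j, ∃ b : T → AV 𝔛 hN.1 V, ∑ y', b y' • e (jj y') = e j := fun j => by
      have h1 : appLin hN 𝔊 p V (e j) ∈ Submodule.span (AV 𝔛 hN.1 V) (Set.range fun y' : T => appLin hN 𝔊 p V (e (jj y'))) := by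
        have h2 : appLin hN 𝔊 p V (e j) ∈ Submodule.span (AV 𝔛 hN.1 V) (T : Set (FSec hN 𝔉 V)) :=
          hT.le (Submodule.subset_span ⟨j, rfl⟩)
        exact Submodule.span_mono (s := (T : Set (FSec hN 𝔉 V)))
          (t := Set.range fun y' : T => appLin hN 𝔊 p V (e (jj y'))) (fun v hv => ⟨⟨v, hv⟩, hjj ⟨v, hv⟩⟩) h2
      obtain ⟨b, hb⟩ := (Submodule.mem_span_range_iff_exists_fun (AV 𝔛 hN.1 V)).1 h1
      refine ⟨b, sections_injective' p V ?_⟩
      rw [app_comb]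
      exact hb
    choose b hb using hspan
    refine ⟨fun y' => ∑ j ∈ F, d j * rA hN.1 hlk (b j y'), ?_⟩
    refine hd.trans ?_
    have h4 : ∀ j, top ((ModSite.restr (𝔛.Osh hN.1) (q.X i)).obj 𝔊) (Over.mk (l ≫ k ≫ homOfLE hVX))
        (topVal (SheafOfModules.ιFree j ≫ π)) = ∑ y', rA hN.1 hlk (b j y') • smap 𝔊 (l ≫ k) (e (jj y')) := fun j => by
      have h5 := congrArg (smap 𝔊 (l ≫ k)) (hb j)
      rw [smap_comb] at h5
      refine Eq.trans ?_ h5.symm
      let a : Over.mk (l ≫ k ≫ homOfLE hVX) ⟶ Over.mk (homOfLE hVX) := Over.homMk (l ≫ k) (Subsingleton.elim _ _)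
      exact (smap_top (N := (ModSite.restr (𝔛.Osh hN.1) (q.X i)).obj 𝔊) _ _ a _).symm
    exact comb_comb d F (fun j y' => rA hN.1 hlk (b j y')) (fun y' => smap 𝔊 (l ≫ k) (e (jj y'))) _ h4
  · obtain ⟨V, h1, h2⟩ := hk
    exact HasGens.res (homOfLE h1) h2

end Groth.Agent.FormalModH7
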