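import Groth.Agent.Lib.FormalModH7.QExt
import Groth.Agent.Lib.FormalModH7.QColim
import Groth.Agent.Lib.FormalModH7.Sub
import Mathlib.CategoryTheory.Limits.Constructions.Filtered
import Mathlib.CategoryTheory.ObjectProperty.Ind

/-!
# Ind-coherent modules on locally Noetherian formal schemes
-/

set_option autoImplicit false
set_option linter.style.haveILetI false
set_option linter.unusedSectionVars false
set_option backward.isDefEq.respectTransparency false
set_option backward.isDefEq.respectTransparency.types false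
universe u

open CategoryTheory CategoryTheory.Limits AlgebraicGeometry Opposite TopologicalSpace

namespace Groth.Agent.FormalModH7

open ModFlat16

section General

variable {X : TopCat.{u}} {O : Sheaf (Opens.grothendieckTopology X) CommRingCat.{u}} {M : ModSite.Mod O}

/-- Every section is locally a finite sum of images. -/
def Covers {A : Type u} (C : A → ModSite.Mod O) (f : ∀ a, C a ⟶ M) : Prop :=
  ∀ (U : Opens X) (x : ModSite.sect M U), ∀ y ∈ U, ∃ (V : Opens X) (hV : V ≤ U), y ∈ V ∧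
    ∃ (S : Finset A) (t : ∀ a, ModSite.sect (C a) V), smap M (homOfLE hV) x = ∑ a ∈ S, (f a).val.app (op V) (t a)

/-- Modules covered by the stages of a system of monomorphisms are the colimit. -/
theorem nonempty_isColimit_of_mono {I : Type u} [SmallCategory I] [IsFiltered I] (D : I ⥤ ModSite.Mod O) (c : Cocone D)
    (hm : ∀ j, Mono (c.ι.app j))
    (hc : ∀ (U : Opens X) (x : ModSite.sect c.pt U), ∀ y ∈ U, ∃ (V : Opens X) (hV : V ≤ U), y ∈ V ∧
      ∃ (j : I) (t : ModSite.sect (D.obj j) V), (cmap D c j).val.app (op V) t = smap c.pt (homOfLE hV) x) :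
    Nonempty (IsColimit c) := by
  let φ := colimit.desc D c
  haveI : Epi φ := epi_of_locally φ fun U x => by
    refine ⟨{ arrows := fun W l => ∃ z, φ.val.app (op W) z = smap c.pt l x
              downward_closed := by
                rintro W₁ W₂ l ⟨z, hz⟩ g
                exact ⟨smap (colimit D) g z, by rw [app_smap, hz, smap_comp]⟩ }, fun y hy => ?_, fun W l hl => hl⟩
    obtain ⟨V, hV, hyV, j, t, ht⟩ := hc U x y hy
    refine ⟨V, homOfLE hV, ⟨(colimit.ι D j).val.app (op V) t, ?_⟩, hyV⟩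
    exact (congrArg (fun q : D.obj j ⟶ c.pt => q.val.app (op V) t) (colimit.ι_desc c j)).trans ht
  haveI : Mono φ := mono_of_sections φ fun U z hz => by
    let S : Sieve U :=
      { arrows := fun W l => smap (colimit D) l z = 0
        downward_closed := fun {W₁ W₂ l} h g => by rw [smap_comp, h, map_zero] }
    refine sect_ext _ S (fun y hy => ?_) fun W l hl => hl.trans (map_zero _).symm
    obtain ⟨j, V, hV, hyV, t, ht⟩ := exists_local_rep_filt D (colimit.cocone D) (colimit.isColimit D) z hy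
    refine ⟨V, homOfLE hV, ?_, hyV⟩
    have h1 : (cmap D c j).val.app (op V) t = 0 := by
      refine Eq.trans ?_ ((congrArg (smap c.pt (homOfLE hV)) hz).trans (map_zero _))
      refine (congrArg (fun q : D.obj j ⟶ c.pt => q.val.app (op V) t) (colimit.ι_desc c j)).symm.trans ?_
      exact (congrArg (φ.val.app (op V)) ht).trans (app_smap φ _ z)
    haveI := hm j
    have h2 : t = 0 := sections_injective' (cmap D c j) V (h1.trans (map_zero _).symm)
    show smap (colimit D) (homOfLE hV) z = 0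
    refine ht.symm.trans ?_
    rw [h2]
    exact map_zero _
  haveI : IsIso ((colimit.isColimit D).desc c) := isIso_of_mono_of_epi φ
  exact ⟨IsColimit.ofPointIso (colimit.isColimit D)⟩

/-- The factorization of an image through a containing submodule. -/
theorem exists_image_fac {P L : ModSite.Mod O} (ψ : P ⟶ M) (l : L ⟶ M) [Mono l] (h : ∃ q, q ≫ l = ψ) :
    ∃ r, r ≫ l = Abelian.image.ι ψ := by
  obtain ⟨q, rfl⟩ := h
  refine ⟨(Abelian.monoIsKernelOfCokernel _ (cokernelIsCokernel l)).lift (KernelFork.ofι (Abelian.image.ι (q ≫ l)) ?_),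
    (Abelian.monoIsKernelOfCokernel _ (cokernelIsCokernel l)).fac _ WalkingParallelPair.zero⟩
  rw [← cancel_epi (Abelian.factorThruImage (q ≫ l)), ← Category.assoc, Abelian.image.fac, Category.assoc]
  show q ≫ (l ≫ cokernel.π l) = _
  simp only [cokernel.condition, comp_zero]

end General

variable {𝔛 : FSch.Sys.{u}} (hN : 𝔛.IsLocNoethFormal)

/-- Ind-coherent modules. -/
abbrev IndC : ObjectProperty (FSch.ModF 𝔛 hN.1) :=
  ObjectProperty.ind.{u} fun 𝔊 : FSch.ModF 𝔛 hN.1 => FSch.IsCohF 𝔛 hN.1 𝔊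

/-- The sum of two quasi-coherent modules is quasi-coherent. -/
theorem isQuasicoherent_biprod (𝔉 𝔊 : FSch.ModF 𝔛 hN.1) [SheafOfModules.IsQuasicoherent.{u} 𝔉]
    [SheafOfModules.IsQuasicoherent.{u} 𝔊] : SheafOfModules.IsQuasicoherent.{u} (𝔉 ⊞ 𝔊) := by
  let S : ShortComplex (FSch.ModF 𝔛 hN.1) := ShortComplex.mk (biprod.inl : 𝔉 ⟶ 𝔉 ⊞ 𝔊) biprod.snd (by simp)
  have hs : S.Splitting :=
    { r := biprod.fst, s := biprod.inr, id := biprod.total }
  exact isQuasicoherent_X₂ hN (S := S) hs.shortExact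
    (h₁ := inferInstanceAs (SheafOfModules.IsQuasicoherent.{u} 𝔉)) (h₃ := inferInstanceAs (SheafOfModules.IsQuasicoherent.{u} 𝔊))

/-- The sum of two modules of finite type is of finite type. -/
theorem isFiniteType_biprod (𝔉 𝔊 : FSch.ModF 𝔛 hN.1) [SheafOfModules.IsFiniteType (R := ModSite.ringSh (𝔛.Osh hN.1)) 𝔉]
    [SheafOfModules.IsFiniteType (R := ModSite.ringSh (𝔛.Osh hN.1)) 𝔊] :
    SheafOfModules.IsFiniteType (R := ModSite.ringSh (𝔛.Osh hN.1)) (𝔉 ⊞ 𝔊) := by
  refine isFiniteType_of_covd fun X => ?_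
  obtain ⟨S, hS, h⟩ := (covd_hasGens (M := 𝔉)).and (covd_hasGens (M := 𝔊)) (fun U U' g => HasGens.res g) X
  refine ⟨S, hS, fun U k hk => ?_⟩
  obtain ⟨⟨ι, _, s, hs⟩, ⟨ι', _, s', hs'⟩⟩ := h k hk
  refine ⟨ι ⊕ ι', inferInstance, Sum.elim (fun i => (biprod.inl : 𝔉 ⟶ 𝔉 ⊞ 𝔊).val.app (op U) (s i))
    (fun i => (biprod.inr : 𝔊 ⟶ 𝔉 ⊞ 𝔊).val.app (op U) (s' i)), gens_mk _ fun {V} l x => ?_⟩
  obtain ⟨T, hT, hT'⟩ := gens_apply hs l ((biprod.fst : 𝔉 ⊞ 𝔊 ⟶ 𝔉).val.app (op V) x)
  refine bind_cover T hT fun W m hm => ?_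
  obtain ⟨c, hc⟩ := hT' m hm
  obtain ⟨T₂, hT₂, hT₂'⟩ := gens_apply hs' (m ≫ l) (smap 𝔊 m ((biprod.snd : 𝔉 ⊞ 𝔊 ⟶ 𝔊).val.app (op V) x))
  refine ⟨T₂, hT₂, fun W' m' hm' => ?_⟩
  obtain ⟨d, hd⟩ := hT₂' m' hm'
  refine ⟨Sum.elim (fun i => rmap (𝔛.Osh hN.1) m' (c i)) d, ?_⟩
  have h1 := congrArg (fun q : 𝔉 ⊞ 𝔊 ⟶ 𝔉 ⊞ 𝔊 => q.val.app (op W') (smap (𝔉 ⊞ 𝔊) (m' ≫ m) x))
    (biprod.total (X := 𝔉) (Y := 𝔊)).symm
  refine h1.trans ?_
  rw [Fintype.sum_sum_type]
  show (biprod.inl : 𝔉 ⟶ 𝔉 ⊞ 𝔊).val.app (op W') ((biprod.fst : 𝔉 ⊞ 𝔊 ⟶ 𝔉).val.app (op W') (smap (𝔉 ⊞ 𝔊) (m' ≫ m) x)) +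
    (biprod.inr : 𝔊 ⟶ 𝔉 ⊞ 𝔊).val.app (op W') ((biprod.snd : 𝔉 ⊞ 𝔊 ⟶ 𝔊).val.app (op W') (smap (𝔉 ⊞ 𝔊) (m' ≫ m) x)) = _
  rw [show (biprod.fst : 𝔉 ⊞ 𝔊 ⟶ 𝔉).val.app (op W') (smap (𝔉 ⊞ 𝔊) (m' ≫ m) x) = _ from
      (app_smap _ _ x).trans (smap_comp _ _ _),
    show (biprod.snd : 𝔉 ⊞ 𝔊 ⟶ 𝔊).val.app (op W') (smap (𝔉 ⊞ 𝔊) (m' ≫ m) x) = _ from
      (app_smap _ _ x).trans (smap_comp _ _ _), hc, hd, smap_sum_smul, app_sum, app_sum]
  simp only [Sum.elim_inl, Sum.elim_inr, app_smap, ← smap_comp, Category.assoc]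

/-- A finitely presented image. -/
theorem isFinitePresentation_image_of_qcoh {𝔉 M : FSch.ModF 𝔛 hN.1} (ψ : 𝔉 ⟶ M)
    [SheafOfModules.IsFiniteType (R := ModSite.ringSh (𝔛.Osh hN.1)) 𝔉] [SheafOfModules.IsQuasicoherent.{u} 𝔉]
    [SheafOfModules.IsQuasicoherent.{u} M] :
    SheafOfModules.IsFinitePresentation (R := ModSite.ringSh (𝔛.Osh hN.1)) (Abelian.image ψ) := by
  haveI := isQuasicoherent_cokernel' hN ψ
  haveI : SheafOfModules.IsQuasicoherent.{u} (Abelian.image ψ) := isQuasicoherent_kernel' hN (cokernel.π ψ)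
  haveI := isFiniteType_of_epi hN (Abelian.factorThruImage ψ)
  exact isFinitePresentation_of_qcoh hN

set_option maxHeartbeats 1600000 in
/-- A smallest coherent submodule through which finitely many maps factor. -/
theorem exists_coherent_sum (M : FSch.ModF 𝔛 hN.1) [SheafOfModules.IsQuasicoherent.{u} M] {A : Type u}
    (C : A → FSch.ModF 𝔛 hN.1) (f : ∀ a, C a ⟶ M)
    (hC : ∀ a, SheafOfModules.IsFinitePresentation (R := ModSite.ringSh (𝔛.Osh hN.1)) (C a)) (S : Finset A) :
    ∃ (K : FSch.ModF 𝔛 hN.1) (m : K ⟶ M), Mono m ∧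
      SheafOfModules.IsFinitePresentation (R := ModSite.ringSh (𝔛.Osh hN.1)) K ∧ (∀ a ∈ S, ∃ q, q ≫ m = f a) ∧
      ∀ (L : FSch.ModF 𝔛 hN.1) (l : L ⟶ M), Mono l → (∀ a ∈ S, ∃ q, q ≫ l = f a) → ∃ r, r ≫ l = m := by
  classical
  induction S using Finset.induction_on with
  | empty =>
    haveI := isFinitePresentation_unit (O := 𝔛.Osh hN.1)
    refine ⟨_, Abelian.image.ι (0 : FSch.unitF 𝔛 hN.1 ⟶ M), inferInstance,
      isFinitePresentation_image_of_qcoh hN _, fun a ha => absurd ha (Finset.notMem_empty a),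
      fun L l hl _ => exists_image_fac _ l ⟨0, zero_comp⟩⟩
  | @insert a S _ ih =>
    obtain ⟨K, m, hm, hK, hfac, hmin⟩ := ih
    haveI := hC a
    haveI := isQuasicoherent_biprod hN K (C a)
    haveI := isFiniteType_biprod hN K (C a)
    let ψ : K ⊞ C a ⟶ M := biprod.desc m (f a)
    refine ⟨_, Abelian.image.ι ψ, inferInstance, isFinitePresentation_image_of_qcoh hN ψ, fun b hb => ?_,
      fun L l hl h => ?_⟩
    · rcases Finset.mem_insert.1 hb with rfl | hb
      · exact ⟨biprod.inr ≫ Abelian.factorThruImage ψ, by rw [Category.assoc, Abelian.image.fac, biprod.inr_desc]⟩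
      · obtain ⟨q, hq⟩ := hfac b hb
        exact ⟨q ≫ biprod.inl ≫ Abelian.factorThruImage ψ, by
          rw [Category.assoc, Category.assoc, Abelian.image.fac, biprod.inl_desc, hq]⟩
    · obtain ⟨r, hr⟩ := hmin L l hl fun b hb => h b (Finset.mem_insert_of_mem hb)
      obtain ⟨q, hq⟩ := h a (Finset.mem_insert_self a S)
      exact exists_image_fac ψ l ⟨biprod.desc r q, by apply biprod.hom_ext' <;> simp [ψ, hr, hq]⟩

set_option maxHeartbeats 1600000 in
/-- A quasi-coherent module covered by images of coherent modules is a directed union of coherent submodules. -/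
theorem exists_mono_pres {M : FSch.ModF 𝔛 hN.1} [SheafOfModules.IsQuasicoherent.{u} M] {A : Type u}
    {C : A → FSch.ModF 𝔛 hN.1} {f : ∀ a, C a ⟶ M}
    (hC : ∀ a, SheafOfModules.IsFinitePresentation (R := ModSite.ringSh (𝔛.Osh hN.1)) (C a)) (hf : Covers C f) :
    ∃ (J : Type u) (_ : SmallCategory J) (_ : IsFiltered J) (pres : ColimitPresentation J M),
      (∀ j, SheafOfModules.IsFinitePresentation (R := ModSite.ringSh (𝔛.Osh hN.1)) (pres.diag.obj j)) ∧
        ∀ j, Mono (pres.ι.app j) := by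
  classical
  choose K m hm hK hfac hmin using exists_coherent_sum hN M C f hC
  haveI := hm
  choose r hr using fun (S T : Finset A) (h : S ⊆ T) => hmin S (K T) (m T) (hm T) fun a ha => hfac T a (h ha)
  let D : Finset A ⥤ FSch.ModF 𝔛 hN.1 :=
    { obj := K
      map := fun {S T} h => r S T h.le
      map_id := fun S => (cancel_mono (m S)).1 (by rw [hr, Category.id_comp])
      map_comp := fun {S T T'} h h' => (cancel_mono (m T')).1 (by rw [Category.assoc, hr, hr, hr]) }
  let c : Cocone D := Cocone.mk M { app := m, naturality := fun S T h => (hr S T h.le).trans (Category.comp_id _).symm }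
  obtain ⟨hc⟩ := nonempty_isColimit_of_mono D c hm fun U x y hy => by
    obtain ⟨V, hV, hyV, S, t, ht⟩ := hf U x y hy
    choose q hq using hfac S
    refine ⟨V, hV, hyV, S, ∑ a : S, (q a.1 a.2).val.app (op V) (t a.1), ?_⟩
    rw [map_sum, ht, ← Finset.sum_coe_sort S (fun a => (f a).val.app (op V) (t a))]
    exact Finset.sum_congr rfl fun a _ => congrArg (fun g : C a.1 ⟶ M => g.val.app (op V) (t a.1)) (hq a.1 a.2)
  exact ⟨Finset A, inferInstance, inferInstance, ⟨D, c.ι, hc⟩, hK, hm⟩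

/-- A quasi-coherent module covered by images of coherent modules is ind-coherent. -/
theorem ind_of_covers {M : FSch.ModF 𝔛 hN.1} [SheafOfModules.IsQuasicoherent.{u} M] {A : Type u}
    {C : A → FSch.ModF 𝔛 hN.1} {f : ∀ a, C a ⟶ M}
    (hC : ∀ a, SheafOfModules.IsFinitePresentation (R := ModSite.ringSh (𝔛.Osh hN.1)) (C a)) (hf : Covers C f) :
    IndC hN M := by
  obtain ⟨J, i₁, i₂, pres, h, -⟩ := exists_mono_pres hN hC hf
  exact ⟨J, i₁, i₂, pres, h⟩

/-- An ind-coherent module is covered by images of coherent modules and is good on affines. -/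
theorem exists_covers {M : FSch.ModF 𝔛 hN.1} (h : IndC hN M) :
    ∃ (A : Type u) (C : A → FSch.ModF 𝔛 hN.1) (f : ∀ a, C a ⟶ M),
      (∀ a, SheafOfModules.IsFinitePresentation (R := ModSite.ringSh (𝔛.Osh hN.1)) (C a)) ∧ Covers C f := by
  obtain ⟨J, _, _, pres, hpres⟩ := h
  refine ⟨J, pres.diag.obj, pres.ι.app, hpres, fun U x y hy => ?_⟩
  obtain ⟨j, V, hV, hyV, t, ht⟩ := exists_local_rep_filt pres.diag (Cocone.mk _ pres.ι) pres.isColimit x hy
  classical
  refine ⟨V, hV, hyV, {j}, fun a => if h : j = a then h ▸ t else 0, ?_⟩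
  rw [Finset.sum_singleton]
  dsimp only
  rw [dif_pos rfl]
  exact ht.symm

theorem isQuasicoherent_of_ind {M : FSch.ModF 𝔛 hN.1} (h : IndC hN M) : SheafOfModules.IsQuasicoherent.{u} M := by
  obtain ⟨J, _, _, pres, hpres⟩ := h
  exact isQuasicoherent_colim hN pres.diag (Cocone.mk _ pres.ι) pres.isColimit hpres

/-- Ind-coherent modules are good on every affine open. -/
theorem qdata_ind {M : FSch.ModF 𝔛 hN.1} (h : IndC hN M) {V : (𝔛.X 0).Opens} (hV : IsAffineOpen V) :
    Nonempty (QData hN M V) := by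
  obtain ⟨J, _, _, pres, hpres⟩ := h
  have Q : ∀ j, QData hN (pres.diag.obj j) V := fun j =>
    haveI : SheafOfModules.IsFinitePresentation (R := ModSite.ringSh (𝔛.Osh hN.1)) (pres.diag.obj j) := hpres j
    (qdata_coh hN (pres.diag.obj j) hV).some
  obtain ⟨P⟩ := nonempty_presentation_of_genF
    (genF_colim pres.diag (Cocone.mk _ pres.ι) pres.isColimit fun j => ⟨_, _, (Q j).gen⟩)
    (relF_colim pres.diag (Cocone.mk _ pres.ι) pres.isColimit fun j _ t => (Q j).rel t)
  exact ⟨QData.ofPres hN hV le_rfl P⟩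

/-- The image of a covering family under an epimorphism covers. -/
theorem Covers.comp {X : TopCat.{u}} {O : Sheaf (Opens.grothendieckTopology X) CommRingCat.{u}} {M N : ModSite.Mod O}
    {A : Type u} {C : A → ModSite.Mod O} {f : ∀ a, C a ⟶ M} (hf : Covers C f) (p : M ⟶ N) [Epi p] :
    Covers C fun a => f a ≫ p := fun U x y hy => by
  obtain ⟨T, hT, h⟩ := ExtSupp8.exists_local_preimage p x
  obtain ⟨W, l, hl, hyW⟩ := hT y hy
  obtain ⟨z, hz⟩ := h l hl
  obtain ⟨V, hV, hyV, S, t, ht⟩ := hf W z y hyW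
  refine ⟨V, hV.trans l.le, hyV, S, t, ?_⟩
  have h1 := congrArg (p.val.app (op V)) ht
  rw [map_sum, app_smap, show p.val.app (op W) z = smap N l x from hz, ← smap_comp] at h1
  exact (congrArg (fun q => smap N q x) (Subsingleton.elim _ (homOfLE hV ≫ l))).trans h1

theorem ind_cokernel {M N : FSch.ModF 𝔛 hN.1} (φ : M ⟶ N) (hM : IndC hN M) (hN' : IndC hN N) :
    IndC hN (cokernel φ) := by
  haveI := isQuasicoherent_of_ind hN hM
  haveI := isQuasicoherent_of_ind hN hN'
  haveI := isQuasicoherent_cokernel' hN φ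
  obtain ⟨A, C, f, hC, hf⟩ := exists_covers hN hN'
  exact ind_of_covers hN hC (hf.comp (cokernel.π φ))

theorem ind_coh {M : FSch.ModF 𝔛 hN.1} (h : SheafOfModules.IsFinitePresentation (R := ModSite.ringSh (𝔛.Osh hN.1)) M) :
    IndC hN M :=
  ObjectProperty.le_ind _ _ h

theorem ind_biprod {M N : FSch.ModF 𝔛 hN.1} (hM : IndC hN M) (hN' : IndC hN N) : IndC hN (M ⊞ N) := by
  classical
  haveI := isQuasicoherent_of_ind hN hM
  haveI := isQuasicoherent_of_ind hN hN'
  haveI := isQuasicoherent_biprod hN M N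
  obtain ⟨A, C, f, hC, hf⟩ := exists_covers hN hM
  obtain ⟨A', C', f', hC', hf'⟩ := exists_covers hN hN'
  refine ind_of_covers hN (C := Sum.elim C C')
    (f := fun a => Sum.casesOn a (fun a => f a ≫ biprod.inl) fun a => f' a ≫ biprod.inr)
    (fun a => by cases a with
      | inl a => exact hC a
      | inr a => exact hC' a) fun U x y hy => ?_
  obtain ⟨V, hV, hyV, S, t, ht⟩ := hf U ((biprod.fst : M ⊞ N ⟶ M).val.app (op U) x) y hy
  obtain ⟨V', hV', hyV', S', t', ht'⟩ := hf' V (smap N (homOfLE hV) ((biprod.snd : M ⊞ N ⟶ N).val.app (op U) x)) y hyV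
  refine ⟨V', hV'.trans hV, hyV', S.disjSum S', fun a => Sum.casesOn a (fun a => smap (C a) (homOfLE hV') (t a)) t', ?_⟩
  rw [Finset.sum_disjSum]
  have h1 := congrArg (fun q : M ⊞ N ⟶ M ⊞ N => q.val.app (op V') (smap (M ⊞ N) (homOfLE (hV'.trans hV)) x))
    (biprod.total (X := M) (Y := N)).symm
  refine h1.trans ?_
  show (biprod.inl : M ⟶ M ⊞ N).val.app (op V') ((biprod.fst : M ⊞ N ⟶ M).val.app (op V') (smap (M ⊞ N) (homOfLE (hV'.trans hV)) x)) +
    (biprod.inr : N ⟶ M ⊞ N).val.app (op V') ((biprod.snd : M ⊞ N ⟶ N).val.app (op V') (smap (M ⊞ N) (homOfLE (hV'.trans hV)) x)) = _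
  rw [show (homOfLE (hV'.trans hV)) = homOfLE hV' ≫ homOfLE hV from Subsingleton.elim _ _]
  rw [show (biprod.fst : M ⊞ N ⟶ M).val.app (op V') (smap (M ⊞ N) (homOfLE hV' ≫ homOfLE hV) x) = _ from
      (app_smap _ _ x).trans (smap_comp _ _ _),
    show (biprod.snd : M ⊞ N ⟶ N).val.app (op V') (smap (M ⊞ N) (homOfLE hV' ≫ homOfLE hV) x) = _ from
      (app_smap _ _ x).trans (smap_comp _ _ _), ht, ht',
    map_sum, map_sum, map_sum]
  congr 1
  refine Finset.sum_congr rfl fun a _ => ?_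
  rw [← app_smap (f a)]
  rfl

theorem ind_zero : IndC hN (Abelian.image (0 : FSch.unitF 𝔛 hN.1 ⟶ FSch.unitF 𝔛 hN.1)) := by
  haveI := isFinitePresentation_unit (O := 𝔛.Osh hN.1)
  exact ind_coh hN (isFinitePresentation_image_of_qcoh hN _)

/-- A filtered colimit of ind-coherent modules is ind-coherent. -/
theorem ind_filtered {I : Type u} [SmallCategory I] [IsFiltered I] (D : I ⥤ FSch.ModF 𝔛 hN.1) (c : Cocone D)
    (hc : IsColimit c) (hD : ∀ j, IndC hN (D.obj j)) : IndC hN c.pt := by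
  classical
  haveI : SheafOfModules.IsQuasicoherent.{u} c.pt := by
    refine isQuasicoherent_of_covd fun X => ⟨affSieve X, affSieve_mem X, fun U k hk => ?_⟩
    obtain ⟨V, hV, hle, -⟩ := hk
    have Q : ∀ j, QData hN (D.obj j) V := fun j => (qdata_ind hN (hD j) hV).some
    exact ⟨V, ⟨homOfLE hle⟩, nonempty_presentation_of_genF (genF_colim D c hc fun j => ⟨_, _, (Q j).gen⟩)
      (relF_colim D c hc fun j _ t => (Q j).rel t)⟩
  choose A C f hC hf using fun j => exists_covers hN (hD j)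
  refine ind_of_covers hN (C := fun p : Σ j, A j => C p.1 p.2) (f := fun p => f p.1 p.2 ≫ c.ι.app p.1)
    (fun p => hC p.1 p.2) fun U x y hy => ?_
  obtain ⟨j, V, hV, hyV, t, ht⟩ := exists_local_rep_filt D c hc x hy
  obtain ⟨V', hV', hyV', S, t', ht'⟩ := hf j V t y hyV
  refine ⟨V', hV'.trans hV, hyV', S.image (fun a => (⟨j, a⟩ : Σ j, A j)),
    fun p => if h : j = p.1 then (by subst h; exact t' p.2) else 0, ?_⟩
  rw [Finset.sum_image (fun a _ b _ h => eq_of_heq (Sigma.mk.inj_iff.1 h).2)]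
  have h1 := congrArg ((cmap D c j).val.app (op V')) ht'
  rw [app_smap, map_sum, show (cmap D c j).val.app (op V) t = smap c.pt (homOfLE hV) x from ht, ← smap_comp] at h1
  refine Eq.trans ?_ (h1.trans (Finset.sum_congr rfl fun a _ => ?_))
  · exact congrArg (fun q => smap c.pt q x) (Subsingleton.elim _ _)
  · dsimp only
    rw [dif_pos rfl]
    rfl

/-- A finite coproduct of ind-coherent modules is ind-coherent. -/
theorem ind_finite {σ : Type u} [Finite σ] (M : σ → FSch.ModF 𝔛 hN.1) (hM : ∀ a, IndC hN (M a)) : IndC hN (∐ M) := by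
  classical
  cases nonempty_fintype σ
  suffices key : ∀ S : Finset σ, IndC hN (∐ fun a : S => M a.1) by
    exact ObjectProperty.prop_of_iso _ (Sigma.whiskerEquiv (Equiv.subtypeUnivEquiv Finset.mem_univ) fun a => Iso.refl _)
      (key Finset.univ)
  intro S
  induction S using Finset.induction_on with
  | empty =>
    refine ObjectProperty.prop_of_iso _ ?_ (ind_zero hN)
    refine IsZero.iso ((Limits.IsZero.iff_id_eq_zero _).2 ?_) ((Limits.IsZero.iff_id_eq_zero _).2 ?_)
    · rw [← cancel_mono (Abelian.image.ι _), ← cancel_epi (Abelian.factorThruImage _), Category.id_comp, zero_comp, comp_zero,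
        Abelian.image.fac]
    · exact Sigma.hom_ext _ _ fun a => absurd a.2 (Finset.notMem_empty a.1)
  | @insert a S ha ih =>
    refine ObjectProperty.prop_of_iso _ ?_ (ind_biprod hN (hM a) ih)
    exact
      { hom := biprod.desc (Sigma.ι (fun b : ↥(insert a S) => M b.1) ⟨a, Finset.mem_insert_self a S⟩)
          (Sigma.desc fun b : S => Sigma.ι (fun b : ↥(insert a S) => M b.1) ⟨b.1, Finset.mem_insert_of_mem b.2⟩)
        inv := Sigma.desc fun b : ↥(insert a S) =>
          if h : b.1 = a then eqToHom (congrArg M h) ≫ biprod.inl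
          else Sigma.ι (fun b : S => M b.1) ⟨b.1, (Finset.mem_insert.1 b.2).resolve_left h⟩ ≫ biprod.inr
        hom_inv_id := by
          apply biprod.hom_ext'
          · simp
          · apply Sigma.hom_ext
            intro b
            have hb : b.1 ≠ a := fun h => ha (h ▸ b.2)
            simp [hb]
        inv_hom_id := by
          apply Sigma.hom_ext
          rintro ⟨b, hb⟩
          by_cases h : b = a
          · subst h
            simp
          · simp [h] }

/-- A coproduct of ind-coherent modules is ind-coherent. -/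
theorem ind_sigma {A : Type u} (M : A → FSch.ModF 𝔛 hN.1) (hM : ∀ a, IndC hN (M a)) : IndC hN (∐ M) := by
  classical
  refine ind_filtered hN (CoproductsFromFiniteFiltered.liftToFinsetObj (Discrete.functor M))
    (CoproductsFromFiniteFiltered.finiteSubcoproductsCocone M)
    (CoproductsFromFiniteFiltered.isColimitFiniteSubproductsCocone M) fun S => ?_
  exact ind_finite hN (fun x : S => M x.1.as) fun x => hM x.1.as

/-- Ind-coherent modules are closed under colimits. -/
theorem ind_colimit {I : Type u} [SmallCategory I] (D : I ⥤ FSch.ModF 𝔛 hN.1) (c : Cocone D)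
    (hc : IsColimit c) (hD : ∀ j, IndC hN (D.obj j)) : IndC hN c.pt := by
  classical
  let Arr : Type u := Σ i j : I, (i ⟶ j)
  let d : (∐ fun p : Arr => D.obj p.1) ⟶ ∐ D.obj :=
    Sigma.desc fun p => Sigma.ι D.obj p.1 - D.map p.2.2 ≫ Sigma.ι D.obj p.2.1
  have h := ind_cokernel hN d (ind_sigma hN _ fun p => hD p.1) (ind_sigma hN _ hD)
  have hcond : ∀ {i j : I} (g : i ⟶ j), D.map g ≫ Sigma.ι D.obj j ≫ cokernel.π d = Sigma.ι D.obj i ≫ cokernel.π d :=
    fun {i j} g => by
      have h1 := Sigma.ι (fun p : Arr => D.obj p.1) ⟨i, j, g⟩ ≫= cokernel.condition d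
      simp only [d, Sigma.ι_desc_assoc, Preadditive.sub_comp, Category.assoc, comp_zero, sub_eq_zero] at h1
      exact h1.symm
  let c' : Cocone D := Cocone.mk (cokernel d)
    { app := fun i => Sigma.ι D.obj i ≫ cokernel.π d
      naturality := fun i j g => (hcond g).trans (Category.comp_id _).symm }
  let e : cokernel d ≅ c.pt :=
    { hom := cokernel.desc d (Sigma.desc fun i => c.ι.app i) (Sigma.hom_ext _ _ fun p => by
        simp [d, Preadditive.sub_comp, c.w])
      inv := hc.desc c'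
      hom_inv_id := coequalizer.hom_ext (by
        rw [cokernel.π_desc_assoc]
        exact Sigma.hom_ext _ _ fun i => by rw [Sigma.ι_desc_assoc, hc.fac, Category.comp_id])
      inv_hom_id := hc.hom_ext fun i => by
        rw [hc.fac_assoc, Category.comp_id]
        show (Sigma.ι D.obj i ≫ cokernel.π d) ≫ _ = _
        rw [Category.assoc, cokernel.π_desc, Sigma.ι_desc] }
  exact ObjectProperty.prop_of_iso _ e h

end Groth.Agent.FormalModH7
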