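import Groth.Agent.Lib.FormalModH7.QExt
import Groth.Agent.Lib.FinPres16.HomSheafColim

/-!
# Internal homs out of coherent modules into quasi-coherent modules on formal schemes
-/

set_option autoImplicit false
set_option linter.style.haveILetI false
set_option linter.unusedSectionVars false
set_option backward.isDefEq.respectTransparency false
set_option backward.isDefEq.respectTransparency.types false
universe u

open CategoryTheory CategoryTheory.Limits AlgebraicGeometry Opposite TopologicalSpace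

namespace Groth.Agent.FormalModH7

open ModFlat16

section Multi

variable {C : Type u} [SmallCategory C] {J : GrothendieckTopology C} {O : Sheaf J CommRingCat.{u}}
  {N : ModSite.Mod O} {V : C}

open scoped Classical in
/-- Simultaneous relations between finitely many families. -/
theorem relF_multi (hN : ∀ ⦃τ : Type u⦄ (t : τ → ModSite.sect N V), RelF N V t) {τ ι : Type u} (t : τ → ι → ModSite.sect N V)
    (K : Finset ι) : ∀ ⦃W : C⦄ (k : W ⟶ V) (F : Finset τ) (c : τ → O.obj.obj (op W)),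
      (∀ r ∈ K, ∑ j ∈ F, c j • smap N k (t j r) = 0) →
      ∃ S ∈ J W, ∀ ⦃W' : C⦄ (l : W' ⟶ W), S l → ∃ (κ : Type u) (_ : Fintype κ) (G : Finset τ)
        (a : κ → τ → O.obj.obj (op V)) (e : κ → O.obj.obj (op W')), F ⊆ G ∧
          (∀ q, ∀ r ∈ K, ∑ j ∈ G, a q j • t j r = 0) ∧
          ∀ j ∈ G, (if j ∈ F then rmap O l (c j) else 0) = ∑ q, e q * rmap O (l ≫ k) (a q j) := by
  classical
  induction K using Finset.induction_on with
  | empty =>
    intro W k F c _
    refine ⟨⊤, J.top_mem W, fun W' l _ => ⟨F, inferInstance, F, fun q j => if q.1 = j then 1 else 0,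
      fun q => rmap O l (c q.1), subset_rfl, fun q r hr => absurd hr (Finset.notMem_empty r), fun j hj => ?_⟩⟩
    rw [if_pos hj, Finset.sum_eq_single (⟨j, hj⟩ : F) (fun q _ hq => by
      dsimp only
      rw [if_neg fun h => hq (Subtype.ext h), map_zero, mul_zero]) (fun h => absurd (Finset.mem_univ _) h)]
    dsimp only
    rw [if_pos rfl, map_one, mul_one]
  | @insert r₀ K hr₀ ih =>
    intro W k F c hc
    obtain ⟨S, hS, h⟩ := ih k F c fun r hr => hc r (Finset.mem_insert_of_mem hr)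
    refine bind_cover S hS fun W₁ l₁ hl₁ => ?_
    obtain ⟨κ, hκ, G, a, e, hFG, ha, he⟩ := h l₁ hl₁
    have h1 : ∑ q ∈ Finset.univ, e q • smap N (l₁ ≫ k) (∑ j ∈ G, a q j • t j r₀) = 0 := by
      simp only [smap_sum_smul, Finset.smul_sum, ← mul_smul]
      rw [Finset.sum_comm]
      simp only [← Finset.sum_smul]
      refine (Finset.sum_congr rfl fun j hj => congrArg (· • smap N (l₁ ≫ k) (t j r₀)) (he j hj).symm).trans ?_
      refine ((Finset.sum_subset hFG fun j _ hj => by rw [if_neg hj, zero_smul]).symm).trans ?_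
      refine Eq.trans ?_ ((congrArg (smap N l₁) (hc r₀ (Finset.mem_insert_self r₀ K))).trans (map_zero _))
      rw [smap_sum_smul]
      exact Finset.sum_congr rfl fun j hj => by rw [if_pos hj, ← smap_comp]
    obtain ⟨T, hT, h'⟩ := hN (fun q => ∑ j ∈ G, a q j • t j r₀) (l₁ ≫ k) Finset.univ e h1
    refine ⟨T, hT, fun W₂ l₂ hl₂ => ?_⟩
    obtain ⟨κ₂, hκ₂, G₂, b, f, hG₂, hb, hf⟩ := h' l₂ hl₂
    obtain rfl : G₂ = Finset.univ := Finset.univ_subset_iff.1 hG₂
    refine ⟨κ₂, hκ₂, G, fun p j => ∑ q, b p q * a q j, f, hFG, fun p r hr => ?_, fun j hj => ?_⟩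
    · simp only [Finset.sum_smul]
      rw [Finset.sum_comm]
      simp only [mul_smul, ← Finset.smul_sum]
      rcases Finset.mem_insert.1 hr with rfl | hr
      · exact hb p
      · exact Finset.sum_eq_zero fun q _ => by rw [ha q r hr, smul_zero]
    · have h3 := congrArg (rmap O l₂) (he j hj)
      have h4 : (if j ∈ F then rmap O (l₂ ≫ l₁) (c j) else 0) = rmap O l₂ (if j ∈ F then rmap O l₁ (c j) else 0) := by
        split_ifs <;> simp only [rmap_comp, map_zero]
      rw [h4, h3, map_sum]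
      simp only [map_mul, map_sum, Finset.mul_sum]
      rw [Finset.sum_comm]
      refine Finset.sum_congr rfl fun q _ => ?_
      have h5 := hf q (Finset.mem_univ q)
      rw [if_pos (Finset.mem_univ q)] at h5
      rw [h5, Finset.sum_mul]
      refine Finset.sum_congr rfl fun p _ => ?_
      rw [← rmap_comp, Category.assoc]
      ring

end Multi

section Hom

open FinPres16

variable {C : Type u} [SmallCategory C] {J : GrothendieckTopology C} {O : Sheaf J CommRingCat.{u}}
  {M N : ModSite.Mod O} [ModSite.HasSheafHom M] {V : C}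

theorem hval_sum_left {σ : Type*} (F : Finset σ) (c : σ → O.obj.obj (op V))
    (z : σ → ModSite.sect ((ModSite.sheafHom M).obj N) V) (s : ModSite.sect M V) :
    hval (∑ j ∈ F, c j • z j) s = ∑ j ∈ F, c j • hval (z j) s := by
  classical
  induction F using Finset.induction_on with
  | empty => simpa using hval_zero_left s
  | @insert i F hi ih => rw [Finset.sum_insert hi, Finset.sum_insert hi, hval_add_left, hval_smul_left, ih]

/-- Sections of the internal hom are determined by their values at generators. -/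
theorem hval_inj {W : C} (k : W ⟶ V) {ι : Type u} [Fintype ι] {s : ι → ModSite.sect M V} (hs : Gens M V s)
    (z z' : ModSite.sect ((ModSite.sheafHom M).obj N) W)
    (h : ∀ i, hval z (smap M k (s i)) = hval z' (smap M k (s i))) : z = z' :=
  hval_ext _ _ fun u x => hval_eq_of_gens (gens_smap k hs) z z' h u x

/-- Sections of the internal hom with given values at generators. -/
theorem exists_hval_of {ι κ : Type u} [Fintype ι] [Fintype κ] {s : ι → ModSite.sect M V} {R : κ → ι → O.obj.obj (op V)}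
    (hs : Gens M V s) (hR : Rels M V s R) (t : ι → ModSite.sect N V) (ht : ∀ r, ∑ i, R r i • t i = 0) :
    ∃ z : ModSite.sect ((ModSite.sheafHom M).obj N) V, ∀ i, hval z (s i) = t i := by
  obtain ⟨ψ, hψ⟩ := exists_hom_of_pres hs hR t ht
  obtain ⟨z, hz⟩ := exists_hval ψ
  refine ⟨z, fun i => ?_⟩
  have h := hz (𝟙 V) (s i)
  have h' := hψ i (𝟙 V)
  rw [smap_id] at h h'
  rw [h, h', smap_id]

set_option maxHeartbeats 1000000 in
/-- The internal hom is generated by its sections. -/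
theorem genF_hom {ι κ : Type u} [Fintype ι] [Fintype κ] {s : ι → ModSite.sect M V} {R : κ → ι → O.obj.obj (op V)}
    (hs : Gens M V s) (hR : Rels M V s R) {σ : Type u} {g : σ → ModSite.sect N V} (hg : GenF N V g)
    (hN : ∀ ⦃τ : Type u⦄ (t : τ → ModSite.sect N V), RelF N V t) :
    GenF ((ModSite.sheafHom M).obj N) V (fun w : ModSite.sect ((ModSite.sheafHom M).obj N) V => w) := fun W k x => by
  classical
  let H := (ModSite.sheafHom M).obj N
  obtain ⟨S, hS, h⟩ := ModFlat16.cov_iInter' (J := J) (U := W) (Q := fun i W₁ (l : W₁ ⟶ W) =>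
      ∃ (F : Finset σ) (c : σ → O.obj.obj (op W₁)),
        smap N l (hval x (smap M k (s i))) = ∑ j ∈ F, c j • smap N (l ≫ k) (g j)) fun i => hg k (hval x (smap M k (s i)))
  refine bind_cover S hS fun W₁ l₁ hl₁ => ?_
  choose F c hc using fun i => h i l₁ hl₁
  let F' : Finset (ι × σ) := Finset.univ ×ˢ Finset.univ.biUnion F
  let c' : ι × σ → O.obj.obj (op W₁) := fun p => if p.2 ∈ F p.1 then c p.1 p.2 else 0
  have hsum : ∀ i, smap N l₁ (hval x (smap M k (s i))) =
      ∑ j ∈ Finset.univ.biUnion F, c' (i, j) • smap N (l₁ ≫ k) (g j) := fun i => by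
    rw [hc i]
    refine Eq.trans ?_ (Finset.sum_subset (fun j hj => Finset.mem_biUnion.2 ⟨i, Finset.mem_univ i, hj⟩)
      fun j _ hj => by simp only [c', if_neg hj, zero_smul])
    exact Finset.sum_congr rfl fun j hj => by simp only [c', if_pos hj]
  have hrel : ∀ r ∈ (Finset.univ : Finset κ), ∑ p ∈ F', c' p • smap N (l₁ ≫ k) (R r p.1 • g p.2) = 0 := fun r _ => by
    have h1 : ∑ i, rmap O (l₁ ≫ k) (R r i) • smap N l₁ (hval x (smap M k (s i))) = 0 := by
      have h2 := congrArg (fun y => smap N l₁ (hval x (smap M k y))) (hR.1 r)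
      simp only [map_zero] at h2
      have h3 : smap M k (∑ i, R r i • s i) = ∑ i, rmap O k (R r i) • smap M k (s i) :=
        (map_sum (smap M k) _ _).trans (Finset.sum_congr rfl fun i _ => smap_smul _ _ _)
      rw [h3, hval_comb, smap_sum_smul] at h2
      refine Eq.trans (Finset.sum_congr rfl fun i _ => by rw [rmap_comp]) (h2.trans ?_)
      have h4 := hval_add x (0 : ModSite.sect M W) 0
      rw [add_zero, left_eq_add] at h4
      rw [h4, map_zero]
    rw [Finset.sum_product]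
    refine Eq.trans (Finset.sum_congr rfl fun i _ => ?_) h1
    rw [hsum, Finset.smul_sum]
    refine Finset.sum_congr rfl fun j _ => ?_
    rw [smap_smul, ← mul_smul, ← mul_smul, mul_comm]
  obtain ⟨T, hT, h'⟩ := relF_multi hN (fun (p : ι × σ) r => R r p.1 • g p.2) Finset.univ (l₁ ≫ k) F' c' hrel
  refine ⟨T, hT, fun W₂ l₂ hl₂ => ?_⟩
  obtain ⟨κ', hκ', G, a, e, hFG, ha, he⟩ := h' l₂ hl₂
  choose w hw using fun q => exists_hval_of (N := N) hs hR (fun i => ∑ p ∈ G.filter (fun p => p.1 = i), a q p • g p.2)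
    fun r => by
      simp only [Finset.smul_sum]
      refine Eq.trans ?_ (ha q r (Finset.mem_univ r))
      rw [← Finset.sum_fiberwise_of_maps_to (g := Prod.fst) (t := Finset.univ) (fun p _ => Finset.mem_univ _)]
      refine Finset.sum_congr rfl fun i _ => Finset.sum_congr rfl fun p hp => ?_
      rw [(Finset.mem_filter.1 hp).2, ← mul_smul, ← mul_smul, mul_comm]
  obtain ⟨F₂, c₂, h₂⟩ := exists_sum_image e w fun v => smap H ((l₂ ≫ l₁) ≫ k) v
  refine ⟨F₂, c₂, Eq.trans ?_ h₂⟩
  refine hval_inj ((l₂ ≫ l₁) ≫ k) hs _ _ fun i => ?_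
  rw [hval_sum_left]
  have e1 : hval (smap H (l₂ ≫ l₁) x) (smap M ((l₂ ≫ l₁) ≫ k) (s i)) =
      smap N l₂ (smap N l₁ (hval x (smap M k (s i)))) := by
    rw [← smap_comp (F := N) l₁ l₂, ← hval_smap, ← smap_comp]
  rw [e1, hsum, smap_sum_smul]
  have e2 : ∀ q, hval (smap H ((l₂ ≫ l₁) ≫ k) (w q)) (smap M ((l₂ ≫ l₁) ≫ k) (s i)) =
      ∑ p ∈ G.filter (fun p => p.1 = i), rmap O (l₂ ≫ l₁ ≫ k) (a q p) • smap N (l₂ ≫ l₁ ≫ k) (g p.2) := fun q => by
    rw [hval_smap, hw, smap_sum_smul, Category.assoc]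
  simp only [e2, Finset.smul_sum, ← mul_smul]
  rw [Finset.sum_comm]
  simp only [← Finset.sum_smul]
  refine Eq.trans ?_ (Finset.sum_congr rfl fun p hp => congrArg (· • smap N (l₂ ≫ l₁ ≫ k) (g p.2))
    (he p (Finset.mem_filter.1 hp).1))
  rw [Finset.filter_congr_decidable]
  have e3 : (G.filter (fun p => p.1 = i)).filter (· ∈ F') = (Finset.univ.biUnion F).image fun j => (i, j) := by
    ext ⟨i', j⟩
    simp only [F', Finset.mem_filter, Finset.mem_product, Finset.mem_univ, true_and, Finset.mem_image, Prod.mk.injEq]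
    constructor
    · rintro ⟨⟨-, rfl⟩, hj⟩
      exact ⟨j, hj, rfl, rfl⟩
    · rintro ⟨j', hj', rfl, rfl⟩
      exact ⟨⟨hFG (Finset.mem_product.2 ⟨Finset.mem_univ i, hj'⟩), rfl⟩, hj'⟩
  simp only [ite_smul, zero_smul]
  rw [← Finset.sum_filter, e3, Finset.sum_image (fun a _ b _ h => (Prod.mk.inj h).2)]
  exact Finset.sum_congr rfl fun j _ => by rw [← smap_comp]

/-- The relations between sections of the internal hom. -/
theorem relF_hom {ι : Type u} [Fintype ι] {s : ι → ModSite.sect M V} (hs : Gens M V s)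
    (hN : ∀ ⦃τ : Type u⦄ (t : τ → ModSite.sect N V), RelF N V t) :
    RelF ((ModSite.sheafHom M).obj N) V (fun w : ModSite.sect ((ModSite.sheafHom M).obj N) V => w) :=
  fun W k F c hc => by
  classical
  obtain ⟨T, hT, h'⟩ := relF_multi hN (fun (w : ModSite.sect ((ModSite.sheafHom M).obj N) V) i => hval w (s i))
    Finset.univ k F c fun i _ => by
      have h1 := congrArg (fun z => hval z (smap M k (s i))) hc
      simp only [hval_sum_left, hval_zero_left, hval_smap] at h1
      exact h1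
  refine ⟨T, hT, fun W₁ l₁ hl₁ => ?_⟩
  obtain ⟨κ, hκ, G, a, e, hFG, ha, he⟩ := h' l₁ hl₁
  refine ⟨κ, hκ, G, a, e, hFG, fun q => hval_inj (𝟙 V) hs _ _ fun i => ?_, he⟩
  rw [smap_id, hval_sum_left, hval_zero_left]
  exact ha q i (Finset.mem_univ i)

end Hom

variable {𝔛 : FSch.Sys.{u}} (hN : 𝔛.IsLocNoethFormal) (𝔉 𝔊 : FSch.ModF 𝔛 hN.1)
  [SheafOfModules.IsFinitePresentation (R := ModSite.ringSh (𝔛.Osh hN.1)) 𝔉] [ModSite.HasSheafHom 𝔉]

/-- A cover by affine opens on which both modules are good. -/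
theorem covd_hom [hG : SheafOfModules.IsQuasicoherent.{u} 𝔊] (Q : (𝔛.X 0).Opens → Prop)
    (h : ∀ V : (𝔛.X 0).Opens, IsAffineOpen V → HasPres 𝔉 V → QData hN 𝔊 V → Q V) :
    Covd (Opens.grothendieckTopology (𝔛.X 0)) fun U => ∃ V, U ≤ V ∧ Q V := by
  intro X
  obtain ⟨q⟩ := hG.nonempty_quasicoherentData
  obtain ⟨S, hS, hS'⟩ := covd_hasPres (M := 𝔉) X
  refine ⟨{ arrows := fun U _ => ∃ V, U ≤ V ∧ Q V
            downward_closed := by
              rintro W₁ W₂ f ⟨V, h1, h2⟩ g
              exact ⟨V, g.le.trans h1, h2⟩ }, fun x hx => ?_, fun U k hk => hk⟩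
  obtain ⟨Y, g, hg, hxY⟩ := hS x hx
  obtain ⟨Z, g', ⟨i', ⟨gi'⟩⟩, hxZ⟩ := q.coversTop Y x hxY
  obtain ⟨V, hV, hxV, hle⟩ := exists_isAffineOpen_mem_and_subset (U := Z) hxZ
  exact ⟨V, homOfLE (hle.trans (g'.le.trans g.le)), ⟨V, le_rfl, h V hV
    (HasPres.res (homOfLE (hle.trans g'.le)) (hS' g hg)) (QData.ofPres hN hV (hle.trans gi'.le) (q.presentation i'))⟩, hxV⟩

/-- The internal hom out of a coherent module into a quasi-coherent one is quasi-coherent. -/
theorem isQuasicoherent_hom [SheafOfModules.IsQuasicoherent.{u} 𝔊] :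
    SheafOfModules.IsQuasicoherent.{u} ((ModSite.sheafHom 𝔉).obj 𝔊) := by
  refine isQuasicoherent_of_covd fun X => ?_
  obtain ⟨S, hS, h'⟩ := covd_hom hN 𝔉 𝔊
    (fun V => Nonempty (SheafOfModules.Presentation ((ModSite.restr (𝔛.Osh hN.1) V).obj ((ModSite.sheafHom 𝔉).obj 𝔊))))
    (fun V _ ⟨ι, κ, _, _, s, R, hs, hR⟩ D =>
      nonempty_presentation_of_genF (genF_hom hs hR D.gen D.rel) (relF_hom hs D.rel)) X
  refine ⟨S, hS, fun U k hk => ?_⟩
  obtain ⟨V, hUV, hP⟩ := h' k hk
  exact ⟨V, ⟨homOfLE hUV⟩, hP⟩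

/-- The internal hom between coherent modules is finitely generated on affine opens. -/
theorem hasGens_hom [SheafOfModules.IsFinitePresentation (R := ModSite.ringSh (𝔛.Osh hN.1)) 𝔊]
    {V : (𝔛.X 0).Opens} (hV : IsAffineOpen V) {ι κ : Type u} [Fintype ι] [Fintype κ] {s : ι → FSec hN 𝔉 V}
    {R : κ → ι → AV 𝔛 hN.1 V} (hs : Gens 𝔉 V s) (hR : Rels 𝔉 V s R) (D : QData hN 𝔊 V) :
    HasGens ((ModSite.sheafHom 𝔉).obj 𝔊) V := by
  classical
  haveI := (structure_AV hN hV).1
  haveI := finite_FSec hN 𝔊 hV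
  let Φ : FSec hN ((ModSite.sheafHom 𝔉).obj 𝔊) V →ₗ[AV 𝔛 hN.1 V] (ι → FSec hN 𝔊 V) :=
    { toFun := fun z i => FinPres16.hval z (s i)
      map_add' := fun z z' => funext fun i => FinPres16.hval_add_left z z' (s i)
      map_smul' := fun r z => funext fun i => FinPres16.hval_smul_left z r (s i) }
  have hΦ : Function.Injective Φ := fun z z' h => hval_inj (𝟙 V) hs z z' fun i => by
    rw [smap_id]; exact congrFun h i
  haveI : Module.Finite (AV 𝔛 hN.1 V) (FSec hN ((ModSite.sheafHom 𝔉).obj 𝔊) V) := Module.Finite.of_injective Φ hΦ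
  obtain ⟨T, hT⟩ := (Module.Finite.fg_top (R := AV 𝔛 hN.1 V) (M := FSec hN ((ModSite.sheafHom 𝔉).obj 𝔊) V))
  refine ⟨T, inferInstance, fun x => x.1, gens_mk _ fun {W} k x => ?_⟩
  obtain ⟨S, hS, h⟩ := genF_hom hs hR D.gen D.rel k x
  refine ⟨S, hS, fun W' l hl => ?_⟩
  obtain ⟨F, c, hc⟩ := h l hl
  have hmem : ∀ w : FSec hN ((ModSite.sheafHom 𝔉).obj 𝔊) V, ∃ b : T → AV 𝔛 hN.1 V, ∑ i, b i • i.1 = w := fun w =>
    (Submodule.mem_span_range_iff_exists_fun (AV 𝔛 hN.1 V)).1 (by rw [Subtype.range_coe_subtype]; exact hT ▸ Submodule.mem_top)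
  choose b hb using hmem
  refine ⟨fun i => ∑ w ∈ F, c w * rmap (𝔛.Osh hN.1) (l ≫ k) (b w i), hc.trans ?_⟩
  simp only [Finset.sum_smul]
  rw [Finset.sum_comm]
  refine Finset.sum_congr rfl fun w _ => ?_
  simp only [mul_smul, ← Finset.smul_sum]
  refine congrArg (c w • ·) ?_
  conv_lhs => rw [← hb w]
  exact smap_sum_smul _ Finset.univ _ _

/-- The internal hom between coherent modules is coherent. -/
theorem isFinitePresentation_hom [SheafOfModules.IsQuasicoherent.{u} 𝔊]
    [SheafOfModules.IsFinitePresentation (R := ModSite.ringSh (𝔛.Osh hN.1)) 𝔊] :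
    SheafOfModules.IsFinitePresentation (R := ModSite.ringSh (𝔛.Osh hN.1)) ((ModSite.sheafHom 𝔉).obj 𝔊) := by
  haveI := isQuasicoherent_hom hN 𝔉 𝔊
  haveI : SheafOfModules.IsFiniteType (R := ModSite.ringSh (𝔛.Osh hN.1)) ((ModSite.sheafHom 𝔉).obj 𝔊) := by
    refine isFiniteType_of_covd fun X => ?_
    obtain ⟨S, hS, h'⟩ := covd_hom hN 𝔉 𝔊 (fun V => HasGens ((ModSite.sheafHom 𝔉).obj 𝔊) V)
      (fun V hV ⟨ι, κ, _, _, s, R, hs, hR⟩ D => hasGens_hom hN 𝔉 𝔊 hV hs hR D) X
    refine ⟨S, hS, fun U k hk => ?_⟩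
    obtain ⟨V, hUV, hP⟩ := h' k hk
    exact HasGens.res (homOfLE hUV) hP
  exact isFinitePresentation_of_qcoh hN

end Groth.Agent.FormalModH7
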