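import Groth.Agent.Lib.FormalModH7.IndCoh
import Groth.Agent.Lib.FormalModH7.QHom
import Groth.Agent.Lib.KFlat.Site
import Groth.Agent.Lib.CohFound.ModulesInst
import Mathlib.CategoryTheory.Adjunction.AdjointFunctorTheorems
import Mathlib.CategoryTheory.Abelian.GrothendieckCategory.Subobject
import Mathlib.CategoryTheory.Abelian.Subobject

/-!
# Extensions of ind-coherent modules on Noetherian formal schemes
-/

set_option autoImplicit false
set_option linter.style.haveILetI false
set_option linter.unusedSectionVars false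
set_option backward.isDefEq.respectTransparency false
set_option backward.isDefEq.respectTransparency.types false
universe u

open CategoryTheory CategoryTheory.Limits AlgebraicGeometry Opposite TopologicalSpace

namespace Groth.Agent.FormalModH7

open ModFlat16 FinPres16

section General

variable {X : TopCat.{u}} {O : Sheaf (Opens.grothendieckTopology X) CommRingCat.{u}}

/-- The internal Hom exists. -/
theorem hasSheafHom {C : Type u} [SmallCategory C] {J : GrothendieckTopology C} {O : Sheaf J CommRingCat.{u}}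
    (M : ModSite.Mod O) : ModSite.HasSheafHom M := by
  haveI : PreservesColimitsOfSize.{u, u} ((ModSite.tensorBi O).flip.obj M) :=
    ⟨KFlat.Site.preservesColimitsOfShape_flip_obj (O := O) M⟩
  haveI : IsGrothendieckAbelian.{u} (ModSite.Mod O) :=
    CohFound.isGrothendieckAbelian_sheafOfModules (ModSite.ringSh O)
  haveI : WellPowered.{u} (ModSite.Mod O) := wellPowered_of_isDetector _ (isSeparator_separator (ModSite.Mod O)).isDetector
  haveI : WellPowered.{u} (ModSite.Mod O)ᵒᵖ := Abelian.wellPowered_opposite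
  exact isLeftAdjoint_of_preservesColimits_of_isSeparating (isSeparator_separator (ModSite.Mod O)) _

theorem hval_sum {M N : ModSite.Mod O} [ModSite.HasSheafHom M] {V : Opens X} {σ : Type*} (F : Finset σ)
    (c : σ → O.obj.obj (op V)) (z : ModSite.sect ((ModSite.sheafHom M).obj N) V) (s : σ → ModSite.sect M V) :
    hval z (∑ j ∈ F, c j • s j) = ∑ j ∈ F, c j • hval z (s j) := by
  let g : ModSite.sect M V →+ ModSite.sect N V := AddMonoidHom.mk' (hval z) (hval_add z)
  show g _ = _
  rw [map_sum]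
  exact Finset.sum_congr rfl fun j _ => hval_smul z (c j) (s j)

theorem mem_fin_inf {ι : Type*} (t : Finset ι) (W : ι → Opens X) {x : X} (h : ∀ k ∈ t, x ∈ W k) : x ∈ t.inf W := by
  classical
  induction t using Finset.induction_on with
  | empty => exact trivial
  | @insert a t _ ih =>
    rw [Finset.inf_insert]
    exact ⟨h a (Finset.mem_insert_self a t), ih fun k hk => h k (Finset.mem_insert_of_mem hk)⟩

/-- A global section of the internal Hom is a morphism. -/
theorem exists_hom_of_global {M N : ModSite.Mod O} [ModSite.HasSheafHom M]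
    (z : ModSite.sect ((ModSite.sheafHom M).obj N) (⊤ : Opens X)) :
    ∃ σ : M ⟶ N, ∀ (W : Opens X) (x : ModSite.sect M W),
      σ.val.app (op W) x = hval (smap ((ModSite.sheafHom M).obj N) (homOfLE le_top) z) x := by
  let app : ∀ W : Opens X, ModSite.sect M W →+ ModSite.sect N W := fun W =>
    AddMonoidHom.mk' (fun x => hval (smap ((ModSite.sheafHom M).obj N) (homOfLE le_top) z) x) fun a b => hval_add _ a b
  let φ : M.val.presheaf ⟶ N.val.presheaf :=
    { app := fun W => AddCommGrpCat.ofHom (app W.unop)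
      naturality := fun W W' f => by
        apply ConcreteCategory.hom_ext
        intro x
        show hval (smap ((ModSite.sheafHom M).obj N) (homOfLE le_top) z) (smap M f.unop x) =
          smap N f.unop (hval (smap ((ModSite.sheafHom M).obj N) (homOfLE le_top) z) x)
        rw [← hval_smap, ← smap_comp]
        exact congrArg (fun l => hval (smap ((ModSite.sheafHom M).obj N) l z) (smap M f.unop x)) (Subsingleton.elim _ _) }
  exact ⟨⟨PresheafOfModules.homMk φ fun W r x => hval_smul _ r x⟩, fun W x => rfl⟩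

/-- Two morphisms agreeing locally agree. -/
theorem hom_ext_local {M N : ModSite.Mod O} {f g : M ⟶ N}
    (h : ∀ (U : Opens X) (x : ModSite.sect M U), ∀ y ∈ U, ∃ (V : Opens X) (hV : V ≤ U), y ∈ V ∧
      f.val.app (op V) (smap M (homOfLE hV) x) = g.val.app (op V) (smap M (homOfLE hV) x)) : f = g := by
  apply SheafOfModules.Hom.ext
  refine PresheafOfModules.hom_ext fun U => ModuleCat.hom_ext (LinearMap.ext fun x => ?_)
  refine sect_ext N { arrows := fun W l => f.val.app (op W) (smap M l x) = g.val.app (op W) (smap M l x)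
                      downward_closed := by
                        intro W₁ W₂ l hl q
                        have h1 := congrArg (smap N q) hl
                        rwa [← app_smap, ← app_smap, ← smap_comp] at h1 } (fun y hy => ?_) fun W l hl => ?_
  · obtain ⟨V, hV, hyV, e⟩ := h U.unop x y hy
    exact ⟨V, homOfLE hV, e, hyV⟩
  · exact ((app_smap f l x).symm.trans hl).trans (app_smap g l x)

variable {I : Type u} [SmallCategory I] [IsFiltered I] (D : I ⥤ ModSite.Mod O) (c : Cocone D) (hc : IsColimit c)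
  {E B : ModSite.Mod O} (i : c.pt ⟶ E) (p : E ⟶ B)
  (hexact : ∀ (U : Opens X) (y : ModSite.sect E U), p.val.app (op U) y = 0 → ∃ w, i.val.app (op U) w = y)

/-- The quotient by a stage. -/
noncomputable abbrev qSt (j : I) : ModSite.Mod O := cokernel (cmap D c j ≫ i)

/-- The projection to the quotient by a stage. -/
noncomputable abbrev qPi (j : I) : E ⟶ qSt D c i j := cokernel.π (cmap D c j ≫ i)

theorem qPi_stage {j : I} {U : Opens X} (t : ModSite.sect (D.obj j) U) :
    (qPi D c i j).val.app (op U) (i.val.app (op U) ((cmap D c j).val.app (op U) t)) = 0 :=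
  congrArg (fun q : D.obj j ⟶ qSt D c i j => q.val.app (op U) t)
    ((Category.assoc _ _ _).symm.trans (cokernel.condition (cmap D c j ≫ i)))

/-- The transition between quotients. -/
noncomputable def qTr {j l : I} (g : j ⟶ l) : qSt D c i j ⟶ qSt D c i l :=
  cokernel.desc _ (qPi D c i l) (by
    show (cmap D c j ≫ i) ≫ qPi D c i l = 0
    rw [show cmap D c j = D.map g ≫ cmap D c l from (c.w g).symm, Category.assoc, Category.assoc]
    refine (congrArg (D.map g ≫ ·) ((Category.assoc _ _ _).symm.trans (cokernel.condition (cmap D c l ≫ i)))).trans ?_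
    exact comp_zero)

theorem qTr_pi {j l : I} (g : j ⟶ l) {U : Opens X} (y : ModSite.sect E U) :
    (qTr D c i g).val.app (op U) ((qPi D c i j).val.app (op U) y) = (qPi D c i l).val.app (op U) y :=
  congrArg (fun q : E ⟶ qSt D c i l => q.val.app (op U) y) (cokernel.π_desc _ _ _)

include hc hexact in
/-- Sections killed by the projection are killed in the quotient by a later stage. -/
theorem exists_kill {Q : Type*} (s : Finset Q) (W : Q → Opens X) (hW : ∀ q, IsCompact (W q : Set X))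
    (b : ∀ q, ModSite.sect E (W q)) (hb : ∀ q, p.val.app (op (W q)) (b q) = 0) :
    ∃ l : I, ∀ q ∈ s, ∀ l', (l ⟶ l') → (qPi D c i l').val.app (op (W q)) (b q) = 0 := by
  classical
  have key : ∀ q, ∃ l : I, ∀ l', (l ⟶ l') → (qPi D c i l').val.app (op (W q)) (b q) = 0 := fun q => by
    obtain ⟨w, hw⟩ := hexact _ (b q) (hb q)
    choose j V hV hyV t ht using fun y : (W q : Set X) => exists_local_rep_filt D c hc w y.2
    obtain ⟨T, hT⟩ := (hW q).elim_finite_subcover (fun y => (V y : Set X)) (fun y => (V y).2)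
      fun y hy => Set.mem_iUnion.2 ⟨⟨y, hy⟩, hyV _⟩
    obtain ⟨l, hl⟩ := IsFiltered.sup_objs_exists (T.image j)
    refine ⟨l, fun l' g => ?_⟩
    refine sect_ext _ { arrows := fun V' m => smap (qSt D c i l') m ((qPi D c i l').val.app (op (W q)) (b q)) = 0
                        downward_closed := by
                          intro V₁ V₂ m hm r
                          rw [smap_comp, hm, map_zero] } (fun y hy => ?_) fun V' m hm => hm.trans (map_zero _).symm
    obtain ⟨y', hyT, hy'⟩ := Set.mem_iUnion₂.1 (hT hy)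
    refine ⟨V y', homOfLE (hV y'), ?_, hy'⟩
    show smap (qSt D c i l') _ _ = 0
    rw [← app_smap, ← hw, ← app_smap, show smap c.pt (homOfLE (hV y')) w = (cmap D c (j y')).val.app _ (t y') from (ht y').symm]
    rw [show cmap D c (j y') = D.map ((hl (Finset.mem_image_of_mem j hyT)).some ≫ g) ≫ cmap D c l' from (c.w _).symm]
    exact qPi_stage D c i ((D.map ((hl (Finset.mem_image_of_mem j hyT)).some ≫ g)).val.app (op (V y')) (t y'))
  choose L hL using key
  obtain ⟨l, hl⟩ := IsFiltered.sup_objs_exists (s.image L)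
  exact ⟨l, fun q hq l' g => hL q l' ((hl (Finset.mem_image_of_mem L hq)).some ≫ g)⟩

/-- The map of a quotient to the base. -/
noncomputable def qBar (h0 : i ≫ p = 0) (j : I) : qSt D c i j ⟶ B :=
  cokernel.desc _ p (by rw [Category.assoc, h0, comp_zero])

theorem qBar_pi (h0 : i ≫ p = 0) (j : I) {U : Opens X} (y : ModSite.sect E U) :
    (qBar D c i p h0 j).val.app (op U) ((qPi D c i j).val.app (op U) y) = p.val.app (op U) y :=
  congrArg (fun q : E ⟶ B => q.val.app (op U) y) (cokernel.π_desc _ _ _)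

include hc hexact in
/-- Sections of a quotient killed by the projection are killed at a later stage. -/
theorem exists_kill' (hnoeth : ∀ V : Opens X, IsCompact (V : Set X)) (h0 : i ≫ p = 0) (j : I) {Q : Type*}
    (s : Finset Q) (W : Q → Opens X) (d : ∀ q, ModSite.sect (qSt D c i j) (W q))
    (hd : ∀ q, (qBar D c i p h0 j).val.app (op (W q)) (d q) = 0) :
    ∃ (l : I) (g : j ⟶ l), ∀ q ∈ s, (qTr D c i g).val.app (op (W q)) (d q) = 0 := by
  classical
  have hloc : ∀ q, ∀ y : (W q : Set X), ∃ (V : Opens X) (hV : V ≤ W q), y.1 ∈ V ∧ ∃ e : ModSite.sect E V,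
      (qPi D c i j).val.app (op V) e = smap (qSt D c i j) (homOfLE hV) (d q) ∧ p.val.app (op V) e = 0 := fun q y => by
    obtain ⟨S, hS, h⟩ := ExtSupp8.exists_local_preimage (qPi D c i j) (d q)
    obtain ⟨V, m, hm, hyV⟩ := hS y.1 y.2
    obtain ⟨e, he⟩ := h m hm
    refine ⟨V, m.le, hyV, e, he, ?_⟩
    rw [← qBar_pi D c i p h0 j e, show (qPi D c i j).val.app (op V) e = smap (qSt D c i j) m (d q) from he, app_smap, hd,
      map_zero]
  choose V hV hyV e he he0 using hloc
  choose T hT using fun q => (hnoeth (W q)).elim_finite_subcover (fun y => (V q y : Set X)) (fun y => (V q y).2)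
    fun y hy => Set.mem_iUnion.2 ⟨⟨y, hy⟩, hyV q _⟩
  obtain ⟨l₀, hl₀⟩ := exists_kill D c hc i p hexact (s.sigma T) (fun r => V r.1 r.2) (fun r => hnoeth _)
    (fun r => e r.1 r.2) fun r => he0 r.1 r.2
  let l := IsFiltered.max j l₀
  refine ⟨l, IsFiltered.leftToMax j l₀, fun q hq => ?_⟩
  refine sect_ext _ { arrows := fun V' m => smap (qSt D c i l) m ((qTr D c i (IsFiltered.leftToMax j l₀)).val.app (op (W q)) (d q)) = 0
                      downward_closed := by
                        intro V₁ V₂ m hm r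
                        rw [smap_comp, hm, map_zero] } (fun y hy => ?_) fun V' m hm => hm.trans (map_zero _).symm
  obtain ⟨y', hyT, hy'⟩ := Set.mem_iUnion₂.1 (hT q hy)
  refine ⟨V q y', homOfLE (hV q y'), ?_, hy'⟩
  show smap (qSt D c i l) _ _ = 0
  rw [← app_smap, ← he q y', qTr_pi]
  exact hl₀ ⟨q, y'⟩ (Finset.mem_sigma.2 ⟨hq, hyT⟩) l (IsFiltered.rightToMax j l₀)

include hc hexact in
set_option maxHeartbeats 1600000 in
/-- An extension of a finitely presented module splits modulo a stage. -/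
theorem exists_section_stage [CompactSpace X] (hnoeth : ∀ V : Opens X, IsCompact (V : Set X)) (h0 : i ≫ p = 0) [Epi p]
    [ModSite.HasSheafHom B] [SheafOfModules.IsFinitePresentation (R := ModSite.ringSh O) B] :
    ∃ (l : I) (σ : B ⟶ qSt D c i l), σ ≫ qBar D c i p h0 l = 𝟙 B := by
  classical
  have hloc : ∀ x : X, ∃ W : Opens X, x ∈ W ∧ ∃ (ι κ : Type u) (_ : Fintype ι) (_ : Fintype κ)
      (s : ι → ModSite.sect B W) (R : κ → ι → O.obj.obj (op W)) (e : ι → ModSite.sect E W),
      Gens B W s ∧ Rels B W s R ∧ ∀ k, p.val.app (op W) (e k) = s k := fun x => by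
    obtain ⟨S, hS, h⟩ := covd_hasPres (M := B) (⊤ : Opens X)
    obtain ⟨W₀, k₀, hk₀, hxW₀⟩ := hS x (Set.mem_univ x)
    obtain ⟨ι, κ, hι, hκ, s, R, hs, hR⟩ := h k₀ hk₀
    choose S' hS' h' using fun k => ExtSupp8.exists_local_preimage p (s k)
    choose W' m hm hxW' using fun k => hS' k x hxW₀
    choose e he using fun k => h' k (m k) (hm k)
    obtain ⟨W, hxW, hle, hle₀⟩ : ∃ W : Opens X, x ∈ W ∧ (∀ k, W ≤ W' k) ∧ W ≤ W₀ :=
      ⟨Finset.univ.inf W' ⊓ W₀, ⟨mem_fin_inf _ _ fun k _ => hxW' k, hxW₀⟩,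
        fun k => inf_le_left.trans (Finset.inf_le (Finset.mem_univ k)), inf_le_right⟩
    refine ⟨W, hxW, ι, κ, hι, hκ, _, _, fun k => smap E (homOfLE (hle k)) (e k), gens_smap (homOfLE hle₀) hs,
      rels_smap (homOfLE hle₀) hR, fun k => ?_⟩
    rw [app_smap, show p.val.app (op (W' k)) (e k) = smap B (m k) (s k) from he k, ← smap_comp]
    exact congrArg (fun q => smap B q (s k)) (Subsingleton.elim _ _)
  choose W hxW ι κ hι hκ s R e hs hR hpe using hloc
  obtain ⟨T, hT⟩ := isCompact_univ.elim_finite_subcover (fun x => (W x : Set X)) (fun x => (W x).2)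
    fun x _ => Set.mem_iUnion.2 ⟨x, hxW x⟩
  obtain ⟨j, hj⟩ := exists_kill D c hc i p hexact (Finset.univ : Finset (Σ x : T, κ x.1)) (fun q => W q.1.1)
    (fun q => hnoeth _) (fun q => ∑ k, R q.1.1 q.2 k • e q.1.1 k) fun q => by
      rw [app_sum]
      simp only [hpe]
      exact (hR q.1.1).1 q.2
  choose z hz using fun x : T => exists_hval_of (hs x.1) (hR x.1) (fun k => (qPi D c i j).val.app (op (W x.1)) (e x.1 k))
    fun r => (app_sum (qPi D c i j) Finset.univ (R x.1 r) (e x.1)).symm.trans (hj ⟨x, r⟩ (Finset.mem_univ _) j (𝟙 j))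
  let H := fun n : I => (ModSite.sheafHom B).obj (qSt D c i n)
  let d : ∀ q : Σ x : T, T × ι x.1, ModSite.sect (qSt D c i j) (W q.1.1 ⊓ W q.2.1.1) := fun q =>
    hval (smap (H j) (homOfLE inf_le_left) (z q.1)) (smap B (homOfLE inf_le_left) (s q.1.1 q.2.2)) -
      hval (smap (H j) (homOfLE inf_le_right) (z q.2.1)) (smap B (homOfLE inf_le_left) (s q.1.1 q.2.2))
  have hpz : ∀ (x : T) (V : Opens X) (hV : V ≤ W x.1) (y : ModSite.sect B V),
      (qBar D c i p h0 j).val.app (op V) (hval (smap (H j) (homOfLE hV) (z x)) y) = y := fun x V hV y => by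
    refine sect_ext _ { arrows := fun V' m => (qBar D c i p h0 j).val.app (op V')
                          (hval (smap (H j) (m ≫ homOfLE hV) (z x)) (smap B m y)) = smap B m y
                        downward_closed := by
                          intro V₁ V₂ m hm r
                          rw [Category.assoc, smap_comp (m ≫ homOfLE hV) r, smap_comp m r, hval_smap, app_smap, hm] }
      (fun w hw => ?_) fun V' m hm => ?_
    · obtain ⟨S, hS, h⟩ := gens_apply (hs x.1) (homOfLE hV) y
      obtain ⟨V', m, hm, hwV⟩ := hS w hw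
      obtain ⟨a, ha⟩ := h m hm
      refine ⟨V', m, ?_, hwV⟩
      show (qBar D c i p h0 j).val.app (op V') _ = _
      rw [ha, hval_sum, app_sum]
      refine Finset.sum_congr rfl fun k _ => congrArg (a k • ·) ?_
      rw [hval_smap, hz, app_smap, qBar_pi, hpe]
    · rw [← app_smap, ← hval_smap, ← smap_comp]
      exact hm
  obtain ⟨l, g, hl⟩ := exists_kill' D c hc i p hexact hnoeth h0 j
    (Finset.univ : Finset (Σ x : T, T × ι x.1)) (fun q => W q.1.1 ⊓ W q.2.1.1) d fun q => by
      rw [map_sub, hpz, hpz, sub_self]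
  let z' : ∀ x : T, ModSite.sect (H l) (W x.1) := fun x =>
    ((ModSite.sheafHom B).map (qTr D c i g)).val.app (op (W x.1)) (z x)
  have hz' : ∀ (x : T) (k : ι x.1), hval (z' x) (s x.1 k) = (qPi D c i l).val.app (op (W x.1)) (e x.1 k) := fun x k => by
    rw [hval_map, hz, qTr_pi]
  have hcomp : ∀ (x x' : T) (V : Opens X) (a : V ≤ W x.1) (b : V ≤ W x'.1),
      smap (H l) (homOfLE a) (z' x) = smap (H l) (homOfLE b) (z' x') := fun x x' V a b => by
    refine hval_inj (homOfLE a) (hs x.1) _ _ fun k => sub_eq_zero.1 ?_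
    have e1 : ∀ (y : T) (hy : V ≤ W y.1), smap (H l) (homOfLE hy) (z' y) =
        ((ModSite.sheafHom B).map (qTr D c i g)).val.app (op V) (smap (H j) (homOfLE hy) (z y)) := fun y hy =>
      (app_smap ((ModSite.sheafHom B).map (qTr D c i g)) (homOfLE hy) (z y)).symm
    rw [e1, e1, hval_map, hval_map, ← map_sub]
    have h1 := congrArg (smap (qSt D c i l) (homOfLE (le_inf a b))) (hl ⟨x, x', k⟩ (Finset.mem_univ _))
    rw [map_zero, ← app_smap, map_sub, ← hval_smap, ← hval_smap, ← smap_comp, ← smap_comp, ← smap_comp] at h1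
    exact h1
  let Sh : TopCat.Sheaf AddCommGrpCat.{u} X := ⟨(H l).val.presheaf, (H l).isSheaf⟩
  obtain ⟨Z, hZ, -⟩ := Sh.existsUnique_gluing' (fun x : T => W x.1) ⊤ (fun x => homOfLE le_top)
    (fun y _ => by
      obtain ⟨x, hx, hyx⟩ := Set.mem_iUnion₂.1 (hT (Set.mem_univ y))
      exact Opens.mem_iSup.2 ⟨⟨x, hx⟩, hyx⟩) z' fun x x' => hcomp x x' _ inf_le_left inf_le_right
  obtain ⟨σ, hσ⟩ := exists_hom_of_global Z
  refine ⟨l, σ, hom_ext_local fun U y w hw => ?_⟩
  obtain ⟨x, hx, hwx⟩ := Set.mem_iUnion₂.1 (hT (Set.mem_univ w))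
  obtain ⟨S, hS, h⟩ := gens_apply (hs x) (homOfLE (inf_le_right : U ⊓ W x ≤ W x)) (smap B (homOfLE inf_le_left) y)
  obtain ⟨V, m, hm, hwV⟩ := hS w ⟨hw, hwx⟩
  obtain ⟨a, ha⟩ := h m hm
  refine ⟨V, m.le.trans inf_le_left, hwV, ?_⟩
  show (qBar D c i p h0 l).val.app (op V) (σ.val.app (op V) _) = smap B _ y
  rw [show homOfLE (m.le.trans inf_le_left) = m ≫ homOfLE inf_le_left from Subsingleton.elim _ _, smap_comp, ha, hσ,
    hval_sum, app_sum]
  refine Finset.sum_congr rfl fun k _ => congrArg (a k • ·) ?_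
  rw [show smap (H l) (homOfLE le_top) Z = smap (H l) (m ≫ homOfLE inf_le_right) (z' ⟨x, hx⟩) from by
    rw [show (homOfLE le_top : V ⟶ ⊤) = (m ≫ homOfLE inf_le_right) ≫ homOfLE (le_top : W x ≤ ⊤) from Subsingleton.elim _ _,
      smap_comp]
    exact congrArg (smap (H l) _) (hZ ⟨x, hx⟩), hval_smap, hz' ⟨x, hx⟩ k, app_smap, qBar_pi, hpe]

/-- An extension of modules of finite type is of finite type. -/
theorem isFiniteType_of_ext {L F : ModSite.Mod O} (α : L ⟶ F) (β : F ⟶ B) [Epi β]
    (hex : ∀ (U : Opens X) (v : ModSite.sect F U), β.val.app (op U) v = 0 →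
      ∃ T ∈ (Opens.grothendieckTopology X) U, ∀ ⦃W : Opens X⦄ (m : W ⟶ U), T m → ∃ t, α.val.app (op W) t = smap F m v)
    [SheafOfModules.IsFiniteType (R := ModSite.ringSh O) L] [SheafOfModules.IsFiniteType (R := ModSite.ringSh O) B] :
    SheafOfModules.IsFiniteType (R := ModSite.ringSh O) F := by
  refine isFiniteType_of_covd fun U₀ => ?_
  obtain ⟨S, hS, h⟩ := (covd_hasGens (M := L)).and (covd_hasGens (M := B)) (fun U U' g => HasGens.res g) U₀
  refine bind_cover S hS fun U k hk => ?_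
  obtain ⟨⟨ι, hι, s, hs⟩, ⟨ι', hι', s', hs'⟩⟩ := h k hk
  classical
  refine ⟨{ arrows := fun U₁ m => ∀ b, ∃ e, β.val.app (op U₁) e = smap B m (s' b)
            downward_closed := by
              intro V₁ V₂ m hm r b
              obtain ⟨e, he⟩ := hm b
              exact ⟨smap F r e, by rw [app_smap, he, smap_comp]⟩ }, fun x hx => ?_, fun U₁ m hm => ?_⟩
  · choose S' hS' h' using fun b => ExtSupp8.exists_local_preimage β (s' b)
    choose W' m hm hxW' using fun b => hS' b x hx
    refine ⟨Finset.univ.inf W' ⊓ U, homOfLE inf_le_right, fun b => ?_,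
      ⟨mem_fin_inf _ _ fun b _ => hxW' b, hx⟩⟩
    obtain ⟨e, he⟩ := h' b (m b) (hm b)
    have hle : Finset.univ.inf W' ⊓ U ≤ W' b := inf_le_left.trans (Finset.inf_le (Finset.mem_univ b))
    refine ⟨smap F (homOfLE hle) e, ?_⟩
    rw [app_smap, show β.val.app (op (W' b)) e = smap B (m b) (s' b) from he, ← smap_comp]
    exact congrArg (fun q => smap B q (s' b)) (Subsingleton.elim _ _)
  · choose e he using hm
    refine ⟨ι ⊕ ι', inferInstance, Sum.elim (fun a => α.val.app (op U₁) (smap L m (s a))) e, gens_mk _ fun {V} l x => ?_⟩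
    obtain ⟨T, hT, hT'⟩ := gens_apply (gens_smap m hs') l (β.val.app (op V) x)
    refine bind_cover T hT fun V₁ n hn => ?_
    obtain ⟨a, ha⟩ := hT' n hn
    obtain ⟨T₂, hT₂, h₂⟩ := hex V₁ (smap F n x - ∑ b, a b • smap F (n ≫ l) (e b)) (by
      rw [map_sub, app_sum, app_smap, ha, sub_eq_zero]
      exact Finset.sum_congr rfl fun b _ => by rw [app_smap, he])
    refine bind_cover T₂ hT₂ fun V₂ n₂ hn₂ => ?_
    obtain ⟨t, ht⟩ := h₂ n₂ hn₂
    obtain ⟨T₃, hT₃, h₃⟩ := gens_apply (gens_smap m hs) (n₂ ≫ n ≫ l) t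
    refine ⟨T₃, hT₃, fun V₃ n₃ hn₃ => ?_⟩
    obtain ⟨b, hb⟩ := h₃ n₃ hn₃
    refine ⟨Sum.elim b fun q => rmap O (n₃ ≫ n₂) (a q), ?_⟩
    rw [Fintype.sum_sum_type]
    have h4 := congrArg (smap F n₃) ht
    rw [← app_smap, hb, app_sum, ← smap_comp, map_sub, ← smap_comp, smap_sum_smul] at h4
    simp only [Sum.elim_inl, Sum.elim_inr]
    refine (sub_eq_iff_eq_add.1 h4.symm).trans ?_
    congr 1
    · exact Finset.sum_congr rfl fun q _ => congrArg (b q • ·) (by
        rw [← app_smap]
        exact congrArg (fun r => α.val.app (op V₃) (smap L r (smap L m (s q)))) (Subsingleton.elim _ _))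
    · exact Finset.sum_congr rfl fun q _ => congrArg (rmap O (n₃ ≫ n₂) (a q) • ·) (by
        rw [← smap_comp]
        exact congrArg (fun r => smap F r (e q)) (Subsingleton.elim _ _))

end General

variable {𝔛 : FSch.Sys.{u}} (hN : 𝔛.IsLocNoethFormal)

include hN in
theorem isCompact_opens [CompactSpace (𝔛.X 0)] (V : (𝔛.X 0).Opens) : IsCompact (V : Set (𝔛.X 0)) := by
  haveI := hN.2.2 0
  haveI : IsNoetherian (𝔛.X 0) := {}
  exact TopologicalSpace.NoetherianSpace.isCompact _

set_option maxHeartbeats 1000000 in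
/-- The kernel of a map of ind-coherent modules is ind-coherent. -/
theorem ind_kernel {M N : FSch.ModF 𝔛 hN.1} (φ : M ⟶ N) (hM : IndC hN M) (hN' : IndC hN N) : IndC hN (kernel φ) := by
  classical
  haveI := isQuasicoherent_of_ind hN hM
  haveI := isQuasicoherent_of_ind hN hN'
  haveI := isQuasicoherent_kernel' hN φ
  obtain ⟨A, C, f, hC, hf⟩ := exists_covers hN hM
  obtain ⟨J, _, _, pres, hP, hm⟩ := exists_mono_pres hN hC hf
  haveI := hP
  haveI := hm
  let K : J → FSch.ModF 𝔛 hN.1 := fun j => kernel (pres.ι.app j ≫ φ)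
  let g : ∀ j, K j ⟶ kernel φ := fun j => kernel.lift φ (kernel.ι _ ≫ pres.ι.app j) (by simp [K])
  refine ind_of_covers hN (C := K) (f := g) (fun j => ?_) fun U x y hy => ?_
  · haveI : SheafOfModules.IsQuasicoherent.{u} (K j) := isQuasicoherent_kernel' hN _
    haveI := isFiniteType_of_mono hN (kernel.ι (pres.ι.app j ≫ φ))
    exact isFinitePresentation_of_qcoh hN
  · obtain ⟨j, V, hV, hyV, t, ht⟩ := exists_local_rep_filt pres.diag (Cocone.mk _ pres.ι) pres.isColimit
      ((kernel.ι φ).val.app (op U) x) hy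
    have h0 : (pres.ι.app j ≫ φ).val.app (op V) t = 0 := by
      refine (congrArg (φ.val.app (op V)) ht).trans ?_
      rw [app_smap]
      exact (congrArg (smap N _) (cond_apply (kernel.ι φ) φ (kernel.condition φ) x)).trans (map_zero _)
    obtain ⟨w, hw⟩ := exists_section_of_exact
      (S := ShortComplex.mk (kernel.ι (pres.ι.app j ≫ φ)) (pres.ι.app j ≫ φ) (kernel.condition _))
      (ShortComplex.exact_kernel _) V t h0
    refine ⟨V, hV, hyV, {j}, fun a => if h : j = a then h ▸ w else 0, ?_⟩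
    rw [Finset.sum_singleton]
    dsimp only
    rw [dif_pos rfl]
    refine sections_injective' (kernel.ι φ) V ?_
    refine ((app_smap (kernel.ι φ) _ x).trans (ht.symm.trans ?_))
    refine (congrArg ((pres.ι.app j).val.app (op V)) hw.symm).trans ?_
    exact (congrArg (fun q : K j ⟶ M => q.val.app (op V) w)
      (kernel.lift_ι φ (kernel.ι _ ≫ pres.ι.app j) (by simp))).symm

set_option maxHeartbeats 1600000 in
/-- A coherent quotient of an extension by an ind-coherent module is covered by a coherent submodule. -/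
theorem exists_coherent_lift [CompactSpace (𝔛.X 0)] {A E B : FSch.ModF 𝔛 hN.1} (i : A ⟶ E) (p : E ⟶ B) (h0 : i ≫ p = 0)
    [Epi p] (hexact : ∀ (U : (𝔛.X 0).Opens) (y : FSec hN E U), p.val.app (op U) y = 0 → ∃ w, i.val.app (op U) w = y)
    (hA : IndC hN A) [SheafOfModules.IsQuasicoherent.{u} E]
    [hB : SheafOfModules.IsFinitePresentation (R := ModSite.ringSh (𝔛.Osh hN.1)) B] :
    ∃ (F : FSch.ModF 𝔛 hN.1) (f : F ⟶ E),
      SheafOfModules.IsFinitePresentation (R := ModSite.ringSh (𝔛.Osh hN.1)) F ∧ Epi (f ≫ p) := by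
  obtain ⟨I, _, _, pres, hP⟩ := hA
  haveI := hP
  let D := pres.diag
  let c : Cocone D := Cocone.mk A pres.ι
  haveI := hasSheafHom (O := 𝔛.Osh hN.1) B
  obtain ⟨l, σ, hσ⟩ := exists_section_stage D c pres.isColimit i p hexact (isCompact_opens hN) h0 (B := B)
  haveI : SheafOfModules.IsQuasicoherent.{u} (qSt D c i l) := isQuasicoherent_cokernel' hN _
  let ψ : E ⟶ qSt D c i l := qPi D c i l ≫ (𝟙 _ - qBar D c i p h0 l ≫ σ)
  haveI : SheafOfModules.IsQuasicoherent.{u} (kernel ψ) := isQuasicoherent_kernel' hN ψ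
  have hσ' : ∀ {U : (𝔛.X 0).Opens} (x : FSec hN B U), (qBar D c i p h0 l).val.app (op U) (σ.val.app (op U) x) = x :=
    fun {U} x => congrArg (fun q : B ⟶ B => q.val.app (op U) x) hσ
  have hψ : ∀ {U : (𝔛.X 0).Opens} (y : FSec hN E U), ψ.val.app (op U) y =
      (qPi D c i l).val.app (op U) y - σ.val.app (op U) (p.val.app (op U) y) := fun {U} y => by
    rw [← qBar_pi D c i p h0 l y]
    rfl
  haveI : Epi (kernel.ι ψ ≫ p) := epi_of_locally _ fun U x => by
    obtain ⟨S, hS, h⟩ := ExtSupp8.exists_local_preimage (qPi D c i l) (σ.val.app (op U) x)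
    refine ⟨S, hS, fun W m hm => ?_⟩
    obtain ⟨y, hy⟩ := h m hm
    have hy' : (qPi D c i l).val.app (op W) y = σ.val.app (op W) (smap B m x) := hy.trans (app_smap σ m x).symm
    have hp : p.val.app (op W) y = smap B m x := by
      rw [← qBar_pi D c i p h0 l y, hy', hσ']
    obtain ⟨w, hw⟩ := exists_section_of_exact (S := ShortComplex.mk (kernel.ι ψ) ψ (kernel.condition _))
      (ShortComplex.exact_kernel _) W y (by
        show ψ.val.app (op W) y = 0
        rw [hψ, hy', hp, sub_self])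
    exact ⟨w, (congrArg (p.val.app (op W)) hw).trans hp⟩
  let α : D.obj l ⟶ kernel ψ := kernel.lift ψ (cmap D c l ≫ i) (by
    show (cmap D c l ≫ i) ≫ qPi D c i l ≫ _ = 0
    rw [cokernel.condition_assoc, zero_comp])
  haveI : SheafOfModules.IsFinitePresentation (R := ModSite.ringSh (𝔛.Osh hN.1)) (D.obj l) := hP l
  haveI : SheafOfModules.IsFiniteType (R := ModSite.ringSh (𝔛.Osh hN.1)) (kernel ψ) := by
    refine isFiniteType_of_ext α (kernel.ι ψ ≫ p) fun U v hv => ?_
    have h1 : (qPi D c i l).val.app (op U) ((kernel.ι ψ).val.app (op U) v) = 0 := by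
      have h2 := cond_apply (kernel.ι ψ) ψ (kernel.condition ψ) v
      rw [hψ, show p.val.app (op U) ((kernel.ι ψ).val.app (op U) v) = 0 from hv, map_zero, sub_zero] at h2
      exact h2
    obtain ⟨S, hS, h⟩ := exists_locally_of_exact (ShortComplex.exact_cokernel (cmap D c l ≫ i)) _ h1
    refine ⟨S, hS, fun W m hm => ?_⟩
    obtain ⟨t, ht⟩ := h m hm
    refine ⟨t, sections_injective' (kernel.ι ψ) W ?_⟩
    refine (congrArg (fun q : D.obj l ⟶ E => q.val.app (op W) t) (kernel.lift_ι ψ _ _)).trans ?_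
    exact ht.trans (app_smap (kernel.ι ψ) m v).symm
  exact ⟨kernel ψ, kernel.ι ψ, isFinitePresentation_of_qcoh hN, inferInstance⟩

set_option maxHeartbeats 1600000 in
/-- An extension of ind-coherent modules is ind-coherent. -/
theorem ind_X₂ [CompactSpace (𝔛.X 0)] {S : ShortComplex (FSch.ModF 𝔛 hN.1)} (hS : S.ShortExact)
    (h₁ : IndC hN S.X₁) (h₃ : IndC hN S.X₃) : IndC hN S.X₂ := by
  classical
  haveI := hS.mono_f
  haveI := hS.epi_g
  haveI := isQuasicoherent_of_ind hN h₁
  haveI := isQuasicoherent_of_ind hN h₃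
  haveI hE : SheafOfModules.IsQuasicoherent.{u} S.X₂ := isQuasicoherent_X₂ hN hS
  have hex := exists_section_of_exact hS.exact
  obtain ⟨A, C, f, hC, hf⟩ := exists_covers hN h₁
  obtain ⟨A', C', f', hC', hf'⟩ := exists_covers hN h₃
  haveI := hC'
  have hlift : ∀ a, ∃ (F : FSch.ModF 𝔛 hN.1) (g : F ⟶ S.X₂) (q : F ⟶ C' a), Epi q ∧ g ≫ S.g = q ≫ f' a ∧
      SheafOfModules.IsFinitePresentation (R := ModSite.ringSh (𝔛.Osh hN.1)) F := fun a => by
    haveI := isQuasicoherent_biprod hN S.X₂ (C' a)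
    let δ : S.X₂ ⊞ C' a ⟶ S.X₃ := biprod.desc S.g (-(f' a))
    haveI : SheafOfModules.IsQuasicoherent.{u} (kernel δ) := isQuasicoherent_kernel' hN δ
    let i' : S.X₁ ⟶ kernel δ := kernel.lift δ (S.f ≫ biprod.inl) (by simp [δ, S.zero])
    let p' : kernel δ ⟶ C' a := kernel.ι δ ≫ biprod.snd
    have hδ : ∀ {U : (𝔛.X 0).Opens} (y : FSec hN (S.X₂ ⊞ C' a) U), δ.val.app (op U) y =
        S.g.val.app (op U) ((biprod.fst : S.X₂ ⊞ C' a ⟶ S.X₂).val.app (op U) y) -
          (f' a).val.app (op U) ((biprod.snd : S.X₂ ⊞ C' a ⟶ C' a).val.app (op U) y) := fun {U} y => by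
      have e : δ = biprod.fst ≫ S.g - biprod.snd ≫ f' a := by
        apply biprod.hom_ext' <;> simp [δ]
      rw [e]
      rfl
    haveI : Epi p' := epi_of_locally _ fun U x => by
      obtain ⟨T, hT, h⟩ := ExtSupp8.exists_local_preimage S.g ((f' a).val.app (op U) x)
      refine ⟨T, hT, fun W m hm => ?_⟩
      obtain ⟨y, hy⟩ := h m hm
      let z : FSec hN (S.X₂ ⊞ C' a) W := (biprod.inl : S.X₂ ⟶ S.X₂ ⊞ C' a).val.app (op W) y +
        (biprod.inr : C' a ⟶ S.X₂ ⊞ C' a).val.app (op W) (smap (C' a) m x)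
      have hf₁ : (biprod.fst : S.X₂ ⊞ C' a ⟶ S.X₂).val.app (op W) z = y := by
        rw [map_add]
        exact (congrArg₂ (· + ·) (congrArg (fun q : S.X₂ ⟶ S.X₂ => q.val.app (op W) y) biprod.inl_fst)
          (cond_apply _ _ biprod.inr_fst _)).trans (add_zero _)
      have hs₁ : (biprod.snd : S.X₂ ⊞ C' a ⟶ C' a).val.app (op W) z = smap (C' a) m x := by
        rw [map_add]
        exact (congrArg₂ (· + ·) (cond_apply _ _ biprod.inl_snd _)
          (congrArg (fun q : C' a ⟶ C' a => q.val.app (op W) (smap (C' a) m x)) biprod.inr_snd)).trans (zero_add _)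
      obtain ⟨w, hw⟩ := exists_section_of_exact (S := ShortComplex.mk (kernel.ι δ) δ (kernel.condition _))
        (ShortComplex.exact_kernel _) W z (by
          show δ.val.app (op W) z = 0
          rw [hδ, hf₁, hs₁, app_smap, sub_eq_zero]
          exact hy)
      exact ⟨w, (congrArg ((biprod.snd : S.X₂ ⊞ C' a ⟶ C' a).val.app (op W)) hw).trans hs₁⟩
    obtain ⟨F, g, hF, hep⟩ := exists_coherent_lift hN i' p' (by simp [i', p']) (fun U y hy => by
      let z := (kernel.ι δ).val.app (op U) y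
      have hs : (biprod.snd : S.X₂ ⊞ C' a ⟶ C' a).val.app (op U) z = 0 := hy
      have hg := cond_apply (kernel.ι δ) δ (kernel.condition δ) y
      rw [hδ, hs, map_zero, sub_zero] at hg
      obtain ⟨w, hw⟩ := hex U _ hg
      refine ⟨w, sections_injective' (kernel.ι δ) U ?_⟩
      refine (congrArg (fun q : S.X₁ ⟶ S.X₂ ⊞ C' a => q.val.app (op U) w) (kernel.lift_ι δ _ _)).trans ?_
      have h2 := congrArg (fun q : S.X₂ ⊞ C' a ⟶ S.X₂ ⊞ C' a => q.val.app (op U) z) (biprod.total (X := S.X₂) (Y := C' a))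
      refine Eq.trans ?_ h2
      show (biprod.inl : S.X₂ ⟶ S.X₂ ⊞ C' a).val.app (op U) (S.f.val.app (op U) w) =
        (biprod.inl : S.X₂ ⟶ S.X₂ ⊞ C' a).val.app (op U) ((biprod.fst : S.X₂ ⊞ C' a ⟶ S.X₂).val.app (op U) z) +
          (biprod.inr : C' a ⟶ S.X₂ ⊞ C' a).val.app (op U) ((biprod.snd : S.X₂ ⊞ C' a ⟶ C' a).val.app (op U) z)
      rw [hs, map_zero, add_zero, hw]) h₁
    refine ⟨F, g ≫ kernel.ι δ ≫ biprod.fst, g ≫ p', hep, ?_, hF⟩
    have e' : biprod.fst ≫ S.g - biprod.snd ≫ f' a = δ := by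
      apply biprod.hom_ext' <;> simp [δ]
    have e : kernel.ι δ ≫ (biprod.fst ≫ S.g - biprod.snd ≫ f' a) = 0 :=
      (congrArg (kernel.ι δ ≫ ·) e').trans (kernel.condition δ)
    rw [Preadditive.comp_sub, sub_eq_zero] at e
    simp only [p', Category.assoc]
    exact congrArg (g ≫ ·) e
  choose F g q hq hgq hF using hlift
  refine ind_of_covers hN (C := Sum.elim C F) (f := fun a => Sum.casesOn a (fun a => f a ≫ S.f) g)
    (fun a => by cases a with
      | inl a => exact hC a
      | inr a => exact hF a) fun U x y hy => ?_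
  haveI := hq
  obtain ⟨V, hV, hyV, T, t, ht⟩ := hf' U (S.g.val.app (op U) x) y hy
  choose Sv hSv hpre using fun a => ExtSupp8.exists_local_preimage (q a) (t a)
  choose W m hm hyW using fun a : T => hSv a.1 y hyV
  choose v hv using fun a : T => hpre a.1 (m a) (hm a)
  let V₁ : (𝔛.X 0).Opens := Finset.univ.inf W ⊓ V
  have hy₁ : y ∈ V₁ := ⟨mem_fin_inf _ _ fun a _ => hyW a, hyV⟩
  have hW : ∀ a : T, V₁ ≤ W a := fun a => inf_le_left.trans (Finset.inf_le (Finset.mem_univ a))
  let v' : ∀ a, FSec hN (F a) V₁ := fun a => if h : a ∈ T then smap (F a) (homOfLE (hW ⟨a, h⟩)) (v ⟨a, h⟩) else 0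
  have hv' : ∀ a ∈ T, S.g.val.app (op V₁) ((g a).val.app (op V₁) (v' a)) =
      smap S.X₃ (homOfLE (inf_le_right : V₁ ≤ V)) ((f' a).val.app (op V) (t a)) := fun a ha => by
    have h1 : (q a).val.app (op V₁) (v' a) = smap (C' a) (homOfLE (inf_le_right : V₁ ≤ V)) (t a) := by
      simp only [v', dif_pos ha]
      rw [app_smap, show (q a).val.app (op (W ⟨a, ha⟩)) (v ⟨a, ha⟩) = smap (C' a) (m ⟨a, ha⟩) (t a) from hv ⟨a, ha⟩, ← smap_comp]
      exact congrArg (fun r => smap (C' a) r (t a)) (Subsingleton.elim _ _)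
    refine (congrArg (fun r : F a ⟶ S.X₃ => r.val.app (op V₁) (v' a)) (hgq a)).trans ?_
    exact (congrArg ((f' a).val.app (op V₁)) h1).trans (app_smap _ _ _)
  obtain ⟨w, hw⟩ := hex V₁ (smap S.X₂ (homOfLE (inf_le_right.trans hV : V₁ ≤ U)) x - ∑ a ∈ T, (g a).val.app (op V₁) (v' a)) (by
    rw [map_sub, map_sum, Finset.sum_congr rfl hv', app_smap, ← map_sum, ← ht, ← smap_comp, sub_eq_zero]
    exact congrArg (fun r => smap S.X₃ r (S.g.val.app (op U) x)) (Subsingleton.elim _ _))
  obtain ⟨V₂, hV₂, hyV₂, T₁, t₁, ht₁⟩ := hf V₁ w y hy₁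
  refine ⟨V₂, hV₂.trans (inf_le_right.trans hV), hyV₂, T₁.disjSum T,
    fun a => Sum.casesOn a t₁ fun a => smap (F a) (homOfLE hV₂) (v' a), ?_⟩
  rw [Finset.sum_disjSum]
  have h3 := congrArg (smap S.X₂ (homOfLE hV₂)) (eq_sub_iff_add_eq.1 hw).symm
  rw [map_add, map_sum, ← app_smap, ht₁, map_sum, ← smap_comp] at h3
  refine Eq.trans ?_ (h3.trans ?_)
  · exact congrArg (fun r => smap S.X₂ r x) (Subsingleton.elim _ _)
  · congr 1
    exact Finset.sum_congr rfl fun a _ => (app_smap (g a) _ _).symm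

/-- The middle term of an exact five-term sequence with ind-coherent outer terms. -/
theorem ind_of_five [CompactSpace (𝔛.X 0)] {X₀ X₁ X₂ X₃ X₄ : FSch.ModF 𝔛 hN.1} (a : X₀ ⟶ X₁) (b : X₁ ⟶ X₂) (c : X₂ ⟶ X₃)
    (d : X₃ ⟶ X₄) (hab : a ≫ b = 0) (hbc : b ≫ c = 0) (hcd : c ≫ d = 0) (e₁ : (ShortComplex.mk a b hab).Exact)
    (e₂ : (ShortComplex.mk b c hbc).Exact) (e₃ : (ShortComplex.mk c d hcd).Exact)
    (h₀ : IndC hN X₀) (h₁ : IndC hN X₁) (h₃ : IndC hN X₃) (h₄ : IndC hN X₄) : IndC hN X₂ := by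
  let i : cokernel a ⟶ X₂ := cokernel.desc a b hab
  let p : X₂ ⟶ kernel d := kernel.lift d c hcd
  haveI : Mono i := e₁.mono_cokernelDesc
  haveI : Epi p := e₃.epi_kernelLift
  have hp : b ≫ p = 0 := by rw [← cancel_mono (kernel.ι d), Category.assoc, kernel.lift_ι, hbc, zero_comp]
  have h0 : i ≫ p = 0 := by rw [← cancel_epi (cokernel.π a), cokernel.π_desc_assoc, hp, comp_zero]
  have e₄ : (ShortComplex.mk b p hp).Exact :=
    (ShortComplex.exact_iff_of_epi_of_isIso_of_mono ({ τ₁ := 𝟙 _, τ₂ := 𝟙 _, τ₃ := kernel.ι d, comm₂₃ := by simp [p] } :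
      ShortComplex.mk b p hp ⟶ ShortComplex.mk b c hbc)).2 e₂
  have e₅ : (ShortComplex.mk i p h0).Exact :=
    (ShortComplex.exact_iff_of_epi_of_isIso_of_mono ({ τ₁ := cokernel.π a, τ₂ := 𝟙 _, τ₃ := 𝟙 _, comm₁₂ := by simp [i] } :
      ShortComplex.mk b p hp ⟶ ShortComplex.mk i p h0)).1 e₄
  exact ind_X₂ hN (S := ShortComplex.mk i p h0) ⟨e₅⟩ (ind_cokernel hN a h₀ h₁) (ind_kernel hN d h₃ h₄)

end Groth.Agent.FormalModH7
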