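import Groth.Agent.Lib.FormalModH7.Glue

/-!
# Splitting one-cocycles in finitely presented quotients of free modules over affine opens
-/

set_option autoImplicit false
set_option linter.style.haveILetI false
set_option linter.unusedSectionVars false
set_option backward.isDefEq.respectTransparency false
universe u

open CategoryTheory CategoryTheory.Limits AlgebraicGeometry Opposite TopologicalSpace

namespace Groth.Agent.FormalModH7

section Alg

variable {R ι T : Type*} [CommRing R] [Fintype T]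

/-- Splitting in terms of numerators. -/
theorem exists_split_num (P : Submodule R (ι → R)) (g : T → R) (hg : Ideal.span (Set.range g) = ⊤) (N : ℕ)
    (a : T → T → ι → R)
    (h : ∀ s t u, ∃ K : ℕ, (g s * g t * g u) ^ K • (g u ^ N • a s t + g s ^ N • a t u - g t ^ N • a s u) ∈ P) :
    ∃ (M : ℕ) (b : T → ι → R), ∀ s t,
      g s ^ (N + M) • b t - g t ^ (N + M) • b s - (g t * g s) ^ M • a s t ∈ P := by
  choose K hK using h
  let M : ℕ := Finset.univ.sup fun q : T × T × T => K q.1 q.2.1 q.2.2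
  have hM : ∀ s t u, g u ^ (N + M) • (g t * g s) ^ M • a s t + g s ^ (N + M) • (g u * g t) ^ M • a t u -
      g t ^ (N + M) • (g u * g s) ^ M • a s u ∈ P := fun s t u => by
    obtain ⟨m, hm⟩ := Nat.exists_eq_add_of_le
      (Finset.le_sup (f := fun q : T × T × T => K q.1 q.2.1 q.2.2) (Finset.mem_univ (s, t, u)))
    have h1 := P.smul_mem ((g s * g t * g u) ^ m) (hK s t u)
    rw [smul_smul, ← pow_add, add_comm, ← show M = K s t u + m from hm] at h1
    convert h1 using 1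
    funext i
    simp only [Pi.add_apply, Pi.sub_apply, Pi.smul_apply, smul_eq_mul, pow_add, mul_pow]
    ring
  obtain ⟨w, hw⟩ := (Submodule.mem_span_range_iff_exists_fun R).1
    (show (1 : R) ∈ Ideal.span (Set.range fun t => g t ^ (N + M)) from
      (span_range_pow g hg fun _ => N + M) ▸ Submodule.mem_top)
  refine ⟨M, fun t => ∑ u, w u • (g t * g u) ^ M • a u t, fun s t => ?_⟩
  have e : g s ^ (N + M) • (∑ u, w u • (g t * g u) ^ M • a u t) - g t ^ (N + M) • (∑ u, w u • (g s * g u) ^ M • a u s) -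
      (g t * g s) ^ M • a s t = -∑ u, w u • (g t ^ (N + M) • (g s * g u) ^ M • a u s +
        g u ^ (N + M) • (g t * g s) ^ M • a s t - g s ^ (N + M) • (g t * g u) ^ M • a u t) := by
    have hw' : ∑ u, (w u * g u ^ (N + M)) • ((g t * g s) ^ M • a s t) = (g t * g s) ^ M • a s t := by
      rw [← Finset.sum_smul]
      simp only [smul_eq_mul] at hw
      rw [hw, one_smul]
    conv_lhs => rw [← hw']
    simp only [Finset.smul_sum, ← Finset.sum_sub_distrib, ← Finset.sum_neg_distrib]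
    refine Finset.sum_congr rfl fun u _ => ?_
    funext i
    simp only [Pi.add_apply, Pi.neg_apply, Pi.sub_apply, Pi.smul_apply, smul_eq_mul]
    ring
  rw [e]
  refine P.neg_mem (P.sum_mem fun u _ => P.smul_mem _ ?_)
  exact hM u s t

end Alg

section Sch

variable {X : Scheme.{u}} {V : X.Opens} (hV : IsAffineOpen V) {ι κ T : Type*} [Fintype ι] [Fintype T]
  (Rr : κ → ι → Γ(X, V)) (g : T → Γ(X, V))

theorem tri_left (s t u : T) : X.basicOpen (g s * g t * g u) ≤ X.basicOpen (g t * g s) := by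
  simp only [X.basicOpen_mul]
  exact le_inf (inf_le_left.trans inf_le_right) (inf_le_left.trans inf_le_left)

theorem tri_mid (s t u : T) : X.basicOpen (g s * g t * g u) ≤ X.basicOpen (g u * g t) := by
  simp only [X.basicOpen_mul]
  exact le_inf inf_le_right (inf_le_left.trans inf_le_right)

theorem tri_out (s t u : T) : X.basicOpen (g s * g t * g u) ≤ X.basicOpen (g u * g s) := by
  simp only [X.basicOpen_mul]
  exact le_inf inf_le_right (inf_le_left.trans inf_le_left)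

include hV in
/-- Splitting of cocycles of a finitely presented quotient of a free module. -/
theorem exists_split_scheme (hg : Ideal.span (Set.range g) = ⊤) (d : ∀ s t, ι → Γ(X, X.basicOpen (g t * g s)))
    (hd : ∀ s t u, (fun i => rO (tri_left g s t u) (d s t i) + rO (tri_mid g s t u) (d t u i) -
        rO (tri_out g s t u) (d s u i)) ∈
      Submodule.span Γ(X, X.basicOpen (g s * g t * g u)) (Set.range fun r i => rD (g s * g t * g u) (Rr r i))) :
    ∃ b : ∀ t, ι → Γ(X, X.basicOpen (g t)), ∀ s t,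
      (fun i => rO (basicOpen_mul_le_left (g t) (g s)) (b t i) - rO (basicOpen_mul_le_right (g t) (g s)) (b s i) - d s t i) ∈
        Submodule.span Γ(X, X.basicOpen (g t * g s)) (Set.range fun r i => rD (g t * g s) (Rr r i)) := by
  classical
  choose N₁ a₁ ha₁ using fun q : T × T => exists_num hV (g q.2 * g q.1) (d q.1 q.2)
  let N := Finset.univ.sup N₁
  let a : T → T → ι → Γ(X, V) := fun s t => (g t * g s) ^ (N - N₁ (s, t)) • a₁ (s, t)
  have ha : ∀ s t i, rD (g t * g s) (g t * g s) ^ N * d s t i = rD (g t * g s) (a s t i) := fun s t i => by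
    show _ = rD (g t * g s) ((g t * g s) ^ (N - N₁ (s, t)) * a₁ (s, t) i)
    have h1 := ha₁ (s, t) i
    rw [map_mul (rD (g t * g s)) (_ ^ _), ← h1, map_pow, ← mul_assoc, ← pow_add,
      Nat.sub_add_cancel (Finset.le_sup (f := N₁) (Finset.mem_univ (s, t)))]
  have hcoc : ∀ s t u, ∃ K : ℕ, (g s * g t * g u) ^ K • (g u ^ N • a s t + g s ^ N • a t u - g t ^ N • a s u) ∈
      Submodule.span Γ(X, V) (Set.range Rr) := fun s t u => by
    refine exists_pow_mem_of_rD hV Rr _ _ ?_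
    have e : (fun i => rD (g s * g t * g u) ((g u ^ N • a s t + g s ^ N • a t u - g t ^ N • a s u) i)) =
        rD (g s * g t * g u) ((g s * g t * g u) ^ N) •
        fun i => rO (tri_left g s t u) (d s t i) + rO (tri_mid g s t u) (d t u i) - rO (tri_out g s t u) (d s u i) := by
      funext i
      have h1 := congrArg (rO (tri_left g s t u)) (ha s t i)
      have h2 := congrArg (rO (tri_mid g s t u)) (ha t u i)
      have h3 := congrArg (rO (tri_out g s t u)) (ha s u i)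
      rw [map_mul, map_pow, rO_rO, rO_rO] at h1 h2 h3
      simp only [Pi.add_apply, Pi.sub_apply, Pi.smul_apply, smul_eq_mul, map_add, map_sub, map_mul, map_pow] at h1 h2 h3 ⊢
      rw [← h1, ← h2, ← h3]
      ring
    rw [e]
    exact Submodule.smul_mem _ _ (hd s t u)
  obtain ⟨M, b, hb⟩ := exists_split_num _ g hg N a hcoc
  have hu : ∀ t, IsUnit (rD (g t) (g t ^ (N + M))) := fun t => by
    rw [map_pow]
    refine IsUnit.pow _ ?_
    haveI := hV.isLocalization_basicOpen (g t)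
    exact IsLocalization.Away.algebraMap_isUnit (g t)
  refine ⟨fun t i => (↑(hu t).unit⁻¹ : Γ(X, X.basicOpen (g t))) * rD (g t) (b t i), fun s t => ?_⟩
  have hu2 : IsUnit (rD (g t * g s) ((g t * g s) ^ (N + M))) := by
    rw [map_pow]
    refine IsUnit.pow _ ?_
    haveI := hV.isLocalization_basicOpen (g t * g s)
    exact IsLocalization.Away.algebraMap_isUnit (g t * g s)
  have h1 := map_mem_span_rels (rD (g t * g s)) Rr (hb s t)
  have e : (fun i => rD (g t * g s) ((g s ^ (N + M) • b t - g t ^ (N + M) • b s - (g t * g s) ^ M • a s t) i)) =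
      rD (g t * g s) ((g t * g s) ^ (N + M)) • fun i =>
        rO (basicOpen_mul_le_left (g t) (g s)) ((↑(hu t).unit⁻¹ : Γ(X, X.basicOpen (g t))) * rD (g t) (b t i)) -
        rO (basicOpen_mul_le_right (g t) (g s)) ((↑(hu s).unit⁻¹ : Γ(X, X.basicOpen (g s))) * rD (g s) (b s i)) - d s t i := by
    funext i
    have h2 : rD (g t * g s) (g t ^ (N + M)) * rO (basicOpen_mul_le_left (g t) (g s))
        ((↑(hu t).unit⁻¹ : Γ(X, X.basicOpen (g t))) * rD (g t) (b t i)) = rD (g t * g s) (b t i) := by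
      rw [← rO_rO (X.basicOpen_le (g t)) (basicOpen_mul_le_left (g t) (g s)), ← map_mul, ← mul_assoc,
        IsUnit.mul_val_inv, one_mul, rO_rO]
    have h3 : rD (g t * g s) (g s ^ (N + M)) * rO (basicOpen_mul_le_right (g t) (g s))
        ((↑(hu s).unit⁻¹ : Γ(X, X.basicOpen (g s))) * rD (g s) (b s i)) = rD (g t * g s) (b s i) := by
      rw [← rO_rO (X.basicOpen_le (g s)) (basicOpen_mul_le_right (g t) (g s)), ← map_mul, ← mul_assoc,
        IsUnit.mul_val_inv, one_mul, rO_rO]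
    have h4 := ha s t i
    simp only [map_pow, map_mul] at h2 h3
    simp only [Pi.sub_apply, Pi.smul_apply, smul_eq_mul, map_sub, map_mul, map_pow] at h4 ⊢
    rw [← h2, ← h3, ← h4]
    ring
  rw [e] at h1
  have h5 := Submodule.smul_mem _ (↑hu2.unit⁻¹ : Γ(X, X.basicOpen (g t * g s))) h1
  rwa [smul_smul, IsUnit.val_inv_mul, one_smul] at h5

end Sch

section Formal

variable {𝔛 : FSch.Sys.{u}} (hN : 𝔛.IsLocNoethFormal) {V : (𝔛.X 0).Opens} (hV : IsAffineOpen V)

theorem fD_mul_le_left (a b : AV 𝔛 hN.1 V) : fD hN (a * b) ≤ fD hN a := (fD_mul hN a b).trans_le inf_le_left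

theorem fD_mul_le_right (a b : AV 𝔛 hN.1 V) : fD hN (a * b) ≤ fD hN b := (fD_mul hN a b).trans_le inf_le_right

theorem ftri_left {T : Type*} (g : T → AV 𝔛 hN.1 V) (s t u : T) : fD hN (g s * g t * g u) ≤ fD hN (g t * g s) := by
  simp only [fD_mul]
  exact le_inf (inf_le_left.trans inf_le_right) (inf_le_left.trans inf_le_left)

theorem ftri_mid {T : Type*} (g : T → AV 𝔛 hN.1 V) (s t u : T) : fD hN (g s * g t * g u) ≤ fD hN (g u * g t) := by
  simp only [fD_mul]
  exact le_inf inf_le_right (inf_le_left.trans inf_le_right)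

theorem ftri_out {T : Type*} (g : T → AV 𝔛 hN.1 V) (s t u : T) : fD hN (g s * g t * g u) ≤ fD hN (g u * g s) := by
  simp only [fD_mul]
  exact le_inf inf_le_right (inf_le_left.trans inf_le_left)

theorem lvU_fD_mul (n : ℕ) (a b : AV 𝔛 hN.1 V) :
    𝔛.lvU hN.1 n (fD hN (a * b)) = (𝔛.X n).basicOpen (prj 𝔛 hN.1 V n a * prj 𝔛 hN.1 V n b) := by
  rw [lvU_fD, map_mul]

set_option maxHeartbeats 1000000 in
include hV in
/-- A level solution of a splitting problem. -/
theorem exists_split_level {ι κ T : Type*} [Fintype ι] [Fintype T] (Rr : κ → ι → AV 𝔛 hN.1 V)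
    (g : T → AV 𝔛 hN.1 V) (hg : V ≤ ⨆ t, fD hN (g t)) (d : ∀ s t, ι → AV 𝔛 hN.1 (fD hN (g t * g s)))
    (hd : ∀ s t u, (fun i => rA hN.1 (ftri_left hN g s t u) (d s t i) + rA hN.1 (ftri_mid hN g s t u) (d t u i) -
        rA hN.1 (ftri_out hN g s t u) (d s u i)) ∈
      Submodule.span (AV 𝔛 hN.1 (fD hN (g s * g t * g u)))
        (Set.range fun r i => rA hN.1 (fD_le hN (g s * g t * g u)) (Rr r i))) (n : ℕ) :
    ∃ b : ∀ t, ι → LV 𝔛 hN.1 n (fD hN (g t)), ∀ s t,
      (fun i => rL hN.1 (fD_mul_le_left hN (g t) (g s)) n (b t i) - rL hN.1 (fD_mul_le_right hN (g t) (g s)) n (b s i) -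
          prj 𝔛 hN.1 (fD hN (g t * g s)) n (d s t i)) ∈
        Submodule.span (LV 𝔛 hN.1 n (fD hN (g t * g s)))
          (Set.range fun r i => rL hN.1 (fD_le hN (g t * g s)) n (prj 𝔛 hN.1 V n (Rr r i))) := by
  obtain ⟨b, hb⟩ := exists_split_scheme (isAffineOpen_lvU hN hV n) (fun r i => prj 𝔛 hN.1 V n (Rr r i))
    (fun t => prj 𝔛 hN.1 V n (g t)) (span_prj_eq_top hN hV g hg n)
    (fun s t i => rO (lvU_fD_mul hN n (g t) (g s)).ge (prj 𝔛 hN.1 (fD hN (g t * g s)) n (d s t i))) fun s t u => by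
      have hle : (𝔛.X n).basicOpen (prj 𝔛 hN.1 V n (g s) * prj 𝔛 hN.1 V n (g t) * prj 𝔛 hN.1 V n (g u)) ≤
          𝔛.lvU hN.1 n (fD hN (g s * g t * g u)) := by
        rw [lvU_fD, map_mul, map_mul]
      have h1 := map_mem_span_rels ((rO hle).comp (prj 𝔛 hN.1 (fD hN (g s * g t * g u)) n)) _ (hd s t u)
      simp only [RingHom.comp_apply, map_sub, map_add, prj_rA] at h1
      exact mem_span_congr h1 (fun i => by rw [rO_rL' hN, rO_rL' hN, rO_rL' hN, rO_rO, rO_rO, rO_rO]) fun r i =>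
        (rO_rL' hN _ n hle _).symm
  refine ⟨fun t i => rO (lvU_fD hN n (g t)).le (b t i), fun s t => ?_⟩
  have h2 := map_mem_span_rels (rO (lvU_fD_mul hN n (g t) (g s)).le) _ (hb s t)
  refine mem_span_congr h2 (fun i => ?_) fun r i => ?_
  · simp only [map_sub, rL_eq hN, rO_rO]
    congr 1
    exact (congrArg (fun φ => φ.hom (prj 𝔛 hN.1 (fD hN (g t * g s)) n (d s t i)))
      ((𝔛.X n).presheaf.map_id (op (𝔛.lvU hN.1 n (fD hN (g t * g s)))))).symm
  · simp only [rL_eq hN, rO_rO]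

/-- The defect between consecutive level solutions is a cocycle of degree zero. -/
theorem glue_hyp {ι κ T : Type*} [Fintype ι] (Rr : κ → ι → AV 𝔛 hN.1 V) (g : T → AV 𝔛 hN.1 V)
    (d : ∀ s t, ι → AV 𝔛 hN.1 (fD hN (g t * g s))) (n : ℕ) (b : ∀ t, ι → LV 𝔛 hN.1 (n + 1) (fD hN (g t)))
    (D : ∀ t, ι → LV 𝔛 hN.1 n (fD hN (g t))) (s t : T)
    (h1 : (fun i => rL hN.1 (fD_mul_le_left hN (g t) (g s)) (n + 1) (b t i) -
        rL hN.1 (fD_mul_le_right hN (g t) (g s)) (n + 1) (b s i) - prj 𝔛 hN.1 (fD hN (g t * g s)) (n + 1) (d s t i)) ∈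
      Submodule.span (LV 𝔛 hN.1 (n + 1) (fD hN (g t * g s)))
        (Set.range fun r i => rL hN.1 (fD_le hN (g t * g s)) (n + 1) (prj 𝔛 hN.1 V (n + 1) (Rr r i))))
    (h2 : (fun i => rL hN.1 (fD_mul_le_left hN (g t) (g s)) n (D t i) -
        rL hN.1 (fD_mul_le_right hN (g t) (g s)) n (D s i) - prj 𝔛 hN.1 (fD hN (g t * g s)) n (d s t i)) ∈
      Submodule.span (LV 𝔛 hN.1 n (fD hN (g t * g s)))
        (Set.range fun r i => rL hN.1 (fD_le hN (g t * g s)) n (prj 𝔛 hN.1 V n (Rr r i)))) :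
    (fun i => rO (basicOpen_mul_le_left (prj 𝔛 hN.1 V n (g t)) (prj 𝔛 hN.1 V n (g s)))
          (rO (lvU_fD hN n (g t)).ge (tr 𝔛 hN.1 _ n (b t i) - D t i)) -
        rO (basicOpen_mul_le_right (prj 𝔛 hN.1 V n (g t)) (prj 𝔛 hN.1 V n (g s)))
          (rO (lvU_fD hN n (g s)).ge (tr 𝔛 hN.1 _ n (b s i) - D s i))) ∈
      Submodule.span Γ(𝔛.X n, (𝔛.X n).basicOpen (prj 𝔛 hN.1 V n (g t) * prj 𝔛 hN.1 V n (g s)))
        (Set.range fun r i => rD (prj 𝔛 hN.1 V n (g t) * prj 𝔛 hN.1 V n (g s)) (prj 𝔛 hN.1 V n (Rr r i))) := by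
  have h3 := map_mem_span_rels (tr 𝔛 hN.1 (fD hN (g t * g s)) n) _ h1
  simp only [map_sub, tr_prj, tr_rL hN, tr_rL_prj hN] at h3
  have h4 := map_mem_span_rels (rO (lvU_fD_mul hN n (g t) (g s)).ge) _ (Submodule.sub_mem _ h3 h2)
  refine mem_span_congr h4 (fun i => ?_) fun r i => ?_
  · simp only [Pi.sub_apply, map_sub, rL_eq hN, rO_rO]
    ring
  · simp only [rL_eq hN, rO_rO]

set_option maxHeartbeats 1000000 in
include hV in
/-- Splitting of cocycles of a finitely presented quotient of a free module on a formal scheme. -/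
theorem exists_split {ι κ T : Type*} [Fintype ι] [Fintype T] (Rr : κ → ι → AV 𝔛 hN.1 V)
    (g : T → AV 𝔛 hN.1 V) (hg : V ≤ ⨆ t, fD hN (g t)) (d : ∀ s t, ι → AV 𝔛 hN.1 (fD hN (g t * g s)))
    (hd : ∀ s t u, (fun i => rA hN.1 (ftri_left hN g s t u) (d s t i) + rA hN.1 (ftri_mid hN g s t u) (d t u i) -
        rA hN.1 (ftri_out hN g s t u) (d s u i)) ∈
      Submodule.span (AV 𝔛 hN.1 (fD hN (g s * g t * g u)))
        (Set.range fun r i => rA hN.1 (fD_le hN (g s * g t * g u)) (Rr r i))) :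
    ∃ c : ∀ t, ι → AV 𝔛 hN.1 (fD hN (g t)), ∀ s t,
      (fun i => rA hN.1 (fD_mul_le_left hN (g t) (g s)) (c t i) - rA hN.1 (fD_mul_le_right hN (g t) (g s)) (c s i) - d s t i) ∈
        Submodule.span (AV 𝔛 hN.1 (fD hN (g t * g s))) (Set.range fun r i => rA hN.1 (fD_le hN (g t * g s)) (Rr r i)) := by
  let P := fun (n : ℕ) (W : (𝔛.X 0).Opens) (i : W ≤ V) =>
    Submodule.span (LV 𝔛 hN.1 n W) (Set.range fun r j => rL hN.1 i n (prj 𝔛 hN.1 V n (Rr r j)))
  let Ok := fun (n : ℕ) (D : ∀ t, ι → AV 𝔛 hN.1 (fD hN (g t))) => ∀ s t,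
    (fun i => rL hN.1 (fD_mul_le_left hN (g t) (g s)) n (prj 𝔛 hN.1 (fD hN (g t)) n (D t i)) -
      rL hN.1 (fD_mul_le_right hN (g t) (g s)) n (prj 𝔛 hN.1 (fD hN (g s)) n (D s i)) -
      prj 𝔛 hN.1 (fD hN (g t * g s)) n (d s t i)) ∈ P n _ (fD_le hN (g t * g s))
  choose b hb using exists_split_level hN hV Rr g hg d hd
  have hstep : ∀ (n : ℕ) (D : ∀ t, ι → AV 𝔛 hN.1 (fD hN (g t))), Ok n D →
      ∃ D' : ∀ t, ι → AV 𝔛 hN.1 (fD hN (g t)), Ok (n + 1) D' ∧
        ∀ t i, prj 𝔛 hN.1 _ n (D' t i) = prj 𝔛 hN.1 _ n (D t i) := fun n D hD => by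
    obtain ⟨e, he⟩ := exists_glue_scheme (isAffineOpen_lvU hN hV n) (fun r i => prj 𝔛 hN.1 V n (Rr r i))
      (fun t => prj 𝔛 hN.1 V n (g t)) (span_prj_eq_top hN hV g hg n)
      (fun t i => rO (lvU_fD hN n (g t)).ge (tr 𝔛 hN.1 _ n (b (n + 1) t i) - prj 𝔛 hN.1 _ n (D t i))) fun s t => by
        exact glue_hyp hN Rr g d n (b (n + 1)) (fun t i => prj 𝔛 hN.1 _ n (D t i)) s t (hb (n + 1) s t) (hD s t)
    choose y hy using fun i => tr_surjective hN hV n (e i)
    choose x hx using fun t i => prj_surjective hN (isAffineOpen_fD hN hV (g t)) (n + 1)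
      (b (n + 1) t i - rL hN.1 (fD_le hN (g t)) (n + 1) (y i))
    have hp : ∀ t, ∃ p ∈ Submodule.span (AV 𝔛 hN.1 (fD hN (g t))) (Set.range fun r i => rA hN.1 (fD_le hN (g t)) (Rr r i)),
        ∀ i, prj 𝔛 hN.1 _ n (p i) = prj 𝔛 hN.1 _ n (x t i) - prj 𝔛 hN.1 _ n (D t i) := fun t => by
      refine map_span_exists _ (prj_surjective hN (isAffineOpen_fD hN hV (g t)) n) _ ?_
      have h1 := map_mem_span_rels (rO (lvU_fD hN n (g t)).le) _ (he t)
      refine mem_span_congr (Submodule.neg_mem _ h1) (fun i => ?_) fun r i => ?_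
      · rw [Pi.neg_apply, map_sub, rO_back, rO_fD_self, ← hy i, ← tr_rL hN, neg_sub, ← tr_prj 𝔛 hN.1 _ n (x t i), hx,
          map_sub]
        ring
      · rw [prj_rA, rO_back]
    choose p hp hp' using hp
    refine ⟨fun t i => x t i - p t i, fun s t => ?_, fun t i => by rw [map_sub, hp']; ring⟩
    have h1 := map_mem_span_rels (rL hN.1 (fD_mul_le_left hN (g t) (g s)) (n + 1)) _
      (map_mem_span_rels (prj 𝔛 hN.1 _ (n + 1)) _ (hp t))
    have h2 := map_mem_span_rels (rL hN.1 (fD_mul_le_right hN (g t) (g s)) (n + 1)) _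
      (map_mem_span_rels (prj 𝔛 hN.1 _ (n + 1)) _ (hp s))
    simp only [prj_rA, rL_eq hN, rO_rO] at h1 h2
    refine mem_span_congr (Submodule.add_mem _ (Submodule.sub_mem _ (hb (n + 1) s t) h1) h2) (fun i => ?_) fun r i => rfl
    simp only [Pi.add_apply, Pi.sub_apply, rL_eq hN, map_sub, hx, rO_rO]
    ring
  have h₀ : ∃ D₀, Ok 0 D₀ := by
    choose x hx using fun t i => prj_surjective hN (isAffineOpen_fD hN hV (g t)) 0 (b 0 t i)
    refine ⟨x, fun s t => ?_⟩
    simp only [hx]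
    exact hb 0 s t
  choose F hF₁ hF₂ using hstep
  obtain ⟨D₀, hD₀⟩ := h₀
  let D : ∀ n, {D : ∀ t, ι → AV 𝔛 hN.1 (fD hN (g t)) // Ok n D} :=
    fun n => Nat.rec ⟨D₀, hD₀⟩ (fun n q => ⟨F n q.1 q.2, hF₁ n q.1 q.2⟩) n
  choose c hc using fun t i => exists_lift 𝔛 hN.1 (fD hN (g t)) (fun n => prj 𝔛 hN.1 _ n ((D n).1 t i)) fun n => by
    rw [tr_prj]
    exact hF₂ n (D n).1 (D n).2 t i
  refine ⟨c, fun s t => mem_span_of_levels hN (isAffineOpen_fD hN hV (g t * g s)) _ _ fun n => ?_⟩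
  refine mem_span_congr ((D n).2 s t) (fun i => ?_) fun r i => prj_rA _ _ _ _
  simp only [map_sub, prj_rA, hc]

end Formal

end Groth.Agent.FormalModH7
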