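import Groth.Agent.Lib.FormalModH7.SectGen
import Groth.Agent.Lib.ModFlat16.LocFT

/-!
# Local generation implies generation over affine opens
-/

set_option autoImplicit false
set_option linter.style.haveILetI false
set_option backward.isDefEq.respectTransparency false
universe u

open AlgebraicGeometry CategoryTheory Opposite TopologicalSpace

namespace Groth.Agent.FormalModH7

variable {X : Scheme.{u}} {W : X.Opens} (hW : IsAffineOpen W)

include hW in
/-- Common denominators on a stalk. -/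
theorem exists_denom {x : X} (hx : x ∈ W) {σ : Type*} [Fintype σ] (f : σ → X.presheaf.stalk x) :
    ∃ (v : Γ(X, W)) (a : σ → Γ(X, W)), IsUnit (X.presheaf.germ W x hx v) ∧
      ∀ i, X.presheaf.germ W x hx (a i) = X.presheaf.germ W x hx v * f i := by
  classical
  letI : Algebra Γ(X, W) (X.presheaf.stalk x) := X.presheaf.algebra_section_stalk ⟨x, hx⟩
  haveI : IsLocalization.AtPrime (X.presheaf.stalk x) (hW.primeIdealOf ⟨x, hx⟩).asIdeal :=
    hW.isLocalization_stalk ⟨x, hx⟩
  obtain ⟨v, hv⟩ := IsLocalization.exist_integer_multiples (hW.primeIdealOf ⟨x, hx⟩).asIdeal.primeCompl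
    Finset.univ f
  choose a ha using fun i => hv i (Finset.mem_univ i)
  exact ⟨v, a, (M1.isUnit_germ_iff hW hx _).2 v.2, fun i => (ha i).trans (Algebra.smul_def _ _)⟩

include hW in
/-- Local generators generate over an affine open. -/
theorem span_of_gens (M : X.Modules) [Coh.IsQCoh M] {ι : Type u} [Fintype ι] (s : ι → Γ(M, W))
    (hs : ModFlat16.Gens (O := X.sheaf) (M := (M : ModSite.Mod X.sheaf)) W s) :
    Submodule.span Γ(X, W) (Set.range s) = ⊤ := by
  rw [eq_top_iff]
  rintro t -
  refine mem_of_locally hW _ t fun x hx => ?_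
  obtain ⟨S, hS, h⟩ := ModFlat16.gens_apply hs (𝟙 W) t
  obtain ⟨W', l, hl, hxW'⟩ := hS x hx
  obtain ⟨c, hc⟩ := h l hl
  obtain ⟨v, a, hv, ha⟩ := exists_denom hW hx fun i => X.presheaf.germ W' x hxW' (c i)
  have hres : ∀ m : Γ(M, W), M.presheaf.germ W' x hxW' (ModFlat16.smap (F := (M : ModSite.Mod X.sheaf)) l m) =
      M.presheaf.germ W x hx m := fun m => TopCat.Presheaf.germ_res_apply M.presheaf l x hxW' m
  obtain ⟨u, hu, hu0⟩ := M1.exists_smul_eq_zero_of_germ_eq_zero M hW hx (v • t - ∑ i, a i • s i) (by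
    rw [map_sub, map_sum, M1.germ_smul]
    simp only [M1.germ_smul, ha, mul_smul, ← Finset.smul_sum, ← smul_sub]
    have h1 := congrArg (M.presheaf.germ W' x hxW') hc
    rw [hres, map_sum] at h1
    have h2 : ∀ i, M.presheaf.germ W' x hxW' (c i • ModFlat16.smap (F := (M : ModSite.Mod X.sheaf)) (l ≫ 𝟙 W) (s i)) =
        X.presheaf.germ W' x hxW' (c i) • M.presheaf.germ W x hx (s i) := fun i =>
      (M1.germ_smul M hxW' (c i) _).trans (congrArg (_ • ·) (by rw [Category.comp_id]; exact hres _))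
    rw [h1, Finset.sum_congr rfl fun i _ => h2 i, sub_self, smul_zero])
  refine ⟨u * v, by rw [map_mul]; exact hu.mul hv, ?_⟩
  rw [smul_sub, sub_eq_zero, Finset.smul_sum] at hu0
  rw [mul_smul, hu0]
  exact Submodule.sum_mem _ fun i _ => Submodule.smul_mem _ _ (Submodule.smul_mem _ _ (Submodule.subset_span ⟨i, rfl⟩))

include hW in
/-- A vector of functions which is locally a combination of given ones is a combination. -/
theorem mem_span_of_locally {ι κ : Type*} [Fintype ι] [Fintype κ] (R : κ → ι → Γ(X, W)) (c : ι → Γ(X, W))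
    (h : ∀ x ∈ W, ∃ (W' : X.Opens) (e : W' ≤ W), x ∈ W' ∧
      ∃ d : κ → Γ(X, W'), ∀ i, rO e (c i) = ∑ r, d r * rO e (R r i)) :
    c ∈ Submodule.span Γ(X, W) (Set.range R) := by
  classical
  refine mem_of_locally hW _ c fun x hx => ?_
  obtain ⟨W', e, hxW', d, hd⟩ := h x hx
  obtain ⟨v, a, hv, ha⟩ := exists_denom hW hx fun r => X.presheaf.germ W' x hxW' (d r)
  letI : Algebra Γ(X, W) (X.presheaf.stalk x) := X.presheaf.algebra_section_stalk ⟨x, hx⟩
  haveI : IsLocalization.AtPrime (X.presheaf.stalk x) (hW.primeIdealOf ⟨x, hx⟩).asIdeal :=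
    hW.isLocalization_stalk ⟨x, hx⟩
  have hk : ∀ i, ∃ p : (hW.primeIdealOf ⟨x, hx⟩).asIdeal.primeCompl,
      p.1 * (v * c i) = p.1 * ∑ r, a r * R r i := fun i => by
    refine IsLocalization.exists_of_eq (S := X.presheaf.stalk x) ?_
    show X.presheaf.germ W x hx _ = X.presheaf.germ W x hx _
    have h1 := congrArg (X.presheaf.germ W' x hxW') (hd i)
    rw [germ_rO, map_sum] at h1
    simp only [map_mul, germ_rO] at h1
    rw [map_mul, map_sum, h1, Finset.mul_sum]
    exact Finset.sum_congr rfl fun r _ => by rw [map_mul, ha, mul_assoc]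
  choose p hp using hk
  have hp' : ∀ i, (∏ j, (p j).1) * (v * c i) = (∏ j, (p j).1) * ∑ r, a r * R r i := fun i => by
    rw [← Finset.prod_erase_mul Finset.univ (fun j => (p j).1) (Finset.mem_univ i), mul_assoc, mul_assoc, hp]
  refine ⟨(∏ j, (p j).1) * v, ?_, ?_⟩
  · rw [map_mul, map_prod]
    exact (IsUnit.prod_iff.2 fun j _ => (M1.isUnit_germ_iff hW hx _).2 (p j).2).mul hv
  · have e1 : ((∏ j, (p j).1) * v) • c = (∏ j, (p j).1) • ∑ r, a r • R r := funext fun i => by
      simp only [Pi.smul_apply, smul_eq_mul, Finset.sum_apply]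
      rw [mul_assoc, hp']
    rw [e1]
    exact Submodule.smul_mem _ _ (Submodule.sum_mem _ fun r _ => Submodule.smul_mem _ _ (Submodule.subset_span ⟨r, rfl⟩))

end Groth.Agent.FormalModH7
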