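import Groth.Agent.Lib.ModFlat16.PullRestr
import Groth.Agent.Lib.ModFlat16.LocFT

/-!
# Generators and relations of inverse images, on elements
-/

set_option autoImplicit false
set_option linter.style.haveILetI false
set_option linter.unusedSectionVars false
set_option backward.isDefEq.respectTransparency false
set_option backward.isDefEq.respectTransparency.types false

universe u

open CategoryTheory CategoryTheory.Limits Opposite

noncomputable section

namespace Groth.Agent.FormalModH7

open ModFlat16 Groth.Agent.KFlat.Site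

section Generic

theorem comb_zero {R N ι κ : Type*} [CommRing R] [AddCommGroup N] [Module R N] [Fintype ι] [Fintype κ] (d : κ → R)
    (b : κ → ι → R) (t : ι → N) (h : ∀ r, ∑ i, b r i • t i = 0) : ∑ i, (∑ r, d r * b r i) • t i = 0 := by
  simp only [Finset.sum_smul, mul_smul]
  rw [Finset.sum_comm]
  exact Finset.sum_eq_zero fun r _ => by rw [← Finset.smul_sum, h r, smul_zero]

variable {C : Type u} [SmallCategory C] {J : GrothendieckTopology C} {O : Sheaf J CommRingCat.{u}}

/-- Generators and relations are transported by isomorphisms. -/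
theorem gens_iso {M N : ModSite.Mod O} (e : M ≅ N) {U : C} {ι : Type u} [Fintype ι] {s : ι → ModSite.sect M U}
    (hs : Gens M U s) : Gens N U fun i => e.hom.val.app (op U) (s i) := by
  refine gens_mk _ fun {V} k x => ?_
  obtain ⟨S, hS, h⟩ := gens_apply hs k (e.inv.val.app (op V) x)
  refine ⟨S, hS, fun W l hl => ?_⟩
  obtain ⟨c, hc⟩ := h l hl
  refine ⟨c, ?_⟩
  have h2 := congrArg (e.hom.val.app (op W)) hc
  rw [app_comb] at h2
  simp only [app_smap] at h2
  rw [← h2]
  exact (congrArg (fun q : N ⟶ N => smap N l (q.val.app (op V) x)) e.inv_hom_id).symm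

theorem rels_iso {M N : ModSite.Mod O} (e : M ≅ N) {U : C} {ι κ : Type u} [Fintype ι] [Fintype κ]
    {s : ι → ModSite.sect M U} {R : κ → ι → O.obj.obj (op U)} (h : Rels M U s R) :
    Rels N U (fun i => e.hom.val.app (op U) (s i)) R := by
  refine rels_mk _ _ (fun r => ?_) fun {V} k c hc => rels_apply h k c ?_
  · rw [← app_comb, h.1 r, map_zero]
  · apply sections_injective' e.hom V
    rw [map_zero, app_comb]
    simpa only [app_smap] using hc

/-- A quotient of a finite free module over a slice by given relations. -/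
theorem exists_cokernel_data {U : C} {ι κ : Type u} [Fintype ι] [Fintype κ]
    (R : κ → ι → (O.over U).obj.obj (op (Over.mk (𝟙 U)))) :
    ∃ (N : ModSite.Mod (O.over U)) (e : ι → ModSite.sect N (Over.mk (𝟙 U))), TRels e R := by
  classical
  let ρ := freeTo (N := SheafOfModules.free (R := ModSite.ringSh (O.over U)) ι)
    (fun r => freeElt (A := Over.mk (𝟙 U)) (R r))
  refine ⟨cokernel ρ, fun i => topVal (fι i ≫ cokernel.π ρ), fun r => ?_, fun A c hc => ?_⟩
  · have h1 : ∀ i, top (cokernel ρ) (Over.mk (𝟙 U)) (topVal (fι i ≫ cokernel.π ρ)) =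
        topVal (fι i ≫ cokernel.π ρ) := fun i => top_self _
    have h2 := app_freeElt (cokernel.π ρ) (A := Over.mk (𝟙 U)) (R r)
    simp only [h1] at h2
    rw [← h2]
    have h3 : (fι r ≫ ρ) ≫ cokernel.π ρ = 0 := by rw [Category.assoc, cokernel.condition, comp_zero]
    have h4 : topVal (fι r ≫ ρ) = freeElt (A := Over.mk (𝟙 U)) (R r) := topVal_ιFree_freeTo _ r
    rw [← h4]
    exact congrArg topVal h3
  · have h0 : (cokernel.π ρ).val.app (op A) (freeElt c) = 0 := (app_freeElt (cokernel.π ρ) c).trans hc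
    obtain ⟨y, hy⟩ := exists_kernel_section (cokernel.π ρ) (freeElt c) h0
    haveI : Epi (kernel.lift (cokernel.π ρ) ρ (cokernel.condition ρ)) :=
      (ShortComplex.exact_cokernel ρ).epi_kernelLift
    obtain ⟨S, hS, h⟩ := exists_local_preimage_over (kernel.lift (cokernel.π ρ) ρ (cokernel.condition ρ)) y
    refine ⟨S, hS, fun A' a ha => ?_⟩
    obtain ⟨z, hz⟩ := h a ha
    refine ⟨coord z, fun i => ?_⟩
    have h1 : ρ.val.app (op A') z = smap _ a (freeElt c) := by
      rw [← hy]
      refine Eq.trans ?_ ((congrArg ((kernel.ι (cokernel.π ρ)).val.app (op A')) hz).trans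
        (PresheafOfModules.naturality_apply (kernel.ι (cokernel.π ρ)).val a.op y))
      exact (congrArg (fun q => q.val.app (op A') z) (kernel.lift_ι (cokernel.π ρ) ρ (cokernel.condition ρ))).symm
    have h2 : ρ.val.app (op A') z = ∑ r, coord z r • top _ A' (freeElt (A := Over.mk (𝟙 U)) (R r)) := by
      conv_lhs => rw [← freeElt_coord z]
      refine (app_freeElt ρ (coord z)).trans (Finset.sum_congr rfl fun r _ => ?_)
      rw [topVal_ιFree_freeTo]
    have hn : ∀ {B B' : Over U} (b : B' ⟶ B)
        (w : ModSite.sect (SheafOfModules.free (R := ModSite.ringSh (O.over U)) ι) B),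
        coord (smap _ b w) i = rmap (O.over U) b (coord w i) := fun b w =>
      PresheafOfModules.naturality_apply (proj (O := O) (U := U) i).val b.op w
    have h3 := congrArg (fun w => coord w i) (h1.symm.trans h2)
    simp only [hn, coord_freeElt, coord_sum_smul] at h3
    exact h3

end Generic

variable {C D : Type u} [SmallCategory C] [SmallCategory D] {J : GrothendieckTopology C}
  {K : GrothendieckTopology D} {O_C : Sheaf J CommRingCat.{u}} {O_D : Sheaf K CommRingCat.{u}}
  (f : ModSite.RMor O_C O_D) {M : ModSite.Mod O_D}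

/-- The presented model of the inverse image. -/
abbrev PM (M : ModSite.Mod O_D) : ModSite.Mod O_C := (ModSite.shPre O_C).obj (preQ f M)

/-- The unit on sections. -/
abbrev etaP {V : D} (m : ModSite.sect M V) : ModSite.sect (PM f M) (f.fn.obj V) := cls f M (𝟙 _) m

theorem cls_eq_smap {U : C} {V : D} (u : U ⟶ f.fn.obj V) (m : ModSite.sect M V) :
    cls f M u m = smap (PM f M) u (etaP f m) := by
  rw [map_cls, Category.comp_id]

theorem etaP_comb {V : D} {ι : Type u} [Fintype ι] (c : ι → O_D.obj.obj (op V)) (x : ι → ModSite.sect M V) :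
    etaP f (∑ i, c i • x i) = ∑ i, shp f V (c i) • etaP f (x i) :=
  (map_sum ((toPush f M).val.app (op V)).hom _ _).trans
    (Finset.sum_congr rfl fun i _ => ((toPush f M).val.app (op V)).hom.map_smul (c i) (x i))

theorem etaP_res {V V' : D} (g : V' ⟶ V) (m : ModSite.sect M V) :
    etaP f (smap M g m) = smap (PM f M) (f.fn.map g) (etaP f m) := by
  rw [etaP, cls_res, Category.id_comp, cls_eq_smap]

section

variable {U : D} {ι : Type u} [Fintype ι] (s : ι → ModSite.sect M U)

/-- Locally a combination of the units of the given sections. -/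
def LocC {W : C} (k : W ⟶ f.fn.obj U) (x : ModSite.sect (PM f M) W) : Prop :=
  ∃ T ∈ J W, ∀ ⦃W' : C⦄ (l : W' ⟶ W), T l →
    ∃ c : ι → O_C.obj.obj (op W'), smap (PM f M) l x = ∑ i, c i • smap (PM f M) (l ≫ k) (etaP f (s i))

variable {f s}

theorem LocC.zero {W : C} (k : W ⟶ f.fn.obj U) : LocC f s k (0 : ModSite.sect (PM f M) W) :=
  ⟨⊤, J.top_mem _, fun W' l _ => ⟨0, by rw [map_zero]; simp⟩⟩

theorem LocC.add {W : C} {k : W ⟶ f.fn.obj U} {x y : ModSite.sect (PM f M) W} (hx : LocC f s k x)
    (hy : LocC f s k y) : LocC f s k (x + y) := by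
  obtain ⟨S, hS, hx⟩ := hx
  obtain ⟨T, hT, hy⟩ := hy
  refine ⟨S ⊓ T, J.intersection_covering hS hT, fun W' l hl => ?_⟩
  obtain ⟨c, hc⟩ := hx l hl.1
  obtain ⟨d, hd⟩ := hy l hl.2
  exact ⟨fun i => c i + d i, by simp only [map_add, hc, hd, add_smul, Finset.sum_add_distrib]⟩

theorem LocC.smul {W : C} {k : W ⟶ f.fn.obj U} {x : ModSite.sect (PM f M) W} (r : O_C.obj.obj (op W))
    (hx : LocC f s k x) : LocC f s k (r • x) := by
  obtain ⟨S, hS, hx⟩ := hx
  refine ⟨S, hS, fun W' l hl => ?_⟩
  obtain ⟨c, hc⟩ := hx l hl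
  exact ⟨fun i => rmap O_C l r * c i, by rw [smap_smul, hc, Finset.smul_sum]; simp only [mul_smul]⟩

theorem LocC.sym (hs : Gens M U s) {W : C} (k : W ⟶ f.fn.obj U) {V : D} (u : W ⟶ f.fn.obj V)
    (m : ModSite.sect M V) : LocC f s k (cls f M u m) := by
  obtain ⟨S₁, hS₁, h₁⟩ := locally_span f k u
  refine bind_cover S₁ hS₁ fun W₁ l hl => ?_
  obtain ⟨V', g₁, g₂, w, hw₁, hw₂⟩ := h₁ l hl
  obtain ⟨S₂, hS₂, h₂⟩ := gens_apply hs g₁ (smap M g₂ m)
  obtain ⟨T, hT, h₃⟩ := locally_lift f w S₂ hS₂
  refine ⟨T, hT, fun W₂ l' hl' => ?_⟩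
  obtain ⟨V'', g, w', hg, hw'⟩ := h₃ l' hl'
  obtain ⟨c, hc⟩ := h₂ g hg
  refine ⟨fun i => rmap O_C w' (shp f V'' (c i)), ?_⟩
  have e1 : smap (PM f M) (l' ≫ l) (cls f M u m) = smap (PM f M) w' (etaP f (smap M g (smap M g₂ m))) := by
    rw [map_cls, ← cls_eq_smap, cls_res, cls_res]
    exact congrArg (fun z => cls f M z m) (by rw [hw', Category.assoc, Category.assoc, hw₂])
  rw [e1, hc, etaP_comb, smap_comb]
  refine Finset.sum_congr rfl fun i _ => congrArg (rmap O_C w' (shp f V'' (c i)) • ·) ?_
  rw [etaP_res, ← smap_comp]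
  exact congrArg (fun z => smap (PM f M) z (etaP f (s i)))
    (by rw [Functor.map_comp, reassoc_of% hw', hw₁, Category.assoc])

theorem LocC.locally {W : C} {k : W ⟶ f.fn.obj U} {x : ModSite.sect (PM f M) W} (S : Sieve W) (hS : S ∈ J W)
    (h : ∀ ⦃W' : C⦄ (l : W' ⟶ W), S l → LocC f s (l ≫ k) (smap (PM f M) l x)) : LocC f s k x := by
  refine bind_cover S hS fun W₁ l hl => ?_
  obtain ⟨T, hT, h'⟩ := h l hl
  refine ⟨T, hT, fun W₂ l' hl' => ?_⟩
  obtain ⟨c, hc⟩ := h' l' hl'
  exact ⟨c, by rw [smap_comp, hc, Category.assoc]⟩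

/-- The units of generators generate the inverse image. -/
theorem gens_pull (hs : Gens M U s) : Gens (PM f M) (f.fn.obj U) fun i => etaP f (s i) := by
  refine gens_mk _ fun {W} k x => ?_
  have hη := (J.W_iff_isLocallyBijective _).1 (W_unit O_C (preQ f M))
  haveI := hη.2
  refine LocC.locally (Presheaf.imageSieve ((PresheafOfModules.toPresheaf _).map ((adj O_C).unit.app (preQ f M)))
    (U := W) x) (Presheaf.imageSieve_mem J ((PresheafOfModules.toPresheaf _).map ((adj O_C).unit.app (preQ f M))) (U := op W) x)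
    fun W' l hl => ?_
  obtain ⟨z, hz⟩ := hl
  obtain ⟨w, rfl⟩ := preQπ_surjective f M (op W') z
  have hz' : ((adj O_C).unit.app (preQ f M)).app (op W') ((preQπ f M).app (op W') w) = smap (PM f M) l x := hz
  rw [← hz']
  clear hz hz'
  induction w using Finsupp.induction_linear with
  | zero => rw [map_zero, map_zero]; exact LocC.zero _
  | add a b ha hb => rw [map_add, map_add]; exact ha.add hb
  | single t r =>
    obtain ⟨V, u, m⟩ := t
    have e : (Finsupp.single (⟨V, u, m⟩ : (SymT f M).obj (op W')) r : (preP f M).obj (op W')) =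
        (r : (ringPre O_C).obj (op W')) • gen u m := (Finsupp.smul_single_one _ r).symm
    rw [e, map_smul, map_smul]
    exact (LocC.sym hs (l ≫ k) u m).smul r

variable {κ : Type u} [Fintype κ] {R : κ → ι → O_D.obj.obj (op U)}

/-- The images of relations generate the relations of the inverse image. -/
theorem rels_pull (hs : Gens M U s) (hR : Rels M U s R) :
    Rels (PM f M) (f.fn.obj U) (fun i => etaP f (s i)) fun r i => shp f U (R r i) := by
  classical
  refine rels_mk _ _ (fun r => ?_) fun {W} k c hc => ?_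
  · rw [← etaP_comb, hR.1 r]
    exact map_zero ((toPush f M).val.app (op U)).hom
  obtain ⟨N, e, he⟩ := exists_cokernel_data (U := f.fn.obj U)
    (fun r i => (shp f U (R r i) : (O_C.over (f.fn.obj U)).obj.obj (op (Over.mk (𝟙 (f.fn.obj U))))))
  let T₀ : Over U := Over.mk (𝟙 U)
  let PT : Over (f.fn.obj U) := (Over.post f.fn).obj T₀
  let π : SheafOfModules.free (R := ModSite.ringSh (O_D.over U)) ι ⟶ (pushV f U).obj N :=
    freeTo fun i => (top N PT (e i) : ModSite.sect ((pushV f U).obj N) T₀)
  let p : SheafOfModules.free (R := ModSite.ringSh (O_D.over U)) ι ⟶ (ModSite.restr O_D U).obj M :=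
    freeTo (N := (ModSite.restr O_D U).obj M) s
  haveI : Epi p := epi_freeTo hs
  have htopM : ∀ (Y : Over U) (i : ι),
      top ((ModSite.restr O_D U).obj M) Y (s i) = smap M Y.hom (s i) := fun Y i => rfl
  have hk : kernel.ι p ≫ π = 0 := by
    apply SheafOfModules.hom_ext
    refine PresheafOfModules.hom_ext fun Y => ?_
    obtain ⟨Y, rfl⟩ : ∃ B, op B = Y := ⟨Y.unop, rfl⟩
    refine ModuleCat.hom_ext (LinearMap.ext fun y => ?_)
    show π.val.app (op Y) ((kernel.ι p).val.app (op Y) y) = 0
    have h0 : p.val.app (op Y) ((kernel.ι p).val.app (op Y) y) = 0 :=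
      congrArg (fun q => q.val.app (op Y) y) (kernel.condition p)
    generalize (kernel.ι p).val.app (op Y) y = z at h0 ⊢
    rw [← freeElt_coord (ι := ι) z] at h0 ⊢
    erw [app_freeElt] at h0 ⊢
    simp only [p, π, topVal_ιFree_freeTo] at h0 ⊢
    obtain ⟨S, hS, h⟩ := rels_apply hR Y.hom (coord z) h0
    refine sheaf_ext ((sheafCompose _ (forget AddCommGrpCat.{u})).obj (ModSite.toAb ((pushV f U).obj N))) S hS
      fun {Y'} a ha => ?_
    show smap ((pushV f U).obj N) a _ = smap ((pushV f U).obj N) a 0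
    rw [map_zero, map_sum]
    obtain ⟨d, hd⟩ := h a.left ha
    let RR := (O_C.over (f.fn.obj U)).obj.obj (op ((Over.post f.fn).obj Y'))
    let dd : κ → RR := fun r => shp f Y'.left (d r)
    let bb : κ → ι → RR := fun r i => rmap O_C (f.fn.map Y'.hom) (shp f U (R r i))
    have h2 : ∀ i, smap ((pushV f U).obj N) a (coord z i • top ((pushV f U).obj N) Y (top N PT (e i) : ModSite.sect ((pushV f U).obj N) T₀)) =
        ((∑ r, dd r * bb r i) • top N ((Over.post f.fn).obj Y') (e i) : ModSite.sect N ((Over.post f.fn).obj Y')) := fun i => by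
      refine (smap_smul (F := (pushV f U).obj N) a _ _).trans ?_
      rw [smap_top]
      have hsc : (shp f Y'.left (rmap O_D a.left (coord z i)) : RR) = ∑ r, dd r * bb r i := by
        show shp f Y'.left (rmap O_D a.left (coord z i)) = _
        rw [hd i, map_sum]
        refine Finset.sum_congr rfl fun r _ => ?_
        refine (map_mul _ _ _).trans (congrArg (fun q => shp f Y'.left (d r) * q) ?_)
        exact (congrArg (fun q => shp f Y'.left (rmap O_D q (R r i))) (Over.w a)).trans (shp_rmap f Y'.hom _)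
      rw [← hsc]
      exact congrArg (fun w : ModSite.sect N ((Over.post f.fn).obj Y') =>
        (shp f Y'.left (rmap O_D a.left (coord z i)) : RR) • w) (smap_top (N := N) PT _ _ (e i))
    rw [Finset.sum_congr rfl fun i _ => h2 i]
    refine comb_zero (N := ModSite.sect N ((Over.post f.fn).obj Y')) dd bb
      (fun i => top N ((Over.post f.fn).obj Y') (e i)) fun r => ?_
    have h3 := congrArg (top N ((Over.post f.fn).obj Y')) (he.1 r)
    rw [map_zero, map_sum] at h3
    exact (Finset.sum_congr rfl fun i _ => (smap_smul (F := N) _ _ _).symm).trans h3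
  let φ : (ModSite.restr O_D U).obj M ⟶ (pushV f U).obj N :=
    (Abelian.epiIsCokernelOfKernel _ (limit.isLimit (parallelPair p 0))).desc (CokernelCofork.ofπ π hk)
  have hφ : p ≫ φ = π :=
    (Abelian.epiIsCokernelOfKernel _ (limit.isLimit (parallelPair p 0))).fac (CokernelCofork.ofπ π hk)
      WalkingParallelPair.one
  obtain ⟨α, hα⟩ := (bijective_toPushV f U M N).2 φ
  have hval : ∀ i, α.val.app (op PT) (etaP f (s i)) = top N PT (e i) := fun i => by
    have h1 : φ.val.app (op T₀) (s i) = top N PT (e i) := by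
      have h2 : topVal (fι i ≫ p ≫ φ) = topVal (fι i ≫ π) := by rw [hφ]
      have h3 : topVal (fι i ≫ π) = (top N PT (e i) : ModSite.sect ((pushV f U).obj N) T₀) :=
        topVal_ιFree_freeTo _ i
      have h4 : topVal (fι i ≫ p) = s i := topVal_ιFree_freeTo (N := (ModSite.restr O_D U).obj M) s i
      rw [← h3, ← h2]
      show φ.val.app (op T₀) (s i) = φ.val.app (op T₀) (topVal (fι i ≫ p))
      rw [h4]
    rw [← h1, ← hα]
    rfl
  let A : Over (f.fn.obj U) := Over.mk k
  have hkey : ∑ i, c i • top N A (e i) = 0 := by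
    have h0 := congrArg (α.val.app (op A)) hc
    rw [map_zero] at h0
    refine Eq.trans ?_ h0
    refine Eq.trans ?_ (map_sum (α.val.app (op A)).hom _ _).symm
    refine Finset.sum_congr rfl fun i _ => ?_
    refine Eq.trans ?_ ((α.val.app (op A)).hom.map_smul (c i) _).symm
    refine congrArg (c i • ·) ?_
    let a : A ⟶ PT := Over.homMk k (by
      show k ≫ f.fn.map (𝟙 U) = k
      rw [f.fn.map_id, Category.comp_id])
    refine Eq.trans ?_ (PresheafOfModules.naturality_apply α.val a.op (etaP f (s i))).symm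
    refine Eq.trans ?_ (congrArg (smap N a) (hval i)).symm
    exact (smap_top PT A a (e i)).symm
  obtain ⟨S, hS, h⟩ := he.2 A c hkey
  refine ⟨S, hS, fun W' l hl => ?_⟩
  obtain ⟨d, hd⟩ := h (Over.homMk l : Over.mk (l ≫ k) ⟶ A) hl
  exact ⟨d, hd⟩

end

section Pull

variable {U : D} {ι κ : Type u} [Fintype ι] [Fintype κ] {s : ι → ModSite.sect M U}
  {R : κ → ι → O_D.obj.obj (op U)}

theorem inv_etaP {V : D} (m : ModSite.sect M V) :
    (pullPresIso f M).inv.val.app (op (f.fn.obj V)) (etaP f m) = (f.adj.unit.app M).val.app (op V) m := by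
  show (descSh (f.adj.unit.app M)).val.app (op (f.fn.obj V)) (cls f M (𝟙 _) m) = _
  exact (descSh_cls _ _ _).trans (smap_id (F := f.pull.obj M) _)

/-- Generators of the inverse image. -/
theorem gens_pullback (hs : Gens M U s) :
    Gens (f.pull.obj M) (f.fn.obj U) fun i => (f.adj.unit.app M).val.app (op U) (s i) := by
  have := gens_iso (pullPresIso f M).symm (gens_pull (f := f) hs)
  simpa only [Iso.symm_hom, inv_etaP] using this

/-- Relations of the inverse image. -/
theorem rels_pullback (hs : Gens M U s) (hR : Rels M U s R) :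
    Rels (f.pull.obj M) (f.fn.obj U) (fun i => (f.adj.unit.app M).val.app (op U) (s i))
      fun r i => shp f U (R r i) := by
  have := rels_iso (pullPresIso f M).symm (rels_pull (f := f) hs hR)
  simpa only [Iso.symm_hom, inv_etaP] using this

end Pull

end Groth.Agent.FormalModH7
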