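import Groth.Agent.Lib.FormalModH7.Gens
import Groth.Agent.Lib.FormalModH7.IsoPres
import Groth.Agent.Lib.FormalModH7.PullElts

/-!
# The module of a coherent system pulls back to the levels
-/

set_option autoImplicit false
set_option linter.style.haveILetI false
set_option backward.isDefEq.respectTransparency false
set_option backward.isDefEq.respectTransparency.types false
universe u

open CategoryTheory CategoryTheory.Limits AlgebraicGeometry Opposite TopologicalSpace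

namespace Groth.Agent.FormalModH7

variable {𝔛 : FSch.Sys.{u}} (h : 𝔛.IsFormal) (k : ℕ)

/-- The open of the common space below an open of a level. -/
noncomputable abbrev lvInv (W : (𝔛.X k).Opens) : (𝔛.X 0).Opens := (Opens.map (𝔛.toX k).base).obj W

theorem lvU_lvInv (W : (𝔛.X k).Opens) : 𝔛.lvU h k (lvInv k W) = W := by
  show (Opens.map (𝔛.gInv h k ≫ (𝔛.toX k).base)).obj W = W
  rw [FSch.Sys.gInv_toX_base]
  rfl

/-- The arrows factoring through an affine open of the common space. -/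
noncomputable def lvSieve (W : (𝔛.X k).Opens) : Sieve W where
  arrows W' _ := ∃ U : (𝔛.X 0).Opens, IsAffineOpen U ∧ W' ≤ 𝔛.lvU h k U ∧ 𝔛.lvU h k U ≤ W
  downward_closed := by
    rintro W₁ W₂ f ⟨U, h1, h2, h3⟩ g
    exact ⟨U, h1, g.le.trans h2, h3⟩

theorem lvSieve_mem (W : (𝔛.X k).Opens) : lvSieve h k W ∈ Opens.grothendieckTopology (𝔛.X k) W := fun y hy => by
  have hy' : (𝔛.gInv h k).hom y ∈ lvInv k W := by
    show y ∈ 𝔛.lvU h k (lvInv k W)
    rw [lvU_lvInv]; exact hy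
  obtain ⟨U, hU, hyU, hUW⟩ := exists_isAffineOpen_mem_and_subset (U := lvInv k W) hy'
  have hle : 𝔛.lvU h k U ≤ W := (lvU_mono h hUW k).trans (lvU_lvInv h k W).le
  exact ⟨𝔛.lvU h k U, homOfLE hle, ⟨U, hU, le_rfl, hle⟩, hyU⟩

variable {h k}

theorem le_of_lvU_le {U V : (𝔛.X 0).Opens} (e : 𝔛.lvU h k U ≤ 𝔛.lvU h k V) : U ≤ V := by
  intro x hx
  have h1 : 𝔛.toX k ⁻¹ᵁ 𝔛.lvU h k U ≤ 𝔛.toX k ⁻¹ᵁ 𝔛.lvU h k V := (𝔛.toX k).preimage_mono e
  rw [toX_preimage_lvU, toX_preimage_lvU] at h1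
  exact h1 hx

variable (𝔐 : FSch.ModSys 𝔛) (hN : 𝔛.IsLocNoethFormal) (hM : 𝔐.IsCoh) {U : (𝔛.X 0).Opens}

/-- A level of a system as a module on the site of the level. -/
abbrev FL (k : ℕ) : ModSite.Mod (𝔛.X k).sheaf := 𝔐.F k

include hM in
/-- Generators and relations of the levels, on the site. -/
theorem gens_level (hU : IsAffineOpen U) {ι : Type u} [Fintype ι] (s : ι → RSec hN.1 𝔐 U)
    (hs : Submodule.span (AV 𝔛 hN.1 U) (Set.range s) = ⊤) :
    ModFlat16.Gens (FL 𝔐 k) (𝔛.lvU hN.1 k U) fun i => piM hN.1 𝔐 U k (s i) := by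
  refine ModFlat16.gens_mk _ fun {W} e x => ⟨lvSieve hN.1 k W, lvSieve_mem hN.1 k W, fun W' l hl => ?_⟩
  obtain ⟨U', hU', h1, h2⟩ := hl
  have hle : U' ≤ U := le_of_lvU_le (h2.trans e.le)
  haveI : Coh.IsQCoh (𝔐.F k) := (hM k).1
  have h3 := span_mres (𝔐.F k) (isAffineOpen_lvU hN hU k) (isAffineOpen_lvU hN hU' k) (lvU_mono hN.1 hle k) _
    (span_piM 𝔐 hN hM hU s hs k)
  obtain ⟨c, hc⟩ := (Submodule.mem_span_range_iff_exists_fun (LV 𝔛 hN.1 k U')).1
    (h3 ▸ (Submodule.mem_top (x := M1.mres (𝔐.F k) h2 x)))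
  refine ⟨fun i => ModFlat16.rmap (𝔛.X k).sheaf (homOfLE h1) (c i), ?_⟩
  have h4 := congrArg (ModFlat16.smap (FL 𝔐 k) (homOfLE h1)) hc.symm
  have e1 : ModFlat16.smap (FL 𝔐 k) l x = ModFlat16.smap (FL 𝔐 k) (homOfLE h1) (M1.mres (𝔐.F k) h2 x) :=
    ModFlat16.smap_comp (F := FL 𝔐 k) (homOfLE h2) (homOfLE h1) x
  rw [e1, h4]
  refine (ModFlat16.smap_comb (M := FL 𝔐 k) (homOfLE h1) c _).trans (Finset.sum_congr rfl fun i _ =>
    congrArg (ModFlat16.rmap (𝔛.X k).sheaf (homOfLE h1) (c i) • ·) ?_)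
  exact (ModFlat16.smap_comp (F := FL 𝔐 k) (homOfLE (lvU_mono hN.1 hle k)) (homOfLE h1) _).symm

include hM in
theorem exists_pres (hU : IsAffineOpen U) :
    ∃ (ι κ : Type u) (_ : Fintype ι) (_ : Fintype κ) (s : ι → RSec hN.1 𝔐 U) (R : κ → ι → AV 𝔛 hN.1 U),
      Submodule.span (AV 𝔛 hN.1 U) (Set.range s) = ⊤ ∧ (∀ r, ∑ i, R r i • s i = 0) ∧
      ∀ a : ι → AV 𝔛 hN.1 U, ∑ i, a i • s i = 0 → a ∈ Submodule.span (AV 𝔛 hN.1 U) (Set.range R) := by
  classical
  haveI := (structure_AV hN hU).1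
  haveI := finite_RSec 𝔐 hN hM hU
  obtain ⟨S, hS⟩ := (Module.Finite.fg_top (R := AV 𝔛 hN.1 U) (M := RSec hN.1 𝔐 U))
  let φ := Fintype.linearCombination (AV 𝔛 hN.1 U) (fun x : S => (x : RSec hN.1 𝔐 U))
  obtain ⟨T, hT⟩ := (IsNoetherian.noetherian (LinearMap.ker φ) : (LinearMap.ker φ).FG)
  refine ⟨S, T, inferInstance, inferInstance, fun x => x, fun r => r.1, ?_, fun r => ?_, fun a ha => ?_⟩
  · rw [Subtype.range_coe_subtype]; exact hS
  · have : r.1 ∈ LinearMap.ker φ := hT ▸ Submodule.subset_span r.2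
    rwa [LinearMap.mem_ker, Fintype.linearCombination_apply] at this
  · have : a ∈ LinearMap.ker φ := by rwa [LinearMap.mem_ker, Fintype.linearCombination_apply]
    rw [← hT] at this
    rwa [Subtype.range_coe_subtype]

/-- The comparison map from the inverse image to the level. -/
noncomputable abbrev pullTo (k : ℕ) :
    (FSch.levelMor 𝔛 hN.1 k).pull.obj (𝔐.realMod hN.1) ⟶ 𝔐.F k :=
  ((FSch.levelMor 𝔛 hN.1 k).adj.homEquiv _ _).symm (FSch.realProj 𝔛 hN.1 𝔐.F 𝔐.toPush k)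

theorem pullTo_unit (V : (𝔛.X 0).Opens) (x : RSec hN.1 𝔐 V) :
    (pullTo 𝔐 hN k).val.app (op (𝔛.lvU hN.1 k V))
      (((FSch.levelMor 𝔛 hN.1 k).adj.unit.app (𝔐.realMod hN.1)).val.app (op V) x) = piM hN.1 𝔐 V k x := by
  have h1 := ((FSch.levelMor 𝔛 hN.1 k).adj.homEquiv _ _).apply_symm_apply (FSch.realProj 𝔛 hN.1 𝔐.F 𝔐.toPush k)
  rw [Adjunction.homEquiv_unit] at h1
  exact congrArg (fun q => q.val.app (op V) x) h1

include hM in
/-- The inverse image of the module of a coherent system is the level. -/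
theorem isIso_pullTo : IsIso (pullTo 𝔐 hN k) := by
  refine isIso_of_pres (O := (𝔛.X k).sheaf) (pullTo 𝔐 hN k) fun W => ⟨lvSieve hN.1 k W, lvSieve_mem hN.1 k W, fun W' l hl => ?_⟩
  obtain ⟨U, hU, h1, -⟩ := hl
  obtain ⟨ι, κ, hι, hκ, s, R, hs, hR0, hR⟩ := exists_pres 𝔐 hN hM hU
  let f := FSch.levelMor 𝔛 hN.1 k
  have hsG : ModFlat16.Gens (𝔐.realMod hN.1) U s := by
    refine ModFlat16.gens_mk _ fun {W'} e x => ⟨affSieve W', affSieve_mem W', fun W'' l' hl' => ?_⟩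
    obtain ⟨U', hU', hl1, hl2⟩ := hl'
    have hle : U' ≤ U := hl2.trans e.le
    obtain ⟨c, hc⟩ := (Submodule.mem_span_range_iff_exists_fun (AV 𝔛 hN.1 U')).1
      (span_rS 𝔐 hN hM hU hU' hle s hs ▸ (Submodule.mem_top (x := rS hN.1 𝔐 hl2 x)))
    refine ⟨fun j => rA hN.1 hl1 (c j), ?_⟩
    have h2 := congrArg (rS hN.1 𝔐 hl1) hc.symm
    rw [rS_sum, rS_comp] at h2
    exact Eq.trans h2 (Finset.sum_congr rfl fun j _ => congrArg (rA hN.1 hl1 (c j) • ·) (rS_comp hN.1 𝔐 hle hl1 (s j)))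
  let η : ι → ModSite.sect (f.pull.obj (𝔐.realMod hN.1)) (𝔛.lvU hN.1 k U) := fun i =>
    (f.adj.unit.app (𝔐.realMod hN.1)).val.app (op U) (s i)
  have hA : ModFlat16.Gens (f.pull.obj (𝔐.realMod hN.1)) (𝔛.lvU hN.1 k U) η := gens_pullback f hsG
  refine ⟨ι, hι, fun i => ModFlat16.smap _ (homOfLE h1) (η i), ModFlat16.gens_smap (homOfLE h1) hA, ?_, ?_⟩
  · have e : (fun i => (pullTo 𝔐 hN k).val.app (op W') (ModFlat16.smap _ (homOfLE h1) (η i))) =
        fun i => ModFlat16.smap (FL 𝔐 k) (homOfLE h1) (piM hN.1 𝔐 U k (s i)) := funext fun i => by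
      rw [ModFlat16.app_smap, pullTo_unit]
    rw [e]
    exact ModFlat16.gens_smap (homOfLE h1) (gens_level 𝔐 hN hM hU s hs)
  · intro V m c hc
    refine ⟨lvSieve hN.1 k V, lvSieve_mem hN.1 k V, fun V' l' hl' => ?_⟩
    obtain ⟨U', hU', h1', h2'⟩ := hl'
    have hle : U' ≤ U := le_of_lvU_le (h2'.trans (m.le.trans h1))
    haveI : Coh.IsQCoh (𝔐.F k) := (hM k).1
    let c' : ι → LV 𝔛 hN.1 k U' := fun i => ModFlat16.rmap (𝔛.X k).sheaf (homOfLE h2') (c i)
    have hc' : ∑ i, c' i • M1.mres (𝔐.F k) (lvU_mono hN.1 hle k) (piM hN.1 𝔐 U k (s i)) = 0 := by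
      have h0 := congrArg (ModFlat16.smap (FL 𝔐 k) (homOfLE h2')) hc
      rw [map_zero] at h0
      refine Eq.trans ?_ h0
      refine Eq.trans ?_ (ModFlat16.smap_comb (M := FL 𝔐 k) (homOfLE h2') c _).symm
      refine Finset.sum_congr rfl fun i _ => congrArg (c' i • ·) ?_
      rw [ModFlat16.app_smap, pullTo_unit, ← ModFlat16.smap_comp, ← ModFlat16.smap_comp]
      rfl
    have hmem := rels_mres (𝔐.F k) (isAffineOpen_lvU hN hU k) (isAffineOpen_lvU hN hU' k) (lvU_mono hN.1 hle k) _ _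
      (rels_level 𝔐 hN hM hU s hs R hR k) c' hc'
    obtain ⟨d, hd⟩ := (Submodule.mem_span_range_iff_exists_fun (LV 𝔛 hN.1 k U')).1 hmem
    have hzero : ∀ r, ∑ i, ModFlat16.shp f U (R r i) • η i = 0 := fun r => by
      have h0 := congrArg ((f.adj.unit.app (𝔐.realMod hN.1)).val.app (op U)) (hR0 r)
      rw [map_zero] at h0
      refine Eq.trans ?_ h0
      exact ((map_sum ((f.adj.unit.app (𝔐.realMod hN.1)).val.app (op U)).hom _ _).trans (Finset.sum_congr rfl fun i _ =>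
        ((f.adj.unit.app (𝔐.realMod hN.1)).val.app (op U)).hom.map_smul _ _)).symm
    have hV : ∑ i, c' i • ModFlat16.smap (f.pull.obj (𝔐.realMod hN.1)) (homOfLE (lvU_mono hN.1 hle k)) (η i) = 0 := by
      refine Eq.trans (Finset.sum_congr rfl fun i _ => ?_) (comb_zero
        (R := (𝔛.X k).sheaf.obj.obj (op (𝔛.lvU hN.1 k U')))
        (N := ModSite.sect (f.pull.obj (𝔐.realMod hN.1)) (𝔛.lvU hN.1 k U')) d
        (fun r i => ModFlat16.rmap (𝔛.X k).sheaf (homOfLE (lvU_mono hN.1 hle k)) (ModFlat16.shp f U (R r i)))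
        (fun i => ModFlat16.smap _ (homOfLE (lvU_mono hN.1 hle k)) (η i)) fun r => ?_)
      · refine congrArg (· • _) ?_
        refine (congrFun hd i).symm.trans ?_
        rw [Finset.sum_apply]
        exact Finset.sum_congr rfl fun r _ => rfl
      · rw [← ModFlat16.smap_comb, hzero r, map_zero]
    have h5 := congrArg (ModFlat16.smap (f.pull.obj (𝔐.realMod hN.1)) (homOfLE h1')) hV
    rw [map_zero] at h5
    refine Eq.trans ?_ h5
    refine Eq.trans ?_ (ModFlat16.smap_comb (M := f.pull.obj (𝔐.realMod hN.1)) (homOfLE h1') c' _).symm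
    refine Finset.sum_congr rfl fun i _ => congrArg₂ (· • ·) ?_ ?_
    · exact ModFlat16.rmap_comp (O := (𝔛.X k).sheaf) (homOfLE h2') (homOfLE h1') (c i)
    · rw [← ModFlat16.smap_comp, ← ModFlat16.smap_comp]
      rfl

end Groth.Agent.FormalModH7
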