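import Groth.Agent.Lib.FormalModH7.Gens
import Groth.Agent.Lib.FormalModH7.Lvl
import Groth.Agent.Lib.FormalModH7.LocSpan

/-!
# Glueing sections of finitely presented quotients of free modules over affine opens
-/

set_option autoImplicit false
set_option linter.style.haveILetI false
set_option linter.unusedSectionVars false
set_option backward.isDefEq.respectTransparency false
universe u

open CategoryTheory CategoryTheory.Limits AlgebraicGeometry Opposite TopologicalSpace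

namespace Groth.Agent.FormalModH7

section Alg

variable {R S ι κ : Type*} [CommRing R] [CommRing S] [Fintype ι] (f : R →+* S) (Rr : κ → ι → R)

theorem map_mem_span_rels {z : ι → R} (hz : z ∈ Submodule.span R (Set.range Rr)) :
    (fun i => f (z i)) ∈ Submodule.span S (Set.range fun r i => f (Rr r i)) := by
  induction hz using Submodule.span_induction with
  | mem y hy => obtain ⟨r, rfl⟩ := hy; exact Submodule.subset_span ⟨r, rfl⟩
  | zero => simp only [Pi.zero_apply, map_zero]; exact Submodule.zero_mem _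
  | add p q _ _ hp hq => simp only [Pi.add_apply, map_add]; exact Submodule.add_mem _ hp hq
  | smul d p _ hp =>
    simp only [Pi.smul_apply, smul_eq_mul, map_mul]
    exact Submodule.smul_mem _ (f d) hp

/-- Membership after inverting an element. -/
theorem exists_pow_smul_mem {S : Type*} [CommRing S] [Algebra R S] (g : R) [IsLocalization.Away g S] (z : ι → R)
    (hz : (fun i => algebraMap R S (z i)) ∈ Submodule.span S (Set.range fun r i => algebraMap R S (Rr r i))) :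
    ∃ K : ℕ, g ^ K • z ∈ Submodule.span R (Set.range Rr) := by
  classical
  obtain ⟨d, hd⟩ := Finsupp.mem_span_range_iff_exists_finsupp.1 hz
  obtain ⟨⟨v, hv⟩, hdv⟩ := IsLocalization.exist_integer_multiples (Submonoid.powers g) d.support (fun r => d r)
  choose e he using hdv
  let w : ι → R := fun i => ∑ r : d.support, e r.1 r.2 * Rr r.1 i
  have hw : w ∈ Submodule.span R (Set.range Rr) := by
    have : w = ∑ r : d.support, e r.1 r.2 • Rr r.1 := funext fun i => by simp [w]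
    rw [this]
    exact Submodule.sum_mem _ fun r _ => Submodule.smul_mem _ _ (Submodule.subset_span ⟨r.1, rfl⟩)
  have hk : ∀ i, ∃ k : Submonoid.powers g, (k : R) * (v * z i) = (k : R) * w i := fun i => by
    refine IsLocalization.exists_of_eq (S := S) ?_
    rw [map_mul, ← congrFun hd i, map_sum, Finsupp.sum, Finset.sum_apply, Finset.mul_sum, ← Finset.sum_attach]
    refine Finset.sum_congr rfl fun r _ => ?_
    show algebraMap R S v * (d r.1 * algebraMap R S (Rr r.1 i)) = algebraMap R S (e r.1 r.2 * Rr r.1 i)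
    rw [map_mul, he r.1 r.2, Algebra.smul_def, mul_assoc]
  choose k hk using hk
  obtain ⟨a, ha⟩ : v ∈ Submonoid.powers g := hv
  choose b hb using fun i => (k i).2
  refine ⟨(∑ i, b i) + a, ?_⟩
  have e1 : g ^ ((∑ i, b i) + a) • z = g ^ (∑ i, b i) • w := funext fun i => by
    simp only [Pi.smul_apply, smul_eq_mul]
    have h0 := hk i
    rw [← hb i, ← ha] at h0
    rw [← Finset.sum_erase_add _ _ (Finset.mem_univ i)]
    simp only [pow_add]
    linear_combination g ^ (∑ x ∈ Finset.univ.erase i, b x) * h0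
  rw [e1]
  exact Submodule.smul_mem _ _ hw

theorem span_range_pow {T : Type*} [Fintype T] (g : T → R) (hg : Ideal.span (Set.range g) = ⊤) (K : T → ℕ) :
    Ideal.span (Set.range fun t => g t ^ K t) = ⊤ := by
  refine top_unique ((Ideal.span_pow_eq_top _ hg (Finset.univ.sup K)).ge.trans (Ideal.span_le.2 ?_))
  rintro _ ⟨_, ⟨t, rfl⟩, rfl⟩
  obtain ⟨m, hm⟩ := Nat.exists_eq_add_of_le (Finset.le_sup (f := K) (Finset.mem_univ t))
  rw [SetLike.mem_coe, hm]
  show g t ^ (K t + m) ∈ _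
  rw [pow_add]
  exact Ideal.mul_mem_right _ _ (Ideal.subset_span ⟨t, rfl⟩)

/-- Glueing in terms of numerators. -/
theorem exists_glue_num {T : Type*} [Fintype T] (P : Submodule R (ι → R)) (g : T → R)
    (hg : Ideal.span (Set.range g) = ⊤) (N : ℕ) (a : T → ι → R)
    (h : ∀ s t, ∃ K : ℕ, (g t * g s) ^ K • (g s ^ N • a t - g t ^ N • a s) ∈ P) :
    ∃ c : ι → R, ∀ t, ∃ K : ℕ, g t ^ K • (g t ^ N • c - a t) ∈ P := by
  choose K hK using h
  let K₀ : ℕ := Finset.univ.sup fun q : T × T => K q.1 q.2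
  have hK₀ : ∀ s t, g s ^ (N + K₀) • (g t ^ K₀ • a t) - g t ^ (N + K₀) • (g s ^ K₀ • a s) ∈ P := fun s t => by
    obtain ⟨m, hm⟩ := Nat.exists_eq_add_of_le
      (Finset.le_sup (f := fun q : T × T => K q.1 q.2) (Finset.mem_univ (s, t)))
    have h1 := P.smul_mem ((g t * g s) ^ m) (hK s t)
    rw [smul_smul, ← pow_add, add_comm, ← show K₀ = K s t + m from hm] at h1
    convert h1 using 1
    funext i
    simp only [Pi.sub_apply, Pi.smul_apply, smul_eq_mul, pow_add, mul_pow]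
    ring
  have hg' : Ideal.span (Set.range fun t => g t ^ (N + K₀)) = ⊤ := span_range_pow g hg (fun _ => N + K₀)
  obtain ⟨b, hb⟩ := (Submodule.mem_span_range_iff_exists_fun R).1
    (show (1 : R) ∈ Ideal.span (Set.range fun t => g t ^ (N + K₀)) from hg' ▸ Submodule.mem_top)
  refine ⟨∑ t, b t • g t ^ K₀ • a t, fun s => ⟨K₀, ?_⟩⟩
  have e : g s ^ K₀ • (g s ^ N • (∑ t, b t • g t ^ K₀ • a t) - a s) =
      ∑ t, b t • (g s ^ (N + K₀) • (g t ^ K₀ • a t) - g t ^ (N + K₀) • (g s ^ K₀ • a s)) := by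
    funext i
    simp only [Pi.sub_apply, Pi.smul_apply, smul_eq_mul, Finset.sum_apply, Finset.mul_sum, mul_sub,
      Finset.sum_sub_distrib, pow_add]
    congr 1
    · exact Finset.sum_congr rfl fun t _ => by ring
    · have hb' : ∑ t, b t * (g t ^ N * g t ^ K₀) = 1 := by simpa [smul_eq_mul, pow_add] using hb
      calc g s ^ K₀ * a s i = (∑ t, b t * (g t ^ N * g t ^ K₀)) * (g s ^ K₀ * a s i) := by rw [hb', one_mul]
        _ = _ := by rw [Finset.sum_mul]; exact Finset.sum_congr rfl fun t _ => by ring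
  rw [e]
  exact P.sum_mem fun t _ => P.smul_mem _ (hK₀ s t)

end Alg

section Sch

variable {X : Scheme.{u}} {V : X.Opens} (hV : IsAffineOpen V) {ι κ T : Type*} [Fintype ι] [Fintype T]
  (Rr : κ → ι → Γ(X, V)) (g : T → Γ(X, V))

/-- The restriction to a distinguished open. -/
noncomputable abbrev rD (a : Γ(X, V)) : Γ(X, V) →+* Γ(X, X.basicOpen a) := rO (X.basicOpen_le a)

theorem basicOpen_mul_le_left (a b : Γ(X, V)) : X.basicOpen (a * b) ≤ X.basicOpen a := by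
  rw [X.basicOpen_mul]; exact inf_le_left

theorem basicOpen_mul_le_right (a b : Γ(X, V)) : X.basicOpen (a * b) ≤ X.basicOpen b := by
  rw [X.basicOpen_mul]; exact inf_le_right

theorem rO_rO {W W' : X.Opens} (i : W ≤ V) (j : W' ≤ W) (a : Γ(X, V)) : rO j (rO i a) = rO (j.trans i) a :=
  (congrArg (fun φ => φ.hom a) (X.presheaf.map_comp (homOfLE i).op (homOfLE j).op)).symm

include hV in
theorem exists_num (a : Γ(X, V)) (c : ι → Γ(X, X.basicOpen a)) :
    ∃ (N : ℕ) (b : ι → Γ(X, V)), ∀ i, rD a a ^ N * c i = rD a (b i) := by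
  classical
  haveI := hV.isLocalization_basicOpen a
  obtain ⟨⟨v, N, rfl⟩, hv⟩ := IsLocalization.exist_integer_multiples (Submonoid.powers a) Finset.univ c
  choose b hb using fun i => hv i (Finset.mem_univ i)
  refine ⟨N, b, fun i => ?_⟩
  rw [← map_pow]
  exact ((hb i).trans (Algebra.smul_def _ _)).symm

include hV in
theorem exists_pow_mem_of_rD (a : Γ(X, V)) (z : ι → Γ(X, V))
    (hz : (fun i => rD a (z i)) ∈ Submodule.span Γ(X, X.basicOpen a) (Set.range fun r i => rD a (Rr r i))) :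
    ∃ K : ℕ, a ^ K • z ∈ Submodule.span Γ(X, V) (Set.range Rr) :=
  haveI := hV.isLocalization_basicOpen a
  exists_pow_smul_mem (S := Γ(X, X.basicOpen a)) Rr a z hz

include hV in
/-- Membership is local on a cover by distinguished opens. -/
theorem mem_span_of_rD (hg : Ideal.span (Set.range g) = ⊤) (z : ι → Γ(X, V))
    (hz : ∀ t, (fun i => rD (g t) (z i)) ∈
      Submodule.span Γ(X, X.basicOpen (g t)) (Set.range fun r i => rD (g t) (Rr r i))) :
    z ∈ Submodule.span Γ(X, V) (Set.range Rr) := by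
  choose K hK using fun t => exists_pow_mem_of_rD hV Rr (g t) z (hz t)
  refine Submodule.mem_of_span_top_of_smul_mem _ (Set.range fun t => g t ^ K t) (span_range_pow g hg K) z ?_
  rintro ⟨_, t, rfl⟩
  exact hK t

include hV in
/-- Glueing of sections of a finitely presented quotient of a free module. -/
theorem exists_glue_scheme (hg : Ideal.span (Set.range g) = ⊤) (c : ∀ t, ι → Γ(X, X.basicOpen (g t)))
    (hc : ∀ s t, (fun i => rO (basicOpen_mul_le_left (g t) (g s)) (c t i) - rO (basicOpen_mul_le_right (g t) (g s)) (c s i))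
      ∈ Submodule.span Γ(X, X.basicOpen (g t * g s)) (Set.range fun r i => rD (g t * g s) (Rr r i))) :
    ∃ c₀ : ι → Γ(X, V), ∀ t, (fun i => rD (g t) (c₀ i) - c t i) ∈
      Submodule.span Γ(X, X.basicOpen (g t)) (Set.range fun r i => rD (g t) (Rr r i)) := by
  classical
  choose N₁ b₁ hb₁ using fun t => exists_num hV (g t) (c t)
  let N := Finset.univ.sup N₁
  let b : T → ι → Γ(X, V) := fun t => g t ^ (N - N₁ t) • b₁ t
  have hb : ∀ t i, rD (g t) (g t) ^ N * c t i = rD (g t) (b t i) := fun t i => by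
    show _ = rD (g t) (g t ^ (N - N₁ t) * b₁ t i)
    rw [map_mul, ← hb₁, map_pow, ← mul_assoc, ← pow_add,
      Nat.sub_add_cancel (Finset.le_sup (f := N₁) (Finset.mem_univ t))]
  have hcomp : ∀ s t, ∃ K : ℕ,
      (g t * g s) ^ K • (g s ^ N • b t - g t ^ N • b s) ∈ Submodule.span Γ(X, V) (Set.range Rr) := fun s t => by
    refine exists_pow_mem_of_rD hV Rr _ _ ?_
    have e : (fun i => rD (g t * g s) ((g s ^ N • b t - g t ^ N • b s) i)) = rD (g t * g s) ((g t * g s) ^ N) •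
        fun i => rO (basicOpen_mul_le_left (g t) (g s)) (c t i) - rO (basicOpen_mul_le_right (g t) (g s)) (c s i) := by
      funext i
      have h1 := congrArg (rO (basicOpen_mul_le_left (g t) (g s))) (hb t i)
      have h2 := congrArg (rO (basicOpen_mul_le_right (g t) (g s))) (hb s i)
      rw [map_mul, map_pow, rO_rO, rO_rO] at h1 h2
      simp only [Pi.sub_apply, Pi.smul_apply, smul_eq_mul, map_sub, map_mul, map_pow]
      rw [← h1, ← h2]
      ring
    rw [e]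
    exact Submodule.smul_mem _ _ (hc s t)
  obtain ⟨c₀, h₀⟩ := exists_glue_num _ g hg N b hcomp
  refine ⟨c₀, fun t => ?_⟩
  obtain ⟨K, hK⟩ := h₀ t
  have hu : IsUnit (rD (g t) (g t ^ (K + N))) := by
    rw [map_pow]
    refine IsUnit.pow _ ?_
    haveI := hV.isLocalization_basicOpen (g t)
    exact IsLocalization.Away.algebraMap_isUnit (g t)
  have e : (fun i => rD (g t) ((g t ^ K • (g t ^ N • c₀ - b t)) i)) =
      rD (g t) (g t ^ (K + N)) • fun i => rD (g t) (c₀ i) - c t i := by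
    funext i
    simp only [Pi.sub_apply, Pi.smul_apply, smul_eq_mul, map_sub, map_mul, map_pow]
    rw [← hb t i, pow_add]
    ring
  have h1 := map_mem_span_rels (rD (g t)) Rr hK
  rw [e] at h1
  have h2 := Submodule.smul_mem _ (↑hu.unit⁻¹ : Γ(X, X.basicOpen (g t))) h1
  rwa [smul_smul, IsUnit.val_inv_mul, one_smul] at h2

end Sch

section Formal

variable {𝔛 : FSch.Sys.{u}} (hN : 𝔛.IsLocNoethFormal) {V : (𝔛.X 0).Opens} (hV : IsAffineOpen V)

/-- The distinguished open of a function on a formal scheme. -/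
noncomputable def fD (a : AV 𝔛 hN.1 V) : (𝔛.X 0).Opens := (𝔛.X 0).basicOpen (prj 𝔛 hN.1 V 0 a)

theorem fD_le (a : AV 𝔛 hN.1 V) : fD hN a ≤ V :=
  ((𝔛.X 0).basicOpen_le _).trans (lvU_zero_le hN.1 V)

theorem toX_basicOpen (n : ℕ) (a : AV 𝔛 hN.1 V) :
    𝔛.toX n ⁻¹ᵁ (𝔛.X n).basicOpen (prj 𝔛 hN.1 V n a) = fD hN a := by
  rw [Scheme.preimage_basicOpen, fD, ← low_prj hN.1 V n a, low_eq]
  simp only [Scheme.Hom.appLE, CommRingCat.hom_comp, RingHom.comp_apply]
  rw [Scheme.basicOpen_res]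
  refine (inf_eq_right.2 ?_).symm
  refine ((𝔛.X 0).basicOpen_le _).trans ?_
  rw [toX_preimage_lvU]
  exact (toX_preimage_lvU hN.1 0 V).ge

theorem lvU_fD (n : ℕ) (a : AV 𝔛 hN.1 V) : 𝔛.lvU hN.1 n (fD hN a) = (𝔛.X n).basicOpen (prj 𝔛 hN.1 V n a) := by
  rw [← toX_basicOpen hN n a]
  exact lvU_lvInv hN.1 n _

include hV in
theorem isAffineOpen_fD (a : AV 𝔛 hN.1 V) : IsAffineOpen (fD hN a) :=
  (isAffineOpen_lvU hN hV 0).basicOpen _

theorem fD_mul (a b : AV 𝔛 hN.1 V) : fD hN (a * b) = fD hN a ⊓ fD hN b := by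
  rw [fD, map_mul, Scheme.basicOpen_mul]; rfl

include hV in
/-- Distinguished opens form a basis. -/
theorem exists_fD_le {W : (𝔛.X 0).Opens} {x : 𝔛.X 0} (hxV : x ∈ V) (hxW : x ∈ W) :
    ∃ a : AV 𝔛 hN.1 V, fD hN a ≤ W ∧ x ∈ fD hN a := by
  have hxV' : x ∈ 𝔛.lvU hN.1 0 V := by
    have := toX_preimage_lvU hN.1 0 V
    exact this.ge hxV
  obtain ⟨f, hf, hxf⟩ := (isAffineOpen_lvU hN hV 0).exists_basicOpen_le (V := W) ⟨x, hxW⟩ hxV'
  obtain ⟨a, rfl⟩ := prj_surjective hN hV 0 f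
  exact ⟨a, hf, hxf⟩

include hV in
theorem span_prj_eq_top {T : Type*} (g : T → AV 𝔛 hN.1 V) (hg : V ≤ ⨆ t, fD hN (g t)) (n : ℕ) :
    Ideal.span (Set.range fun t => prj 𝔛 hN.1 V n (g t)) = ⊤ := by
  refine ((isAffineOpen_lvU hN hV n).iSup_basicOpen_eq_self_iff).1 (le_antisymm ?_ fun y hy => ?_)
  · exact iSup_le fun a => (𝔛.X n).basicOpen_le _
  · have h1 : (𝔛.gInv hN.1 n).hom y ∈ V := hy
    obtain ⟨t, ht⟩ := Opens.mem_iSup.1 (hg h1)
    refine Opens.mem_iSup.2 ⟨⟨_, t, rfl⟩, ?_⟩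
    have h2 : y ∈ 𝔛.lvU hN.1 n (fD hN (g t)) := ht
    rwa [lvU_fD] at h2

theorem mem_span_congr {R ι κ : Type*} [CommRing R] {Rr Rr' : κ → ι → R} {z z' : ι → R}
    (hz : z ∈ Submodule.span R (Set.range Rr)) (e : ∀ i, z' i = z i) (e' : ∀ r i, Rr' r i = Rr r i) :
    z' ∈ Submodule.span R (Set.range Rr') := by
  rwa [show z' = z from funext e, show Rr' = Rr from funext fun r => funext (e' r)]

theorem map_span_exists {R S ι κ : Type*} [CommRing R] [CommRing S] (f : R →+* S) (hf : Function.Surjective f)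
    (Rr : κ → ι → R) {z : ι → S} (hz : z ∈ Submodule.span S (Set.range fun r i => f (Rr r i))) :
    ∃ p ∈ Submodule.span R (Set.range Rr), ∀ i, f (p i) = z i := by
  induction hz using Submodule.span_induction with
  | mem y hy => obtain ⟨r, rfl⟩ := hy; exact ⟨_, Submodule.subset_span ⟨r, rfl⟩, fun i => rfl⟩
  | zero => exact ⟨0, Submodule.zero_mem _, fun i => map_zero f⟩
  | add a b _ _ ha hb =>
    obtain ⟨p, hp, hp'⟩ := ha
    obtain ⟨q, hq, hq'⟩ := hb
    exact ⟨p + q, Submodule.add_mem _ hp hq, fun i => by rw [Pi.add_apply, Pi.add_apply, map_add, hp', hq']⟩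
  | smul d a _ ha =>
    obtain ⟨p, hp, hp'⟩ := ha
    obtain ⟨d', rfl⟩ := hf d
    exact ⟨d' • p, Submodule.smul_mem _ _ hp, fun i => by
      rw [Pi.smul_apply, Pi.smul_apply, smul_eq_mul, smul_eq_mul, map_mul, hp']⟩

variable {W : (𝔛.X 0).Opens}

theorem tr_rL (i : W ≤ V) (n : ℕ) (x : LV 𝔛 hN.1 (n + 1) V) :
    tr 𝔛 hN.1 W n (rL hN.1 i (n + 1) x) = rL hN.1 i n (tr 𝔛 hN.1 V n x) := by
  have h1 : (𝔛.X (n + 1)).presheaf.map (homOfLE (lvU_mono hN.1 i (n + 1))).op ≫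
      (𝔛.ι n).appLE (𝔛.lvU hN.1 (n + 1) W) (𝔛.lvU hN.1 n W) (𝔛.lvU_le hN.1 n W) =
      (𝔛.ι n).appLE (𝔛.lvU hN.1 (n + 1) V) (𝔛.lvU hN.1 n V) (𝔛.lvU_le hN.1 n V) ≫
        (𝔛.X n).presheaf.map (homOfLE (lvU_mono hN.1 i n)).op := by
    rw [Scheme.Hom.map_appLE, Scheme.Hom.appLE_map]
  exact congrArg (fun φ => φ.hom x) h1

/-- The restriction of a function on a level to a distinguished open of the level. -/
theorem rO_rL (a : AV 𝔛 hN.1 V) (n : ℕ) (x : LV 𝔛 hN.1 n V) :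
    rO (lvU_fD hN n a).ge (rL hN.1 (fD_le hN a) n x) = rD (prj 𝔛 hN.1 V n a) x :=
  rO_rO (lvU_mono hN.1 (fD_le hN a) n) (lvU_fD hN n a).ge x

theorem rO_fD_self (a : AV 𝔛 hN.1 V) (n : ℕ) (x : LV 𝔛 hN.1 n (fD hN a)) :
    rO (lvU_fD hN n a).le (rO (lvU_fD hN n a).ge x) = x := by
  rw [rO_rO]
  exact congrArg (fun φ => φ.hom x) ((𝔛.X n).presheaf.map_id (op (𝔛.lvU hN.1 n (fD hN a))))

theorem rL_eq (i : W ≤ V) (n : ℕ) : rL hN.1 i n = rO (lvU_mono hN.1 i n) := rfl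

theorem rO_rL' (i : W ≤ V) (n : ℕ) {U : (𝔛.X n).Opens} (j : U ≤ 𝔛.lvU hN.1 n W) (x : LV 𝔛 hN.1 n V) :
    rO j (rL hN.1 i n x) = rO (j.trans (lvU_mono hN.1 i n)) x :=
  rO_rO (lvU_mono hN.1 i n) j x

theorem tr_rL_prj (i : W ≤ V) (n : ℕ) (a : AV 𝔛 hN.1 V) :
    tr 𝔛 hN.1 W n (rL hN.1 i (n + 1) (prj 𝔛 hN.1 V (n + 1) a)) = rL hN.1 i n (prj 𝔛 hN.1 V n a) :=
  (tr_rL hN i n _).trans (congrArg (rL hN.1 i n) (tr_prj 𝔛 hN.1 V n a))

theorem rO_back (a : AV 𝔛 hN.1 V) (n : ℕ) (x : LV 𝔛 hN.1 n V) :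
    rO (lvU_fD hN n a).le (rD (prj 𝔛 hN.1 V n a) x) = rL hN.1 (fD_le hN a) n x := by
  exact (congrArg (rO (lvU_fD hN n a).le) (rO_rL hN a n x).symm).trans (rO_fD_self hN a n (rL hN.1 (fD_le hN a) n x))

set_option maxHeartbeats 1000000 in
include hV in
/-- A level solution of a glueing problem. -/
theorem exists_glue_level {ι κ T : Type*} [Fintype ι] [Fintype T] (Rr : κ → ι → AV 𝔛 hN.1 V)
    (g : T → AV 𝔛 hN.1 V) (hg : V ≤ ⨆ t, fD hN (g t)) (c : ∀ t, ι → AV 𝔛 hN.1 (fD hN (g t)))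
    (hc : ∀ s t, (fun i => rA hN.1 (fD_mul hN (g t) (g s) ▸ inf_le_left) (c t i) -
        rA hN.1 (fD_mul hN (g t) (g s) ▸ inf_le_right) (c s i)) ∈
      Submodule.span (AV 𝔛 hN.1 (fD hN (g t * g s)))
        (Set.range fun r i => rA hN.1 (fD_le hN (g t * g s)) (Rr r i))) (n : ℕ) :
    ∃ d : ι → LV 𝔛 hN.1 n V, ∀ t, (fun i => rL hN.1 (fD_le hN (g t)) n (d i) - prj 𝔛 hN.1 (fD hN (g t)) n (c t i)) ∈
      Submodule.span (LV 𝔛 hN.1 n (fD hN (g t)))
        (Set.range fun r i => rL hN.1 (fD_le hN (g t)) n (prj 𝔛 hN.1 V n (Rr r i))) := by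
  obtain ⟨d, hd⟩ := exists_glue_scheme (isAffineOpen_lvU hN hV n) (fun r i => prj 𝔛 hN.1 V n (Rr r i))
    (fun t => prj 𝔛 hN.1 V n (g t)) (span_prj_eq_top hN hV g hg n)
    (fun t i => rO (lvU_fD hN n (g t)).ge (prj 𝔛 hN.1 (fD hN (g t)) n (c t i))) fun s t => by
      have hle : (𝔛.X n).basicOpen (prj 𝔛 hN.1 V n (g t) * prj 𝔛 hN.1 V n (g s)) ≤
          𝔛.lvU hN.1 n (fD hN (g t * g s)) := by
        rw [lvU_fD, map_mul]
      have h1 := map_mem_span_rels ((rO hle).comp (prj 𝔛 hN.1 (fD hN (g t * g s)) n)) _ (hc s t)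
      simp only [RingHom.comp_apply, map_sub, prj_rA] at h1
      exact mem_span_congr h1 (fun i => by rw [rO_rL' hN, rO_rL' hN, rO_rO, rO_rO]) fun r i =>
        (rO_rL' hN _ n hle _).symm
  refine ⟨d, fun t => ?_⟩
  have h2 := map_mem_span_rels (rO (lvU_fD hN n (g t)).le) _ (hd t)
  have e1 : (fun i => rO (lvU_fD hN n (g t)).le (rD (prj 𝔛 hN.1 V n (g t)) (d i) -
        rO (lvU_fD hN n (g t)).ge (prj 𝔛 hN.1 (fD hN (g t)) n (c t i)))) =
      fun i => rL hN.1 (fD_le hN (g t)) n (d i) - prj 𝔛 hN.1 (fD hN (g t)) n (c t i) := funext fun i => by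
    rw [map_sub, rO_back, rO_fD_self]
  have e2 : (fun r i => rO (lvU_fD hN n (g t)).le (rD (prj 𝔛 hN.1 V n (g t)) (prj 𝔛 hN.1 V n (Rr r i)))) =
      fun r i => rL hN.1 (fD_le hN (g t)) n (prj 𝔛 hN.1 V n (Rr r i)) := funext fun r => funext fun i => rO_back hN (g t) n _
  rw [← e1, ← e2]
  exact h2

set_option maxHeartbeats 1000000 in
include hV in
/-- Glueing of sections of a finitely presented quotient of a free module on a formal scheme. -/
theorem exists_glue {ι κ T : Type*} [Fintype ι] [Fintype T] (Rr : κ → ι → AV 𝔛 hN.1 V)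
    (g : T → AV 𝔛 hN.1 V) (hg : V ≤ ⨆ t, fD hN (g t)) (c : ∀ t, ι → AV 𝔛 hN.1 (fD hN (g t)))
    (hc : ∀ s t, (fun i => rA hN.1 (fD_mul hN (g t) (g s) ▸ inf_le_left) (c t i) -
        rA hN.1 (fD_mul hN (g t) (g s) ▸ inf_le_right) (c s i)) ∈
      Submodule.span (AV 𝔛 hN.1 (fD hN (g t * g s)))
        (Set.range fun r i => rA hN.1 (fD_le hN (g t * g s)) (Rr r i))) :
    ∃ c₀ : ι → AV 𝔛 hN.1 V, ∀ t, (fun i => rA hN.1 (fD_le hN (g t)) (c₀ i) - c t i) ∈
      Submodule.span (AV 𝔛 hN.1 (fD hN (g t))) (Set.range fun r i => rA hN.1 (fD_le hN (g t)) (Rr r i)) := by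
  choose d hd using exists_glue_level hN hV Rr g hg c hc
  let P := fun n => Submodule.span (LV 𝔛 hN.1 n V) (Set.range fun r i => prj 𝔛 hN.1 V n (Rr r i))
  have hcompat : ∀ n, (fun i => tr 𝔛 hN.1 V n (d (n + 1) i) - d n i) ∈ P n := fun n => by
    refine mem_span_of_rD (isAffineOpen_lvU hN hV n) _ _ (span_prj_eq_top hN hV g hg n) _ fun t => ?_
    have h1 := map_mem_span_rels (tr 𝔛 hN.1 (fD hN (g t)) n) _ (hd (n + 1) t)
    rw [show (fun i => tr 𝔛 hN.1 (fD hN (g t)) n (rL hN.1 (fD_le hN (g t)) (n + 1) (d (n + 1) i) -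
          prj 𝔛 hN.1 (fD hN (g t)) (n + 1) (c t i))) = fun i => rL hN.1 (fD_le hN (g t)) n (tr 𝔛 hN.1 V n (d (n + 1) i)) -
          prj 𝔛 hN.1 (fD hN (g t)) n (c t i) from funext fun i => by rw [map_sub, tr_prj, tr_rL hN],
      show (fun r i => tr 𝔛 hN.1 (fD hN (g t)) n (rL hN.1 (fD_le hN (g t)) (n + 1) (prj 𝔛 hN.1 V (n + 1) (Rr r i)))) =
        fun r i => rL hN.1 (fD_le hN (g t)) n (prj 𝔛 hN.1 V n (Rr r i)) from
        funext fun r => funext fun i => tr_rL_prj hN _ n _] at h1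
    have h2 := map_mem_span_rels (rO (lvU_fD hN n (g t)).ge) _ (Submodule.sub_mem _ h1 (hd n t))
    exact mem_span_congr h2
      (fun i => by rw [← rO_rL hN, Pi.sub_apply, map_sub (rL hN.1 (fD_le hN (g t)) n), sub_sub_sub_cancel_right])
      fun r i => (rO_rL hN (g t) n _).symm
  have hstep : ∀ (n : ℕ) (D : ι → AV 𝔛 hN.1 V), (fun i => prj 𝔛 hN.1 V n (D i) - d n i) ∈ P n →
      ∃ D' : ι → AV 𝔛 hN.1 V, (fun i => prj 𝔛 hN.1 V (n + 1) (D' i) - d (n + 1) i) ∈ P (n + 1) ∧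
        ∀ i, prj 𝔛 hN.1 V n (D' i) = prj 𝔛 hN.1 V n (D i) := fun n D hD => by
    choose x hx using fun i => prj_surjective hN hV (n + 1) (d (n + 1) i)
    obtain ⟨p, hp, hp'⟩ := map_span_exists (prj 𝔛 hN.1 V n) (prj_surjective hN hV n) Rr
      (z := fun i => prj 𝔛 hN.1 V n (x i) - prj 𝔛 hN.1 V n (D i)) (by
        have e : (fun i => prj 𝔛 hN.1 V n (x i) - prj 𝔛 hN.1 V n (D i)) =
            (fun i => tr 𝔛 hN.1 V n (d (n + 1) i) - d n i) - fun i => prj 𝔛 hN.1 V n (D i) - d n i := by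
          funext i
          rw [Pi.sub_apply, ← hx i, tr_prj]
          ring
        rw [e]
        exact Submodule.sub_mem _ (hcompat n) hD)
    refine ⟨fun i => x i - p i, ?_, fun i => by rw [map_sub, hp']; ring⟩
    have e : (fun i => prj 𝔛 hN.1 V (n + 1) (x i - p i) - d (n + 1) i) =
        - fun i => prj 𝔛 hN.1 V (n + 1) (p i) := by
      funext i
      rw [Pi.neg_apply, map_sub, hx]
      ring
    rw [e]
    exact Submodule.neg_mem _ (map_mem_span_rels _ _ hp)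
  choose F hF₁ hF₂ using hstep
  choose x₀ hx₀ using fun i => prj_surjective hN hV 0 (d 0 i)
  have h₀ : (fun i => prj 𝔛 hN.1 V 0 (x₀ i) - d 0 i) ∈ P 0 := by
    rw [show (fun i => prj 𝔛 hN.1 V 0 (x₀ i) - d 0 i) = 0 from funext fun i => sub_eq_zero.2 (hx₀ i)]
    exact Submodule.zero_mem _
  let D : ∀ n, {D : ι → AV 𝔛 hN.1 V // (fun i => prj 𝔛 hN.1 V n (D i) - d n i) ∈ P n} :=
    fun n => Nat.rec ⟨x₀, h₀⟩ (fun n q => ⟨F n q.1 q.2, hF₁ n q.1 q.2⟩) n
  choose c₀ hc₀ using fun i => exists_lift 𝔛 hN.1 V (fun n => prj 𝔛 hN.1 V n ((D n).1 i)) fun n => by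
    rw [tr_prj]
    exact hF₂ n (D n).1 (D n).2 i
  refine ⟨c₀, fun t => mem_span_of_levels hN (isAffineOpen_fD hN hV (g t)) _ _ fun n => ?_⟩
  have h3 := map_mem_span_rels (rL hN.1 (fD_le hN (g t)) n) _ (D n).2
  have h4 := Submodule.add_mem _ h3 (hd n t)
  simp only [map_sub, prj_rA]
  have e : (fun i => rL hN.1 (fD_le hN (g t)) n (prj 𝔛 hN.1 V n ((D n).1 i) - d n i)) +
      (fun i => rL hN.1 (fD_le hN (g t)) n (d n i) - prj 𝔛 hN.1 (fD hN (g t)) n (c t i)) =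
      fun i => rL hN.1 (fD_le hN (g t)) n (prj 𝔛 hN.1 V n (c₀ i)) - prj 𝔛 hN.1 (fD hN (g t)) n (c t i) := by
    funext i
    rw [Pi.add_apply, map_sub, hc₀]
    ring
  rw [← e]
  exact h4

end Formal

end Groth.Agent.FormalModH7
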