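import Groth.Agent.Lib.FormalModH7.InfFree
import Groth.Agent.Lib.FormalModH7.IsoPres

/-!
# Presentations from generating families and their relations
-/

set_option autoImplicit false
set_option linter.style.haveILetI false
set_option linter.unusedSectionVars false
set_option backward.isDefEq.respectTransparency false
set_option backward.isDefEq.respectTransparency.types false

universe u

open CategoryTheory CategoryTheory.Limits Opposite

noncomputable section

namespace Groth.Agent.FormalModH7

open ModFlat16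

open scoped Classical in
/-- Every section is locally a finite combination of the family. -/
def GenF {C : Type u} [SmallCategory C] {J : GrothendieckTopology C} {O : Sheaf J CommRingCat.{u}} {σ : Type u}
    (M : ModSite.Mod O) (V : C) (s : σ → ModSite.sect M V) : Prop :=
  ∀ ⦃W : C⦄ (k : W ⟶ V) (x : ModSite.sect M W), ∃ S ∈ J W, ∀ ⦃W' : C⦄ (l : W' ⟶ W), S l →
    ∃ (F : Finset σ) (c : σ → O.obj.obj (op W')), smap M l x = ∑ j ∈ F, c j • smap M (l ≫ k) (s j)

open scoped Classical in
/-- Every finite relation is locally a combination of global finite relations. -/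
def RelF {C : Type u} [SmallCategory C] {J : GrothendieckTopology C} {O : Sheaf J CommRingCat.{u}} {σ : Type u}
    (M : ModSite.Mod O) (V : C) (s : σ → ModSite.sect M V) : Prop :=
  ∀ ⦃W : C⦄ (k : W ⟶ V) (F : Finset σ) (c : σ → O.obj.obj (op W)), ∑ j ∈ F, c j • smap M k (s j) = 0 →
    ∃ S ∈ J W, ∀ ⦃W' : C⦄ (l : W' ⟶ W), S l → ∃ (κ : Type u) (_ : Fintype κ) (G : Finset σ)
      (a : κ → σ → O.obj.obj (op V)) (e : κ → O.obj.obj (op W')), F ⊆ G ∧ (∀ q, ∑ j ∈ G, a q j • s j = 0) ∧
        ∀ j ∈ G, (if j ∈ F then rmap O l (c j) else 0) = ∑ q, e q * rmap O (l ≫ k) (a q j)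

variable {C : Type u} [SmallCategory C] {J : GrothendieckTopology C} {O : Sheaf J CommRingCat.{u}} {V : C} {σ : Type u}

/-- The map out of a free module given by a family of sections at the top. -/
def descTo {N : ModSite.Mod (O.over V)} (s : σ → ModSite.sect N (Over.mk (𝟙 V))) : FS (O := O) V σ ⟶ N :=
  Cofan.IsColimit.desc (SheafOfModules.isColimitFreeCofan σ) fun j => secHom (s j)

theorem descTo_ins {N : ModSite.Mod (O.over V)} (s : σ → ModSite.sect N (Over.mk (𝟙 V))) (j : σ) (A : Over V)
    (c : (O.over V).obj.obj (op A)) : (descTo s).val.app (op A) (ins j c) = c • top N A (s j) := by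
  have e : SheafOfModules.ιFree j ≫ descTo s = secHom (s j) :=
    Cofan.IsColimit.fac (SheafOfModules.isColimitFreeCofan σ) _ j
  refine (app_unit (SheafOfModules.ιFree j ≫ descTo s) A c).trans (congrArg (fun z => c • top N A z) ?_)
  rw [e]
  exact topVal_secHom _

variable {M : ModSite.Mod O}

/-- The map out of a free module given by a family of sections. -/
def descF (M : ModSite.Mod O) (s : σ → ModSite.sect M V) : FS (O := O) V σ ⟶ (ModSite.restr O V).obj M :=
  descTo (N := (ModSite.restr O V).obj M) fun j => (s j : ModSite.sect ((ModSite.restr O V).obj M) (Over.mk (𝟙 V)))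

theorem descF_sum (s : σ → ModSite.sect M V) (A : Over V) (F : Finset σ) (c : σ → (O.over V).obj.obj (op A)) :
    (descF M s).val.app (op A) (∑ j ∈ F, ins j (c j)) =
      (∑ j ∈ F, (c j : O.obj.obj (op A.left)) • smap M A.hom (s j) : ModSite.sect M A.left) := by
  rw [map_sum]
  exact Finset.sum_congr rfl fun j _ => descTo_ins _ j A (c j)

theorem epi_descF {s : σ → ModSite.sect M V} (hs : GenF M V s) : Epi (descF M s) := by
  refine epi_of_locally _ fun A x => ?_
  obtain ⟨S, hS, h⟩ := hs A.hom x
  refine ⟨(Sieve.overEquiv A).symm S, ?_, fun A' a ha => ?_⟩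
  · rw [GrothendieckTopology.mem_over_iff]
    exact ((Sieve.overEquiv A).apply_symm_apply S).symm ▸ hS
  · obtain ⟨F, c, hc⟩ := h a.left ha
    refine ⟨∑ j ∈ F, ins j (c j : (O.over V).obj.obj (op A')), ?_⟩
    refine (descF_sum s A' F c).trans (Eq.trans ?_ hc.symm)
    exact Finset.sum_congr rfl fun j _ => by rw [Over.w a]

set_option maxHeartbeats 1000000 in
/-- A generating family with locally generated relations gives a presentation. -/
theorem nonempty_presentation_of_genF {s : σ → ModSite.sect M V} (hs : GenF M V s) (hr : RelF M V s) :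
    Nonempty (SheafOfModules.Presentation ((ModSite.restr O V).obj M)) := by
  classical
  haveI := epi_descF hs
  let G₁ : ((ModSite.restr O V).obj M).GeneratingSections :=
    { I := σ, s := SheafOfModules.freeHomEquiv _ (descF M s), epi := by rw [Equiv.symm_apply_apply]; infer_instance }
  have hπ : G₁.π = descF M s := Equiv.symm_apply_apply _ _
  let I₂ : Type u := {w : ModSite.sect (FS (O := O) V σ) (Over.mk (𝟙 V)) // G₁.π.val.app (topOver V) w = 0}
  choose y hy using fun w : I₂ => exists_kernel_section G₁.π (A := Over.mk (𝟙 V)) w.1 w.2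
  haveI : Epi (descTo (σ := I₂) y) := by
    refine epi_of_locally _ fun A x => ?_
    obtain ⟨S, hS, h⟩ := exists_finite_support ((kernel.ι G₁.π).val.app (op A) x)
    refine bind_cover (J := J.over V) S hS fun A₁ a₁ ha₁ => ?_
    obtain ⟨F, c, hc⟩ := h a₁ ha₁
    have h0 : (∑ j ∈ F, (c j : O.obj.obj (op A₁.left)) • smap M A₁.hom (s j) : ModSite.sect M A₁.left) = 0 := by
      refine (descF_sum s A₁ F c).symm.trans ?_
      rw [← hc, app_smap, ← hπ]
      refine (congrArg (smap _ a₁) ?_).trans (map_zero _)
      exact congrArg (fun q : kernel G₁.π ⟶ _ => q.val.app (op A) x) (kernel.condition G₁.π)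
    obtain ⟨T, hT, hT'⟩ := hr A₁.hom F c h0
    refine ⟨(Sieve.overEquiv A₁).symm T, ?_, fun A₂ a₂ ha₂ => ?_⟩
    · rw [GrothendieckTopology.mem_over_iff]
      exact ((Sieve.overEquiv A₁).apply_symm_apply T).symm ▸ hT
    obtain ⟨κ, hκ, G, a, e, hFG, ha, he⟩ := hT' a₂.left ha₂
    have hw : ∀ q, G₁.π.val.app (topOver V) (∑ j ∈ G, ins (A := Over.mk (𝟙 V)) j (a q j)) = 0 := fun q => by
      rw [hπ]
      refine (descF_sum s (Over.mk (𝟙 V)) G (a q)).trans (Eq.trans ?_ (ha q))
      exact Finset.sum_congr rfl fun j _ => congrArg (a q j • ·) (smap_id _)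
    refine ⟨∑ q, ins (A := A₂) (⟨_, hw q⟩ : I₂) (e q), sections_injective (kernel.ι G₁.π) A₂ ?_⟩
    rw [map_sum, map_sum]
    have e1 : smap (FS (O := O) V σ) (a₂ ≫ a₁) ((kernel.ι G₁.π).val.app (op A) x) =
        ∑ j ∈ G, ins (A := A₂) j (if j ∈ F then rmap O a₂.left (c j) else 0) := by
      rw [smap_comp, hc, map_sum]
      refine Eq.trans ?_ (Finset.sum_subset hFG fun j _ hj => by rw [if_neg hj]; exact map_zero _)
      exact Finset.sum_congr rfl fun j hj => by rw [if_pos hj]; exact smap_ins j a₂ (c j)
    refine Eq.trans ?_ ((app_smap (kernel.ι G₁.π) (a₂ ≫ a₁) x).trans e1).symm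
    have e2 : ∀ q, (kernel.ι G₁.π).val.app (op A₂) ((descTo (σ := I₂) y).val.app (op A₂) (ins (⟨_, hw q⟩ : I₂) (e q))) =
        ∑ j ∈ G, ins (A := A₂) j (e q * rmap O A₂.hom (a q j)) := fun q => by
      rw [descTo_ins, map_smul, app_smap, hy, map_sum, Finset.smul_sum]
      exact Finset.sum_congr rfl fun j _ => (congrArg (e q • ·) (smap_ins (O := O) (U := V) (A := Over.mk (𝟙 V)) j _ (a q j))).trans
        (((SheafOfModules.ιFree (R := ModSite.ringSh (O.over V)) j).val.app (op A₂)).hom.map_smul (e q) _).symm
    rw [Finset.sum_congr rfl fun q _ => e2 q, Finset.sum_comm]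
    refine Finset.sum_congr rfl fun j hj => ?_
    rw [he j hj, Over.w a₂]
    exact (map_sum _ _ _).symm
  exact ⟨{ generators := G₁
           relations := { I := I₂, s := SheafOfModules.freeHomEquiv _ (descTo y),
                          epi := by rw [Equiv.symm_apply_apply]; infer_instance } }⟩

/-- Locally presented modules are quasi-coherent. -/
theorem isQuasicoherent_of_covd
    (h : Covd J fun U => ∃ V : C, Nonempty (U ⟶ V) ∧ Nonempty (SheafOfModules.Presentation ((ModSite.restr O V).obj M))) :
    SheafOfModules.IsQuasicoherent.{u} (R := ModSite.ringSh O) M := by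
  constructor
  refine ⟨{ I := {U : C // Nonempty (SheafOfModules.Presentation ((ModSite.restr O U).obj M))}
            X := Subtype.val
            coversTop := fun X => ?_
            presentation := fun i => i.2.some }⟩
  obtain ⟨S, hS, h'⟩ := h X
  refine J.superset_covering (fun U k hk => ?_) hS
  obtain ⟨V, ⟨m⟩, hP⟩ := h' k hk
  exact ⟨⟨V, hP⟩, ⟨m⟩⟩

end Groth.Agent.FormalModH7
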