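import Groth.Agent.Lib.ModFlat16.LocFT
import Mathlib.Algebra.Category.ModuleCat.Presheaf.Colimits

/-!
# Sections of free modules of arbitrary rank on slices are locally finitely supported
-/

set_option autoImplicit false
set_option linter.style.haveILetI false
set_option linter.unusedSectionVars false
set_option backward.isDefEq.respectTransparency false
set_option backward.isDefEq.respectTransparency.types false

universe u

open CategoryTheory CategoryTheory.Limits Opposite

noncomputable section

namespace Groth.Agent.FormalModH7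

open ModFlat16 Groth.Agent.KFlat.Site

variable {C : Type u} [SmallCategory C] {J : GrothendieckTopology C} {O : Sheaf J CommRingCat.{u}}
  (U : C) (σ : Type u)

/-- The free module on a slice. -/
abbrev FS : ModSite.Mod (O.over U) := SheafOfModules.free (R := ModSite.ringSh (O.over U)) σ

variable {U σ}

/-- An element on one coordinate. -/
abbrev ins (j : σ) {A : Over U} (c : (O.over U).obj.obj (op A)) : ModSite.sect (FS (O := O) U σ) A :=
  (SheafOfModules.ιFree (R := ModSite.ringSh (O.over U)) j).val.app (op A) c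

theorem smap_ins (j : σ) {A A' : Over U} (a : A' ⟶ A) (c : (O.over U).obj.obj (op A)) :
    smap (FS (O := O) U σ) a (ins j c) = ins j (rmap (O.over U) a c) :=
  (app_smap (SheafOfModules.ιFree (R := ModSite.ringSh (O.over U)) j) a c).symm

/-- Locally every section is supported on finitely many coordinates. -/
theorem exists_finite_support {A : Over U} (z : ModSite.sect (FS (O := O) U σ) A) :
    ∃ S ∈ (J.over U) A, ∀ ⦃A' : Over U⦄ (a : A' ⟶ A), S a →
      ∃ (F : Finset σ) (c : σ → (O.over U).obj.obj (op A')), smap _ a z = ∑ j ∈ F, ins j (c j) := by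
  classical
  let Q : ModSite.preMod (O.over U) := (ModSite.toPre (O.over U)).obj (SheafOfModules.unit (ModSite.ringSh (O.over U)))
  let P : ModSite.preMod (O.over U) := ∐ fun _ : σ => Q
  let ψ : P ⟶ (ModSite.toPre (O.over U)).obj (FS (O := O) U σ) :=
    Sigma.desc fun j => (ModSite.toPre (O.over U)).map (SheafOfModules.ιFree (R := ModSite.ringSh (O.over U)) j)
  let φ : (ModSite.shPre (O.over U)).obj P ⟶ FS (O := O) U σ := ((adj (O.over U)).homEquiv _ _).symm ψ
  haveI : Epi φ := by
    refine ⟨fun {N} g g' e => Cofan.IsColimit.hom_ext (SheafOfModules.isColimitFreeCofan σ) _ _ fun j => ?_⟩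
    show SheafOfModules.ιFree j ≫ g = SheafOfModules.ιFree j ≫ g'
    have h1 : (ModSite.shPre (O.over U)).map (Sigma.ι (fun _ : σ => Q) j) ≫ φ =
        (adj (O.over U)).counit.app _ ≫ SheafOfModules.ιFree j := by
      rw [← Adjunction.homEquiv_naturality_left_symm, Sigma.ι_desc, Adjunction.homEquiv_counit]
      exact (adj (O.over U)).counit.naturality _
    rw [← cancel_epi ((adj (O.over U)).counit.app (SheafOfModules.unit (ModSite.ringSh (O.over U))))]
    erw [← reassoc_of% h1, ← reassoc_of% h1, e]
  have hunit : ψ = (adj (O.over U)).unit.app P ≫ (ModSite.toPre (O.over U)).map φ := by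
    exact (((adj (O.over U)).homEquiv_unit _ _ φ).symm.trans (Equiv.apply_symm_apply _ ψ)).symm
  obtain ⟨S₁, hS₁, h₁⟩ := ExtSupp8.exists_local_preimage φ z
  have hη := ((J.over U).W_iff_isLocallyBijective _).1 (W_unit (O.over U) P)
  haveI := hη.2
  refine bind_cover (J := J.over U) S₁ hS₁ fun A₁ a₁ ha₁ => ?_
  obtain ⟨y, hy⟩ := h₁ a₁ ha₁
  refine ⟨Presheaf.imageSieve ((PresheafOfModules.toPresheaf _).map ((adj (O.over U)).unit.app P)) (U := A₁) y,
    Presheaf.imageSieve_mem (J.over U) ((PresheafOfModules.toPresheaf _).map ((adj (O.over U)).unit.app P)) (U := op A₁) y,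
    fun A₂ a₂ ha₂ => ?_⟩
  obtain ⟨p, hp⟩ := ha₂
  have h2 : smap (FS (O := O) U σ) (a₂ ≫ a₁) z = ψ.app (op A₂) p := by
    rw [smap_comp, show smap (FS (O := O) U σ) a₁ z = φ.val.app (op A₁) y from hy.symm, ← app_smap, hunit]
    exact congrArg (φ.val.app (op A₂)) hp.symm
  rw [h2]
  let ev := PresheafOfModules.evaluation.{u} ((O.over U).obj ⋙ forget₂ CommRingCat.{u} RingCat.{u}) (op A₂)
  let V := Submodule.span ((O.over U).obj.obj (op A₂))
    (Set.range fun q : Σ _ : σ, Q.obj (op A₂) => ((Sigma.ι (fun _ : σ => Q) q.1).app (op A₂) q.2 : P.obj (op A₂)))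
  have hp' : p ∈ V := by
    have h3 : ModuleCat.ofHom V.mkQ = (0 : ev.obj P ⟶ ModuleCat.of _ (P.obj (op A₂) ⧸ V)) := by
      have hc : IsColimit (ev.mapCocone (colimit.cocone (Discrete.functor fun _ : σ => Q))) :=
        isColimitOfPreserves ev (colimit.isColimit _)
      refine hc.hom_ext fun j => ?_
      refine ModuleCat.hom_ext (LinearMap.ext fun c => ?_)
      exact (Submodule.Quotient.mk_eq_zero V).2 (Submodule.subset_span ⟨⟨j.as, c⟩, rfl⟩)
    exact (Submodule.Quotient.mk_eq_zero V).1 (congrArg (fun q : ev.obj P ⟶ _ => q.hom p) h3)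
  clear hp h2
  induction hp' using Submodule.span_induction with
  | mem x hx =>
    obtain ⟨⟨j, c⟩, rfl⟩ := hx
    refine ⟨{j}, fun _ => c, ?_⟩
    rw [Finset.sum_singleton]
    exact ConcreteCategory.congr_hom (congrArg (fun q : Q ⟶ _ => q.app (op A₂)) (Sigma.ι_desc (f := fun _ : σ => Q)
      (fun j => (ModSite.toPre (O.over U)).map (SheafOfModules.ιFree (R := ModSite.ringSh (O.over U)) j)) j)) c
  | zero => exact ⟨∅, 0, by rw [map_zero, Finset.sum_empty]⟩
  | add x y _ _ hx hy =>
    obtain ⟨F, c, hc⟩ := hx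
    obtain ⟨G, d, hd⟩ := hy
    refine ⟨F ∪ G, fun j => (if j ∈ F then c j else 0) + (if j ∈ G then d j else 0), ?_⟩
    rw [map_add, hc, hd]
    simp only [ins, map_add, Finset.sum_add_distrib]
    congr 1
    · refine Finset.sum_subset_zero_on_sdiff Finset.subset_union_left (fun j hj => ?_) fun j hj => by rw [if_pos hj]
      rw [if_neg (Finset.mem_sdiff.1 hj).2, map_zero]
    · refine Finset.sum_subset_zero_on_sdiff Finset.subset_union_right (fun j hj => ?_) fun j hj => by rw [if_pos hj]
      rw [if_neg (Finset.mem_sdiff.1 hj).2, map_zero]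
  | smul r x _ hx =>
    obtain ⟨F, c, hc⟩ := hx
    refine ⟨F, fun j => r * c j, ?_⟩
    rw [map_smul, hc, Finset.smul_sum]
    exact Finset.sum_congr rfl fun j _ =>
      ((SheafOfModules.ιFree (R := ModSite.ringSh (O.over U)) j).val.app (op A₂)).hom.map_smul r (c j) |>.symm

/-- A finitely supported section is determined by its coordinates. -/
theorem eq_sum_coord [DecidableEq σ] {A : Over U} (F : Finset σ) (c : σ → (O.over U).obj.obj (op A)) (j : σ) :
    (proj (O := O) (U := U) j).val.app (op A) (∑ i ∈ F, ins i (c i)) = if j ∈ F then c j else 0 := by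
  have e : ∀ i, (proj (O := O) (U := U) j).val.app (op A) (ins i (c i)) =
      if i = j then c i else (0 : (O.over U).obj.obj (op A)) := fun i => by
    show (SheafOfModules.ιFree i ≫ proj (O := O) (U := U) j).val.app (op A) (c i) = _
    rw [ιFree_proj]
    split_ifs <;> rfl
  rw [map_sum]
  refine (Finset.sum_congr rfl fun i _ => e i).trans ?_
  exact Finset.sum_ite_eq' F j c

end Groth.Agent.FormalModH7
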