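import Groth.Agent.Lib.FormalModH7.Forms
import Groth.Agent.Lib.FormalModH7.InfFree

/-!
# Quasi-coherent modules of finite type on locally Noetherian formal schemes are coherent
-/

set_option autoImplicit false
set_option linter.style.haveILetI false
set_option backward.isDefEq.respectTransparency false
set_option backward.isDefEq.respectTransparency.types false
universe u

open CategoryTheory CategoryTheory.Limits AlgebraicGeometry Opposite TopologicalSpace

namespace Groth.Agent.FormalModH7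

open ModFlat16

section Slice

variable {X : TopCat.{u}} {O : Sheaf (Opens.grothendieckTopology X) CommRingCat.{u}} {U : Opens X} {σ : Type u}

theorem mem_over_of_pointwise {A : Over U} {S : Sieve A}
    (h : ∀ x ∈ A.left, ∃ (A' : Over U) (a : A' ⟶ A), S a ∧ x ∈ A'.left) :
    S ∈ ((Opens.grothendieckTopology X).over U) A := by
  rw [GrothendieckTopology.mem_over_iff]
  intro x hx
  obtain ⟨A', a, ha, hxA⟩ := h x hx
  refine ⟨A'.left, a.left, ?_, hxA⟩
  rw [Sieve.overEquiv_iff]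
  let b : Over.mk (a.left ≫ A.hom) ⟶ A' := Over.homMk (𝟙 _) (Subsingleton.elim _ _)
  have := S.downward_closed ha b
  rwa [show b ≫ a = Over.homMk a.left from Over.OverMorphism.ext (Category.id_comp _)] at this

theorem exists_of_mem_over {A : Over U} {S : Sieve A} (hS : S ∈ ((Opens.grothendieckTopology X).over U) A) {x : X}
    (hx : x ∈ A.left) : ∃ (A' : Over U) (a : A' ⟶ A), S a ∧ x ∈ A'.left := by
  rw [GrothendieckTopology.mem_over_iff] at hS
  obtain ⟨W, l, hl, hxW⟩ := hS x hx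
  rw [Sieve.overEquiv_iff] at hl
  exact ⟨_, _, hl, hxW⟩

/-- A section all whose coordinates vanish is zero. -/
theorem eq_zero_of_coord [DecidableEq σ] {A : Over U} (x : ModSite.sect (FS (O := O) U σ) A)
    (h : ∀ j, (proj (O := O) (U := U) j).val.app (op A) x = 0) : x = 0 := by
  obtain ⟨S, hS, hS'⟩ := exists_finite_support x
  refine sect_ext _ S hS fun A' a ha => ?_
  obtain ⟨F, c, hc⟩ := hS' a ha
  rw [map_zero, hc]
  refine Finset.sum_eq_zero fun j hj => ?_
  have h1 : (proj (O := O) (U := U) j).val.app (op A') (smap (FS (O := O) U σ) a x) = 0 := by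
    rw [app_smap, h j, map_zero]
  rw [hc, eq_sum_coord, if_pos hj] at h1
  show ins j (c j) = 0
  rw [h1]
  exact map_zero _

/-- Over a quasi-compact open a section has finite support. -/
theorem exists_support_of_isCompact [DecidableEq σ] {A : Over U} (hA : IsCompact (A.left : Set X))
    (z : ModSite.sect (FS (O := O) U σ) A) :
    ∃ F : Finset σ, ∀ j ∉ F, (proj (O := O) (U := U) j).val.app (op A) z = 0 := by
  classical
  obtain ⟨S, hS, hS'⟩ := exists_finite_support z
  choose A' a ha hxA using fun x : A.left => exists_of_mem_over hS x.2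
  choose F c hc using fun x : A.left => hS' (a x) (ha x)
  obtain ⟨G, hG⟩ := hA.elim_finite_subcover (fun x : A.left => ((A' x).left : Set X)) (fun x => (A' x).left.2)
    fun x hx => Set.mem_iUnion.2 ⟨⟨x, hx⟩, hxA _⟩
  refine ⟨G.biUnion F, fun j hj => ?_⟩
  refine sect_ext (SheafOfModules.unit (ModSite.ringSh (O.over U))) (Sieve.generate (Presieve.ofArrows (fun x : G => A' x.1) fun x => a x.1))
    (mem_over_of_pointwise fun y hy => ?_) fun B b hb => ?_
  · obtain ⟨x, hx, hyx⟩ := Set.mem_iUnion₂.1 (hG hy)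
    exact ⟨A' x, a x, Sieve.le_generate _ _ _ (Presieve.ofArrows.mk (⟨x, hx⟩ : G)), hyx⟩
  · obtain ⟨B', b₁, b₂, ⟨x⟩, rfl⟩ := hb
    rw [map_zero, smap_comp, ← app_smap (proj (O := O) (U := U) j) (a x.1) z, hc, eq_sum_coord,
      if_neg fun h => hj (Finset.mem_biUnion.2 ⟨x.1, x.2, h⟩)]
    exact map_zero _

/-- The image of a finitely supported section. -/
theorem image_ins {N' N'' : ModSite.Mod (O.over U)} (f : FS (O := O) U σ ⟶ N') (g : N' ⟶ N'') {A A' : Over U}
    (a : A' ⟶ A) (F : Finset σ) (d : σ → (O.over U).obj.obj (op A)) :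
    smap N'' a (g.val.app (op A) (f.val.app (op A) (∑ r ∈ F, ins r (d r)))) =
      ∑ r ∈ F, rmap (O.over U) a (d r) • top N'' A' (g.val.app (topOver U) (topVal (SheafOfModules.ιFree r ≫ f))) := by
  rw [map_sum, map_sum, map_sum]
  refine Finset.sum_congr rfl fun r _ => ?_
  have e2 : f.val.app (op A) (ins r (d r)) = d r • top N' A (topVal (SheafOfModules.ιFree r ≫ f)) :=
    app_unit (SheafOfModules.ιFree r ≫ f) A (d r)
  rw [e2, map_smul, smap_smul]
  refine congrArg (rmap (O.over U) a (d r) • ·) ?_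
  rw [app_smap, smap_top]

/-- The coordinates of a relation. -/
theorem coord_rel [DecidableEq σ] {ι κ : Type u} [Fintype ι] {A A₀ A₁ : Over U} (kk : A ⟶ A₀) (a₁ : A₁ ⟶ A)
    (c : ι → (O.over U).obj.obj (op A)) (z : ι → ModSite.sect (FS (O := O) U σ) A₀) (F : Finset κ)
    (d : κ → (O.over U).obj.obj (op A₁)) (K : κ → ModSite.sect (FS (O := O) U σ) (Over.mk (𝟙 U)))
    (h : smap (FS (O := O) U σ) a₁ (∑ i, c i • smap _ kk (z i)) = ∑ r ∈ F, d r • top _ A₁ (K r)) (j : σ) :
    ∑ q : ι ⊕ F, Sum.elim (fun i => rmap (O.over U) a₁ (c i)) (fun r => d r.1) q *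
      rmap (O.over U) (a₁ ≫ kk) ((proj (O := O) (U := U) j).val.app (op A₀)
        (Sum.elim z (fun r => -top _ A₀ (K r.1)) q)) = 0 := by
  classical
  have hrel : ∑ q : ι ⊕ F, Sum.elim (fun i => rmap (O.over U) a₁ (c i)) (fun r => d r.1) q •
      smap (FS (O := O) U σ) (a₁ ≫ kk) (Sum.elim z (fun r => -top _ A₀ (K r.1)) q) = 0 := by
    rw [Fintype.sum_sum_type]
    simp only [Sum.elim_inl, Sum.elim_inr, map_neg, smul_neg, Finset.sum_neg_distrib]
    rw [← sub_eq_add_neg, sub_eq_zero]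
    simp only [smap_top]
    rw [Finset.univ_eq_attach, Finset.sum_attach F (fun r => d r • top (FS (O := O) U σ) A₁ (K r)), ← h, map_sum]
    exact Finset.sum_congr rfl fun i _ => by rw [smap_smul, ← smap_comp]
  have h0 := congrArg ((proj (O := O) (U := U) j).val.app (op A₁)) hrel
  rw [map_zero, app_comb] at h0
  refine Eq.trans (Finset.sum_congr rfl fun q _ => ?_) h0
  rw [app_smap]
  rfl

/-- A solution of the coordinate equations gives a relation. -/
theorem comb_of_coord [DecidableEq σ] {ι κ : Type u} [Fintype ι] [Fintype κ] {N' : ModSite.Mod (O.over U)} {A₀ : Over U}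
    (π : FS (O := O) U σ ⟶ N') (z : ι → ModSite.sect (FS (O := O) U σ) A₀)
    (R0 : κ → ModSite.sect (FS (O := O) U σ) A₀) (hR0 : ∀ r, π.val.app (op A₀) (R0 r) = 0) (G : Finset σ)
    (hz : ∀ i, ∀ j ∉ G, (proj (O := O) (U := U) j).val.app (op A₀) (z i) = 0)
    (hR : ∀ r, ∀ j ∉ G, (proj (O := O) (U := U) j).val.app (op A₀) (R0 r) = 0)
    (a : ι ⊕ κ → (O.over U).obj.obj (op A₀))
    (ha : ∀ j ∈ G, ∑ q, a q • (proj (O := O) (U := U) j).val.app (op A₀) (Sum.elim z (fun r => -R0 r) q) = 0) :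
    ∑ i, a (Sum.inl i) • π.val.app (op A₀) (z i) = 0 := by
  have h0 : ∑ q, a q • (Sum.elim z (fun r => -R0 r) q) = 0 := by
    refine eq_zero_of_coord _ fun j => ?_
    rw [app_comb]
    by_cases hj : j ∈ G
    · exact ha j hj
    · refine Finset.sum_eq_zero fun q _ => ?_
      refine (congrArg (a q • ·) ?_).trans (smul_zero _)
      rcases q with i | r
      · exact hz i j hj
      · show (proj (O := O) (U := U) j).val.app (op A₀) (-R0 r) = 0
        rw [map_neg, neg_eq_zero]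
        exact hR r j hj
  have h1 := congrArg (π.val.app (op A₀)) h0
  rw [map_zero, app_comb, Fintype.sum_sum_type] at h1
  simp only [Sum.elim_inl, Sum.elim_inr, map_neg, hR0, neg_zero, smul_zero, Finset.sum_const_zero, add_zero] at h1
  exact h1

/-- A map onto a restricted module lifts sections near a point. -/
theorem exists_lift_at {G : ModSite.Mod (O.over U)} {M : ModSite.Mod O} (π : G ⟶ (ModSite.restr O U).obj M) [Epi π]
    {A : Over U} (m : ModSite.sect M A.left) {x : X} (hx : x ∈ A.left) :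
    ∃ (A' : Over U) (a : A' ⟶ A), x ∈ A'.left ∧ ∃ z, π.val.app (op A') z = smap M a.left m := by
  obtain ⟨T, hT, hT'⟩ := ExtSupp8.exists_local_preimage π (V := A) m
  obtain ⟨A', a, ha, hxA⟩ := exists_of_mem_over hT hx
  obtain ⟨z, hz⟩ := hT' a ha
  exact ⟨A', a, hxA, z, hz⟩

/-- Lifts restrict. -/
theorem lift_restrict {G : ModSite.Mod (O.over U)} {M : ModSite.Mod O} (π : G ⟶ (ModSite.restr O U).obj M)
    {A A' A₀ : Over U} (a : A' ⟶ A) (b : A₀ ⟶ A') (m : ModSite.sect M A.left) (z : ModSite.sect G A')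
    (hz : π.val.app (op A') z = smap M a.left m) (e : A₀.left ⟶ A.left) :
    π.val.app (op A₀) (smap G b z) = smap M e m := by
  rw [app_smap, hz, Subsingleton.elim e (b.left ≫ a.left), smap_comp]
  rfl

/-- Locally a section is the image of a finitely supported section. -/
theorem exists_finite_lift {M : ModSite.Mod O} (π : FS (O := O) U σ ⟶ (ModSite.restr O U).obj M) [Epi π]
    {A : Over U} (m : ModSite.sect M A.left) :
    ∃ T ∈ Opens.grothendieckTopology X A.left, ∀ ⦃W : Opens X⦄ (l : W ⟶ A.left), T l →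
      ∃ (F : Finset σ) (d : σ → O.obj.obj (op W)), smap M l m = ∑ j ∈ F, d j •
        (top ((ModSite.restr O U).obj M) (Over.mk (l ≫ A.hom)) (topVal (SheafOfModules.ιFree j ≫ π)) : ModSite.sect M W) := by
  obtain ⟨S, hS, h⟩ := exists_local_preimage_over π m
  refine bind_cover S hS fun W₁ l₁ hl₁ => ?_
  let a₁ : Over.mk (l₁ ≫ A.hom) ⟶ A := Over.homMk l₁
  obtain ⟨z, hz⟩ := h a₁ hl₁
  obtain ⟨T, hT, hT'⟩ := exists_finite_support z
  refine ⟨Sieve.overEquiv _ T, (GrothendieckTopology.mem_over_iff _ T).1 hT, fun W₂ l₂ hl₂ => ?_⟩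
  rw [Sieve.overEquiv_iff] at hl₂
  obtain ⟨F, c, hc⟩ := hT' _ hl₂
  let a₂ : Over.mk (l₂ ≫ l₁ ≫ A.hom) ⟶ Over.mk (l₁ ≫ A.hom) := Over.homMk l₂
  refine ⟨F, c, ?_⟩
  have e1 : smap M (l₂ ≫ l₁) m = π.val.app (op (Over.mk (l₂ ≫ l₁ ≫ A.hom))) (smap _ a₂ z) := by
    rw [app_smap, hz, smap_comp]
    rfl
  refine e1.trans (((congrArg (π.val.app (op (Over.mk (l₂ ≫ l₁ ≫ A.hom)))) hc).trans (map_sum _ _ _)).trans ?_)
  exact Finset.sum_congr rfl fun j _ => app_unit (SheafOfModules.ιFree j ≫ π) (Over.mk (l₂ ≫ l₁ ≫ A.hom)) (c j)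

end Slice

theorem comb_comb {R N ι κ : Type*} [CommRing R] [AddCommGroup N] [Module R N] [Fintype ι] (d : κ → R) (F : Finset κ)
    (b : κ → ι → R) (t : ι → N) (x : κ → N) (h : ∀ j, x j = ∑ i, b j i • t i) :
    ∑ j ∈ F, d j • x j = ∑ i, (∑ j ∈ F, d j * b j i) • t i := by
  simp only [h, Finset.smul_sum, smul_smul, Finset.sum_smul]
  exact Finset.sum_comm

theorem map_span_pi {R S : Type*} [CommRing R] [CommRing S] (φ : R →+* S) {ι κ : Type*} (Rr : κ → ι → R)
    {z : ι → R} (hz : z ∈ Submodule.span R (Set.range Rr)) :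
    (fun i => φ (z i)) ∈ Submodule.span S (Set.range fun r i => φ (Rr r i)) := by
  induction hz using Submodule.span_induction with
  | mem y hy => obtain ⟨r, rfl⟩ := hy; exact Submodule.subset_span ⟨r, rfl⟩
  | zero =>
    rw [show (fun i => φ ((0 : ι → R) i)) = 0 from funext fun i => map_zero φ]
    exact Submodule.zero_mem _
  | add a b _ _ ha hb =>
    rw [show (fun i => φ ((a + b) i)) = (fun i => φ (a i)) + fun i => φ (b i) from funext fun i => map_add φ _ _]
    exact Submodule.add_mem _ ha hb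
  | smul d a _ ha =>
    rw [show (fun i => φ ((d • a) i)) = φ d • fun i => φ (a i) from funext fun i => map_mul φ _ _]
    exact Submodule.smul_mem _ _ ha

theorem mem_span_image_of_fg {R S : Type*} [CommRing R] [CommRing S] (φ : R →+* S) {ι : Type*}
    (T : Finset (ι → R)) {N : Submodule R (ι → R)} (hT : Submodule.span R (T : Set (ι → R)) = N) (v : ι → R)
    (hv : v ∈ N) : (fun i => φ (v i)) ∈ Submodule.span S (Set.range fun (r : T) i => φ (r.1 i)) := by
  refine map_span_pi φ (fun r : T => r.1) ?_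
  rw [← hT] at hv
  exact Submodule.span_mono (s := (T : Set (ι → R))) (t := Set.range fun r : T => (r.1 : ι → R))
    (fun w hw => ⟨⟨w, hw⟩, rfl⟩) hv

variable {𝔛 : FSch.Sys.{u}} (hN : 𝔛.IsLocNoethFormal) {𝔉 : FSch.ModF 𝔛 hN.1}

set_option maxHeartbeats 1000000 in
/-- The relations between finitely many sections lifting to a presentation are finitely generated. -/
theorem rels_of_presentation {X₀ V : (𝔛.X 0).Opens} (hV : IsAffineOpen V) (hVX : V ≤ X₀)
    (P : SheafOfModules.Presentation ((ModSite.restr (𝔛.Osh hN.1) X₀).obj 𝔉)) {ι : Type u} [Fintype ι]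
    (t : ι → FSec hN 𝔉 V)
    (z : ι → ModSite.sect (FS (O := 𝔛.Osh hN.1) X₀ P.generators.I) (Over.mk (homOfLE hVX)))
    (hz : ∀ k, P.generators.π.val.app (op (Over.mk (homOfLE hVX))) (z k) = t k) :
    ∃ T : Finset (ι → AV 𝔛 hN.1 V), Rels 𝔉 V t (fun r : T => r.1) := by
  classical
  haveI := (structure_AV hN hV).1
  let A₀ : Over X₀ := Over.mk (homOfLE hVX)
  let π := P.generators.π
  let Φ := Fintype.linearCombination (AV 𝔛 hN.1 V) t
  obtain ⟨T, hT⟩ : (LinearMap.ker Φ).FG := IsNoetherian.noetherian _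
  let R0 : P.relations.I → ModSite.sect (FS (O := 𝔛.Osh hN.1) X₀ P.generators.I) A₀ := fun r =>
    top _ A₀ ((kernel.ι π).val.app (topOver X₀) (topVal (SheafOfModules.ιFree r ≫ P.relations.π)))
  have hR0 : ∀ r, π.val.app (op A₀) (R0 r) = 0 := fun r => by
    rw [app_smap]
    refine (congrArg (top _ A₀) ?_).trans (map_zero _)
    exact app_smap_comp_zero _ π (kernel.condition π) _
  refine ⟨T, rels_mk _ _ (fun r => ?_) fun {W} k c hc => ?_⟩
  · have h1 : r.1 ∈ LinearMap.ker Φ := hT ▸ Submodule.subset_span r.2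
    rw [LinearMap.mem_ker, Fintype.linearCombination_apply] at h1
    exact h1
  let A : Over X₀ := Over.mk (homOfLE (k.le.trans hVX))
  let kk : A ⟶ A₀ := Over.homMk k (Subsingleton.elim _ _)
  let y₀ : ModSite.sect (FS (O := 𝔛.Osh hN.1) X₀ P.generators.I) A := ∑ i, (c i : ((𝔛.Osh hN.1).over X₀).obj.obj (op A)) • smap _ kk (z i)
  have hy₀ : π.val.app (op A) y₀ = 0 := by
    rw [app_comb]
    refine Eq.trans (Finset.sum_congr rfl fun i _ => congrArg (c i • ·) ?_) hc
    rw [app_smap, hz]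
    rfl
  have hy₀def : y₀ = ∑ i, (c i : ((𝔛.Osh hN.1).over X₀).obj.obj (op A)) • smap _ kk (z i) := rfl
  clear_value y₀
  obtain ⟨y, hy⟩ := exists_kernel_section π y₀ hy₀
  obtain ⟨S₁, hS₁, h₁⟩ := ExtSupp8.exists_local_preimage P.relations.π y
  let S : Sieve W :=
    { arrows := fun W' _ => ∃ (A₁ : Over X₀) (_ : IsAffineOpen A₁.left) (a₁ : A₁ ⟶ A)
        (F : Finset P.relations.I) (d : P.relations.I → ((𝔛.Osh hN.1).over X₀).obj.obj (op A₁)),
        W' ≤ A₁.left ∧ smap _ a₁ y₀ = ∑ r ∈ F, d r • top _ A₁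
          ((kernel.ι π).val.app (topOver X₀) (topVal (SheafOfModules.ιFree r ≫ P.relations.π)))
      downward_closed := by
        rintro W₁ W₂ f ⟨A₁, h1, a₁, F, d, h3, h5⟩ g
        exact ⟨A₁, h1, a₁, F, d, g.le.trans h3, h5⟩ }
  have hS : S ∈ Opens.grothendieckTopology (𝔛.X 0) W := fun x hx => by
    obtain ⟨A₁, a₁, ha₁, hx₁⟩ := exists_of_mem_over hS₁ (x := x) hx
    obtain ⟨w, hw⟩ := h₁ a₁ ha₁
    obtain ⟨S₂, hS₂, h₂⟩ := exists_finite_support w
    obtain ⟨A₂, a₂, ha₂, hx₂⟩ := exists_of_mem_over hS₂ hx₁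
    obtain ⟨F, d, hd⟩ := h₂ a₂ ha₂
    obtain ⟨U', hU', hxU, hle⟩ := exists_isAffineOpen_mem_and_subset (U := A₂.left) hx₂
    let A₃ : Over X₀ := Over.mk (homOfLE hle ≫ A₂.hom)
    let a₃ : A₃ ⟶ A₂ := Over.homMk (homOfLE hle) rfl
    have hUW : U' ≤ W := hle.trans (a₂ ≫ a₁).left.le
    have hmem : smap _ (a₃ ≫ a₂ ≫ a₁) y₀ = ∑ r ∈ F, rmap ((𝔛.Osh hN.1).over X₀) a₃ (d r) • top _ A₃
        ((kernel.ι π).val.app (topOver X₀) (topVal (SheafOfModules.ιFree r ≫ P.relations.π))) := by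
      have e1 : smap _ (a₂ ≫ a₁) y₀ = (kernel.ι π).val.app (op A₂) (P.relations.π.val.app (op A₂) (∑ r ∈ F, ins r (d r))) := by
        refine (smap_comp (F := FS (O := 𝔛.Osh hN.1) X₀ P.generators.I) a₁ a₂ y₀).trans ?_
        refine (congrArg (smap _ a₂) ((congrArg (smap _ a₁) hy.symm).trans (app_smap (kernel.ι π) a₁ y).symm)).trans ?_
        refine (app_smap (kernel.ι π) a₂ _).symm.trans (congrArg ((kernel.ι π).val.app (op A₂)) ?_)
        refine (congrArg (smap _ a₂) hw.symm).trans ?_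
        exact (app_smap P.relations.π a₂ w).symm.trans (congrArg (P.relations.π.val.app (op A₂)) hd)
      refine (smap_comp (F := FS (O := 𝔛.Osh hN.1) X₀ P.generators.I) (a₂ ≫ a₁) a₃ y₀).trans ?_
      exact (congrArg (smap _ a₃) e1).trans (image_ins P.relations.π (kernel.ι π) a₃ F d)
    exact ⟨U', homOfLE hUW, ⟨A₃, hU', a₃ ≫ a₂ ≫ a₁, F, fun r => rmap ((𝔛.Osh hN.1).over X₀) a₃ (d r), le_refl U', hmem⟩, hxU⟩
  refine ⟨S, hS, fun W' l hl => ?_⟩
  obtain ⟨A₁, hU', a₁, F, d, hWU, hd⟩ := hl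
  have hd' := (congrArg (smap _ a₁) hy₀def.symm).trans hd
  have hUW : A₁.left ≤ W := a₁.left.le
  have hle : A₁.left ≤ V := hUW.trans k.le
  let a₀ : A₁ ⟶ A₀ := a₁ ≫ kk
  have hsupp : ∀ x : ModSite.sect (FS (O := 𝔛.Osh hN.1) X₀ P.generators.I) A₀, ∃ G : Finset P.generators.I,
      ∀ j ∉ G, (proj (O := 𝔛.Osh hN.1) (U := X₀) j).val.app (op A₀) x = 0 :=
    fun x => exists_support_of_isCompact hV.isCompact x
  choose G₁ hG₁ using fun i => hsupp (z i)
  choose G₂ hG₂ using fun r : F => hsupp (R0 r)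
  let G : Finset P.generators.I := Finset.univ.biUnion G₁ ∪ Finset.univ.biUnion G₂
  let w : ι ⊕ F → ModSite.sect (FS (O := 𝔛.Osh hN.1) X₀ P.generators.I) A₀ := Sum.elim z fun r => -R0 r
  let f : P.generators.I → ι ⊕ F → AV 𝔛 hN.1 V := fun j q => (proj (O := 𝔛.Osh hN.1) (U := X₀) j).val.app (op A₀) (w q)
  let cd : ι ⊕ F → AV 𝔛 hN.1 A₁.left := Sum.elim (fun i => rA hN.1 hUW (c i)) fun r => d r.1
  have hcd : ∀ j ∈ G, ∑ q, cd q * rA hN.1 hle (f j q) = 0 := fun j _ => by
    exact coord_rel kk a₁ (fun i => (c i : ((𝔛.Osh hN.1).over X₀).obj.obj (op A))) z F d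
      (fun r => (kernel.ι π).val.app (topOver X₀) (topVal (SheafOfModules.ιFree r ≫ P.relations.π)))
      hd' j
  have h5 := mem_span_sol hN hV hU' hle f G cd hcd
  let L : (ι ⊕ F → AV 𝔛 hN.1 A₁.left) →ₗ[AV 𝔛 hN.1 A₁.left] (ι → AV 𝔛 hN.1 A₁.left) :=
    LinearMap.funLeft (AV 𝔛 hN.1 A₁.left) (AV 𝔛 hN.1 A₁.left) Sum.inl
  have hle2 : Submodule.span (AV 𝔛 hN.1 A₁.left) (Set.range fun (a : sol hN f G) q => rA hN.1 hle (a.1 q)) ≤
      (Submodule.span (AV 𝔛 hN.1 A₁.left) (Set.range fun (r : T) i => rA hN.1 hle (r.1 i))).comap L := by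
    rw [Submodule.span_le]
    rintro _ ⟨a, rfl⟩
    have hrel : (fun i => a.1 (Sum.inl i)) ∈ LinearMap.ker Φ := by
      have h1 := comb_of_coord π z (fun r : F => R0 r) (fun r => hR0 r) G
        (fun i j hj => hG₁ i j fun h => hj (Finset.mem_union_left _ (Finset.mem_biUnion.2 ⟨i, Finset.mem_univ _, h⟩)))
        (fun r j hj => hG₂ r j fun h => hj (Finset.mem_union_right _ (Finset.mem_biUnion.2 ⟨r, Finset.mem_univ _, h⟩)))
        a.1 a.2
      rw [LinearMap.mem_ker, Fintype.linearCombination_apply]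
      exact (Finset.sum_congr rfl fun i _ => congrArg (a.1 (Sum.inl i) • ·) (hz i).symm).trans h1
    exact mem_span_image_of_fg (rA hN.1 hle) T hT (fun i => a.1 (Sum.inl i)) hrel
  obtain ⟨e, he⟩ := (Submodule.mem_span_range_iff_exists_fun (AV 𝔛 hN.1 A₁.left)).1 (hle2 h5)
  refine ⟨fun r => rA hN.1 hWU (e r), fun i => ?_⟩
  have e1 : rA hN.1 hUW (c i) = ∑ r : T, e r * rA hN.1 hle (r.1 i) :=
    ((congrFun he i).symm.trans (Finset.sum_apply i Finset.univ fun (r : T) => e r • fun k => rA hN.1 hle (r.1 k)))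
  have e2 := congrArg (rA hN.1 hWU) e1
  have e3 : rmap (𝔛.Osh hN.1) l (c i) = rA hN.1 hWU (rA hN.1 hUW (c i)) :=
    (congrArg (fun z => rmap (𝔛.Osh hN.1) z (c i)) (Subsingleton.elim l (homOfLE (hWU.trans hUW)))).trans
      (rA_comp hN.1 hUW hWU (c i)).symm
  refine e3.trans (e2.trans ((map_sum (rA hN.1 hWU) _ _).trans (Finset.sum_congr rfl fun r _ => ?_)))
  refine (map_mul (rA hN.1 hWU) _ _).trans (congrArg (rA hN.1 hWU (e r) * ·) ?_)
  exact (rA_comp hN.1 hle hWU (r.1 i)).trans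
    (congrArg (fun z => rmap (𝔛.Osh hN.1) z (r.1 i)) (Subsingleton.elim (homOfLE (hWU.trans hle)) (l ≫ k)))

/-- A presentation by arbitrary free modules and finitely many sections lifting to it give a finite presentation. -/
theorem hasPres_of_presentation {X₀ V : (𝔛.X 0).Opens} (hV : IsAffineOpen V) (hVX : V ≤ X₀)
    (P : SheafOfModules.Presentation ((ModSite.restr (𝔛.Osh hN.1) X₀).obj 𝔉)) {ι : Type u} [Fintype ι]
    (t : ι → FSec hN 𝔉 V) (ht : Gens 𝔉 V t)
    (z : ι → ModSite.sect (FS (O := 𝔛.Osh hN.1) X₀ P.generators.I) (Over.mk (homOfLE hVX)))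
    (hz : ∀ k, P.generators.π.val.app (op (Over.mk (homOfLE hVX))) (z k) = t k) : HasPres 𝔉 V :=
  have ⟨T, hT⟩ := rels_of_presentation hN hV hVX P t z hz
  ⟨ι, T, inferInstance, inferInstance, t, fun r => r.1, ht, hT⟩

set_option maxHeartbeats 1000000 in
/-- A quasi-coherent module of finite type is finitely presented. -/
theorem isFinitePresentation_of_qcoh [hq : SheafOfModules.IsQuasicoherent (R := ModSite.ringSh (𝔛.Osh hN.1)) 𝔉]
    [SheafOfModules.IsFiniteType (R := ModSite.ringSh (𝔛.Osh hN.1)) 𝔉] :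
    SheafOfModules.IsFinitePresentation (R := ModSite.ringSh (𝔛.Osh hN.1)) 𝔉 := by
  classical
  obtain ⟨q⟩ := hq.nonempty_quasicoherentData
  refine isFinitePresentation_of_covd fun X => ?_
  let S : Sieve X :=
    { arrows := fun W' _ => ∃ V : (𝔛.X 0).Opens, W' ≤ V ∧ HasPres 𝔉 V
      downward_closed := by
        rintro W₁ W₂ f ⟨V, h1, h2⟩ g
        exact ⟨V, g.le.trans h1, h2⟩ }
  refine ⟨S, fun x hx => ?_, fun U k hk => ?_⟩
  · obtain ⟨Y, g, hg, hxY⟩ := q.coversTop X x hx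
    obtain ⟨i, ⟨gi⟩⟩ := hg
    obtain ⟨S', hS', hS''⟩ := covd_hasGens (M := 𝔉) Y
    obtain ⟨U, l, hl, hxU⟩ := hS' x hxY
    obtain ⟨ι, hι, s, hs⟩ := hS'' l hl
    let AU : Over (q.X i) := Over.mk (l ≫ gi)
    let π := (q.presentation i).generators.π
    have hlift := fun k : ι => exists_lift_at π (A := AU) (s k) (x := x) hxU
    choose A' a hxA z hz using hlift
    obtain ⟨V, hV, hxV, hle⟩ := exists_isAffineOpen_mem_and_subset
      (U := U ⊓ Finset.univ.inf fun k => (A' k).left) (x := x) ⟨hxU, by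
        have key : ∀ F : Finset ι, x ∈ F.inf fun k => (A' k).left := fun F => by
          induction F using Finset.induction_on with
          | empty => simp
          | @insert k F _ ih => rw [Finset.inf_insert]; exact ⟨hxA k, ih⟩
        exact key _⟩
    have hVU : V ≤ U := hle.trans inf_le_left
    have hVA : ∀ k, V ≤ (A' k).left := fun k => hle.trans (inf_le_right.trans (Finset.inf_le (f := fun k => (A' k).left) (Finset.mem_univ k) : _ ≤ (A' k).left))
    have hVX : V ≤ q.X i := hVU.trans (l ≫ gi).le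
    let A₀ : Over (q.X i) := Over.mk (homOfLE hVX)
    let b : ∀ k, A₀ ⟶ A' k := fun k => Over.homMk (homOfLE (hVA k)) (Subsingleton.elim _ _)
    refine ⟨V, homOfLE ((hVU.trans l.le).trans g.le), ⟨V, le_rfl, ?_⟩, hxV⟩
    exact hasPres_of_presentation hN hV hVX (q.presentation i) (fun k => smap 𝔉 (homOfLE hVU) (s k))
      (gens_smap (homOfLE hVU) hs) (fun k => smap _ (b k) (z k))
      fun k => lift_restrict π (A := AU) (a k) (b k) (s k) (z k) (hz k) (homOfLE hVU)
  · obtain ⟨V, h1, h2⟩ := hk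
    exact HasPres.res (homOfLE h1) h2

end Groth.Agent.FormalModH7
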