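import Groth.Agent.Lib.FormalModH7.Glue
import Groth.Agent.Lib.FormalModH7.Qcoh
import Groth.Agent.Lib.FormalModH7.QGen

/-!
# Sections of quasi-coherent modules on affine opens of locally Noetherian formal schemes
-/

set_option autoImplicit false
set_option linter.style.haveILetI false
set_option linter.unusedSectionVars false
set_option backward.isDefEq.respectTransparency false
set_option backward.isDefEq.respectTransparency.types false
universe u

open CategoryTheory CategoryTheory.Limits AlgebraicGeometry Opposite TopologicalSpace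

namespace Groth.Agent.FormalModH7

open ModFlat16

/-- Vectors of coefficients differing by relations give the same combination. -/
theorem comb_eq_of_sub_mem {R N ι κ : Type*} [CommRing R] [AddCommGroup N] [Module R N] [Fintype ι] {Rr : κ → ι → R}
    {c d : ι → R} (h : (fun j => c j - d j) ∈ Submodule.span R (Set.range Rr)) (g : ι → N)
    (h0 : ∀ r, ∑ j, Rr r j • g j = 0) : ∑ j, c j • g j = ∑ j, d j • g j := by
  rw [← sub_eq_zero, ← Finset.sum_sub_distrib]
  simp only [← sub_smul]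
  rw [← Fintype.linearCombination_apply R g (fun j => c j - d j)]
  refine (Submodule.span_le (p := LinearMap.ker (Fintype.linearCombination R g))).2 ?_ h
  rintro _ ⟨r, rfl⟩
  exact (Fintype.linearCombination_apply R g (Rr r)).trans (h0 r)

variable {𝔛 : FSch.Sys.{u}} (hN : 𝔛.IsLocNoethFormal)

/-- A vector of functions on an affine open which is locally a combination of given ones is a combination. -/
theorem mem_span_rA_of_locally {U : (𝔛.X 0).Opens} (hU : IsAffineOpen U) {ι κ : Type*} [Fintype ι] [Fintype κ]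
    (R : κ → ι → AV 𝔛 hN.1 U) (c : ι → AV 𝔛 hN.1 U)
    (h : ∀ x ∈ U, ∃ (W : (𝔛.X 0).Opens) (e : W ≤ U), x ∈ W ∧
      ∃ d : κ → AV 𝔛 hN.1 W, ∀ i, rA hN.1 e (c i) = ∑ r, d r * rA hN.1 e (R r i)) :
    c ∈ Submodule.span (AV 𝔛 hN.1 U) (Set.range R) := by
  refine mem_span_of_levels hN hU R c fun n => mem_span_of_locally (isAffineOpen_lvU hN hU n) _ _ fun y hy => ?_
  obtain ⟨W, e, hxW, d, hd⟩ := h ((𝔛.gInv hN.1 n).hom y) hy
  refine ⟨𝔛.lvU hN.1 n W, lvU_mono hN.1 e n, hxW, fun r => prj 𝔛 hN.1 W n (d r), fun i => ?_⟩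
  have h1 := congrArg (prj 𝔛 hN.1 W n) (hd i)
  rw [map_sum] at h1
  simp only [map_mul, prj_rA] at h1
  exact h1

variable {𝔉 : FSch.ModF 𝔛 hN.1} {X₀ V : (𝔛.X 0).Opens} (hV : IsAffineOpen V) (hVX : V ≤ X₀)
  (P : SheafOfModules.Presentation ((ModSite.restr (𝔛.Osh hN.1) X₀).obj 𝔉))

/-- The generators of a presentation, restricted. -/
noncomputable def gX (j : P.generators.I) : FSec hN 𝔉 V :=
  smap 𝔉 (homOfLE hVX) (topVal (SheafOfModules.ιFree j ≫ P.generators.π))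

theorem π_ins (j : P.generators.I) (c : AV 𝔛 hN.1 V) :
    P.generators.π.val.app (op (Over.mk (homOfLE hVX))) (ins (A := Over.mk (homOfLE hVX)) j c) =
      (c • gX hN hVX P j : FSec hN 𝔉 V) :=
  app_unit (SheafOfModules.ιFree j ≫ P.generators.π) (Over.mk (homOfLE hVX)) c

/-- The restricted generators generate. -/
theorem genF_gX : GenF 𝔉 V (gX hN hVX P) := fun W k x => by
  haveI : Epi P.generators.π := inferInstance
  obtain ⟨T, hT, h⟩ := exists_finite_lift P.generators.π (A := Over.mk (k ≫ homOfLE hVX)) x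
  refine ⟨T, hT, fun W' l hl => ?_⟩
  obtain ⟨F, d, hd⟩ := h l hl
  refine ⟨F, d, hd.trans (Finset.sum_congr rfl fun j _ => congrArg (d j • ·) ?_)⟩
  exact (congrArg (fun z => smap 𝔉 z (topVal (SheafOfModules.ιFree j ≫ P.generators.π)))
    (Subsingleton.elim _ ((l ≫ k) ≫ homOfLE hVX))).trans (smap_comp (homOfLE hVX) (l ≫ k) _)

include hV in
/-- Relations between combinations of the generators. -/
theorem exists_rels {ι : Type u} [Fintype ι] (t : ι → FSec hN 𝔉 V)
    (ht : ∀ i, ∃ (F : Finset P.generators.I) (c : P.generators.I → AV 𝔛 hN.1 V), t i = ∑ j ∈ F, c j • gX hN hVX P j) :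
    ∃ T : Finset (ι → AV 𝔛 hN.1 V), Rels 𝔉 V t (fun r : T => r.1) := by
  choose F c hc using ht
  refine rels_of_presentation hN hV hVX P t (fun i => ∑ j ∈ F i, ins (A := Over.mk (homOfLE hVX)) j (c i j)) fun i => ?_
  rw [map_sum, hc]
  exact Finset.sum_congr rfl fun j _ => π_ins hN hVX P j (c i j)

include hV in
theorem exists_rels_gX (F : Finset P.generators.I) :
    ∃ T : Finset (F → AV 𝔛 hN.1 V), Rels 𝔉 V (fun j : F => gX hN hVX P j.1) (fun r : T => r.1) :=
  exists_rels hN hV hVX P _ fun j => ⟨{j.1}, fun _ => 1, by rw [Finset.sum_singleton, one_smul]⟩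

/-- A relation on an affine open is a combination of the given ones. -/
theorem mem_span_of_rels {U : (𝔛.X 0).Opens} (hU : IsAffineOpen U) (hUV : U ≤ V) {ι κ : Type u} [Fintype ι] [Fintype κ]
    {t : ι → FSec hN 𝔉 V} {R : κ → ι → AV 𝔛 hN.1 V} (hR : Rels 𝔉 V t R) (c : ι → AV 𝔛 hN.1 U)
    (hc : ∑ i, c i • smap 𝔉 (homOfLE hUV) (t i) = 0) :
    c ∈ Submodule.span (AV 𝔛 hN.1 U) (Set.range fun r i => rA hN.1 hUV (R r i)) := by
  obtain ⟨S, hS, h⟩ := rels_apply hR (homOfLE hUV) c hc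
  refine mem_span_rA_of_locally hN hU _ c fun x hx => ?_
  obtain ⟨W, l, hl, hxW⟩ := hS x hx
  obtain ⟨d, hd⟩ := h l hl
  refine ⟨W, l.le, hxW, d, fun i => (hd i).trans (Finset.sum_congr rfl fun r _ => congrArg (d r * ·) ?_)⟩
  exact (congrArg (fun z => rmap (𝔛.Osh hN.1) z (R r i)) (Subsingleton.elim _ (homOfLE (l.le.trans hUV)))).trans
    (rA_comp hN.1 hUV l.le (R r i)).symm

theorem smap_comb {W : (𝔛.X 0).Opens} (i : W ≤ V) {ι : Type*} (F : Finset ι) (c : ι → AV 𝔛 hN.1 V) (t : ι → FSec hN 𝔉 V) :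
    smap 𝔉 (homOfLE i) (∑ j ∈ F, c j • t j) = ∑ j ∈ F, rA hN.1 i (c j) • smap 𝔉 (homOfLE i) (t j) :=
  (map_sum (smap 𝔉 (homOfLE i)) _ _).trans (Finset.sum_congr rfl fun j _ => smap_smul (homOfLE i) _ _)

set_option maxHeartbeats 1000000 in
include hV in
/-- Every section over an affine open is a finite combination of the generators. -/
theorem exists_lift_gX (s : FSec hN 𝔉 V) :
    ∃ (F : Finset P.generators.I) (c : P.generators.I → AV 𝔛 hN.1 V), s = ∑ j ∈ F, c j • gX hN hVX P j := by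
  classical
  obtain ⟨S, hS, h⟩ := genF_gX hN hVX P (𝟙 V) s
  have hloc : ∀ x : (V : Set (𝔛.X 0)), ∃ a : AV 𝔛 hN.1 V, x.1 ∈ fD hN a ∧
      ∃ (F : Finset P.generators.I) (c : P.generators.I → AV 𝔛 hN.1 (fD hN a)),
        smap 𝔉 (homOfLE (fD_le hN a)) s = ∑ j ∈ F, c j • smap 𝔉 (homOfLE (fD_le hN a)) (gX hN hVX P j) := fun x => by
    obtain ⟨W, l, hl, hxW⟩ := hS x.1 x.2
    obtain ⟨F, c, hc⟩ := h l hl
    obtain ⟨a, ha, hxa⟩ := exists_fD_le hN hV x.2 hxW
    refine ⟨a, hxa, F, fun j => rA hN.1 ha (c j), ?_⟩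
    have e : ∀ z : FSec hN 𝔉 V, smap 𝔉 (homOfLE (fD_le hN a)) z = smap 𝔉 (homOfLE ha) (smap 𝔉 l z) := fun z =>
      (congrArg (fun q => smap 𝔉 q z) (Subsingleton.elim _ (homOfLE ha ≫ l))).trans (smap_comp l (homOfLE ha) z)
    rw [e, hc, smap_comb hN]
    refine Finset.sum_congr rfl fun j _ => congrArg (rA hN.1 ha (c j) • ·) ?_
    rw [e, Category.comp_id]
  choose a hxa F c hc using hloc
  obtain ⟨T', hT'⟩ := hV.isCompact.elim_finite_subcover (fun x : (V : Set (𝔛.X 0)) => (fD hN (a x) : Set (𝔛.X 0)))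
    (fun x => (fD hN (a x)).2) fun x hx => Set.mem_iUnion.2 ⟨⟨x, hx⟩, hxa _⟩
  have hg : V ≤ ⨆ t : T', fD hN (a t.1) := fun x hx => by
    obtain ⟨t, ht, hxt⟩ := Set.mem_iUnion₂.1 (hT' hx)
    exact Opens.mem_iSup.2 ⟨⟨t, ht⟩, hxt⟩
  let F₀ := T'.biUnion F
  let d : ∀ t : T', F₀ → AV 𝔛 hN.1 (fD hN (a t.1)) := fun t j => if j.1 ∈ F t.1 then c t.1 j.1 else 0
  have hd : ∀ t : T', smap 𝔉 (homOfLE (fD_le hN (a t.1))) s =
      ∑ j : F₀, d t j • smap 𝔉 (homOfLE (fD_le hN (a t.1))) (gX hN hVX P j.1) := fun t => by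
    rw [hc, Finset.univ_eq_attach, Finset.sum_attach F₀ (fun j => (if j ∈ F t.1 then c t.1 j else 0) •
      smap 𝔉 (homOfLE (fD_le hN (a t.1))) (gX hN hVX P j))]
    refine Eq.trans ?_ (Finset.sum_subset (fun j hj => Finset.mem_biUnion.2 ⟨t.1, t.2, hj⟩) fun j _ hj => by
      rw [if_neg hj, zero_smul])
    exact Finset.sum_congr rfl fun j hj => by rw [if_pos hj]
  obtain ⟨T, hT⟩ := exists_rels_gX hN hV hVX P F₀
  have hd' : ∀ (t : T') (W : (𝔛.X 0).Opens) (i : W ≤ fD hN (a t.1)), smap 𝔉 (homOfLE (i.trans (fD_le hN _))) s =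
      ∑ j : F₀, rA hN.1 i (d t j) • smap 𝔉 (homOfLE (i.trans (fD_le hN _))) (gX hN hVX P j.1) := fun t W i => by
    have h1 := congrArg (smap 𝔉 (homOfLE i)) (hd t)
    rw [smap_comb hN, ← smap_comp] at h1
    simp only [← smap_comp] at h1
    exact h1
  obtain ⟨c₀, hc₀⟩ := exists_glue hN hV (fun r : T => r.1) (fun t : T' => a t.1) hg d fun p q => by
    refine mem_span_of_rels hN (isAffineOpen_fD hN hV _) (fD_le hN _) hT _ ?_
    simp only [sub_smul, Finset.sum_sub_distrib]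
    rw [← hd' q _ (fD_mul hN (a q.1) (a p.1) ▸ inf_le_left), ← hd' p _ (fD_mul hN (a q.1) (a p.1) ▸ inf_le_right), sub_self]
  refine ⟨F₀, fun j => if hj : j ∈ F₀ then c₀ ⟨j, hj⟩ else 0, ?_⟩
  rw [← Finset.sum_coe_sort F₀ (fun j => (if hj : j ∈ F₀ then c₀ ⟨j, hj⟩ else 0) • gX hN hVX P j)]
  refine sect_ext 𝔉 (Sieve.generate (Presieve.ofArrows (fun t : T' => fD hN (a t.1)) fun t => homOfLE (fD_le hN (a t.1))))
    (fun x hx => ?_) fun W l hl => ?_
  · obtain ⟨t, ht⟩ := Opens.mem_iSup.1 (hg hx)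
    exact ⟨_, homOfLE (fD_le hN (a t.1)), Sieve.le_generate _ _ _ (Presieve.ofArrows.mk t), ht⟩
  · obtain ⟨W', l₁, l₂, ⟨t⟩, rfl⟩ := hl
    rw [smap_comp, smap_comp]
    refine congrArg (smap 𝔉 l₁) ((hd t).trans (Eq.trans ?_ (smap_comb hN _ Finset.univ _ _).symm))
    have h0 : ∀ r : T, ∑ j : F₀, rA hN.1 (fD_le hN (a t.1)) (r.1 j) •
        smap 𝔉 (homOfLE (fD_le hN (a t.1))) (gX hN hVX P j.1) = 0 := fun r => by
      rw [← smap_comb hN _ Finset.univ, hT.1 r, map_zero]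
    refine (comb_eq_of_sub_mem (hc₀ t) (fun j : F₀ => smap 𝔉 (homOfLE (fD_le hN (a t.1))) (gX hN hVX P j.1)) h0).symm.trans ?_
    exact Finset.sum_congr rfl fun j _ => by simp only [dif_pos j.2]

include hV hVX P in
/-- The relations between any sections on an affine open are locally generated by global relations. -/
theorem relF_of_pres {σ : Type u} (t : σ → FSec hN 𝔉 V) : RelF 𝔉 V t := fun W k F c hc => by
  classical
  obtain ⟨T, hT⟩ := exists_rels hN hV hVX P (fun j : F => t j.1) fun _ => exists_lift_gX hN hV hVX P _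
  obtain ⟨S, hS, h⟩ := rels_apply hT k (fun j : F => c j.1) (by
    refine Eq.trans ?_ hc
    exact Finset.sum_coe_sort F (fun j => c j • smap 𝔉 k (t j)))
  refine ⟨S, hS, fun W' l hl => ?_⟩
  obtain ⟨e, he⟩ := h l hl
  refine ⟨T, inferInstance, F, fun r j => if hj : j ∈ F then r.1 ⟨j, hj⟩ else 0, e, subset_rfl, fun r => ?_, fun j hj => ?_⟩
  · refine Eq.trans ?_ (hT.1 r)
    rw [← Finset.sum_coe_sort F (fun j => (if hj : j ∈ F then r.1 ⟨j, hj⟩ else 0) • t j)]
    exact Finset.sum_congr rfl fun j _ => by rw [dif_pos j.2]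
  · rw [if_pos hj, he ⟨j, hj⟩]
    exact Finset.sum_congr rfl fun r _ => by simp only [dif_pos hj]

end Groth.Agent.FormalModH7
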