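import Mathlib.CategoryTheory.Adjunction.AdjointFunctorTheorems
import Mathlib.CategoryTheory.Abelian.Basic
import Mathlib.CategoryTheory.Limits.Preorder
import Mathlib.CategoryTheory.Limits.Presentation
import Mathlib.CategoryTheory.Comma.StructuredArrow.Basic

/-!
# Coreflective subcategories of cocomplete abelian categories
-/

set_option autoImplicit false
universe u v

open CategoryTheory CategoryTheory.Limits

namespace Groth.Agent.FormalModH7

variable {C : Type v} [Category.{u} C] [Abelian C] [HasColimitsOfSize.{u, u} C]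

/-- A class of objects closed under colimits and generated under colimits by a small family is coreflective. -/
theorem isLeftAdjoint_ι_of_generators (P : ObjectProperty C) [P.IsClosedUnderIsomorphisms]
    (hcolim : ∀ (J : Type u) [SmallCategory J] (D : J ⥤ C), (∀ j, P (D.obj j)) → P (colimit D))
    (hcok : ∀ {X Y : C} (f : X ⟶ Y), P X → P Y → P (cokernel f))
    {A : Type u} (G : A → C) (hG : ∀ a, P (G a))
    (hgen : ∀ X, P X → ∃ (J : Type u) (_ : SmallCategory J) (pres : ColimitPresentation J X),
      ∀ j, ∃ a, Nonempty (pres.diag.obj j ≅ G a)) :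
    P.ι.IsLeftAdjoint := by
  classical
  haveI : ∀ M : C, HasTerminal (CostructuredArrow P.ι M) := fun M => by
    let K := CostructuredArrow (inducedFunctor G) M
    let D : K ⥤ C := CostructuredArrow.proj (inducedFunctor G) M ⋙ inducedFunctor G
    let W := colimit D
    have hW : P W := hcolim K D fun k => hG _
    let w : W ⟶ M := colimit.desc D (Cocone.mk M
      { app := fun k => k.hom
        naturality := fun k l g => (CostructuredArrow.w g).trans (Category.comp_id _).symm })
    have weak : ∀ (X : C), P X → ∀ f : X ⟶ M, ∃ g : X ⟶ W, g ≫ w = f := fun X hX f => by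
      obtain ⟨J, _, pres, h⟩ := hgen X hX
      choose a e using h
      let i := fun j => (e j).some
      let a' : J → InducedCategory C G := a
      let k : J → K := fun j => CostructuredArrow.mk (S := inducedFunctor G) (Y := a' j) ((i j).inv ≫ pres.ι.app j ≫ f)
      let t : ∀ j, pres.diag.obj j ⟶ W := fun j => (i j).hom ≫ colimit.ι D (k j)
      have hn : ∀ {j l : J} (m : j ⟶ l), pres.diag.map m ≫ t l = t j := fun {j l} m => by
        let g : k j ⟶ k l := CostructuredArrow.homMk (InducedCategory.homMk ((i j).inv ≫ pres.diag.map m ≫ (i l).hom)) (by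
          show ((i j).inv ≫ pres.diag.map m ≫ (i l).hom) ≫ (i l).inv ≫ pres.ι.app l ≫ f = _
          simp [k])
        have := (i j).hom ≫= colimit.w D g
        refine Eq.trans ?_ this
        show pres.diag.map m ≫ (i l).hom ≫ colimit.ι D (k l) =
          (i j).hom ≫ ((i j).inv ≫ pres.diag.map m ≫ (i l).hom) ≫ colimit.ι D (k l)
        refine Eq.trans ?_ (congrArg ((i j).hom ≫ ·) (Category.assoc _ _ _).symm)
        refine Eq.trans ?_ (congrArg (fun z => (i j).hom ≫ (i j).inv ≫ z) (Category.assoc _ _ _).symm)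
        exact (Iso.hom_inv_id_assoc _ _).symm
      let c : Cocone pres.diag := Cocone.mk W { app := t, naturality := fun j l m => (hn m).trans (Category.comp_id _).symm }
      refine ⟨pres.isColimit.desc c, pres.isColimit.hom_ext fun j => ?_⟩
      rw [pres.isColimit.fac_assoc]
      show ((i j).hom ≫ colimit.ι D (k j)) ≫ w = pres.ι.app j ≫ f
      refine (Category.assoc _ _ _).trans ((congrArg ((i j).hom ≫ ·) (colimit.ι_desc _ (k j))).trans ?_)
      exact Iso.hom_inv_id_assoc _ _
    let End' := { e : W ⟶ W // e ≫ w = w }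
    let d : (∐ fun _ : End' => W) ⟶ W := Sigma.desc fun e => e.1 - 𝟙 W
    let q : W ⟶ cokernel d := cokernel.π d
    have hT : P (cokernel d) := hcok d (hcolim _ _ fun _ => hW) hW
    let ε : cokernel d ⟶ M := cokernel.desc d w (Sigma.hom_ext _ _ fun e => by
      simp [d, Preadditive.sub_comp, e.2])
    have hq : ∀ e : W ⟶ W, e ≫ w = w → e ≫ q = q := fun e he => by
      have h1 := Sigma.ι (fun _ : End' => W) ⟨e, he⟩ ≫= cokernel.condition d
      simp only [d, Sigma.ι_desc_assoc, Preadditive.sub_comp, comp_zero, sub_eq_zero, Category.id_comp] at h1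
      exact h1
    have uniq : ∀ {X : C}, P X → ∀ g₁ g₂ : X ⟶ cokernel d, g₁ ≫ ε = g₂ ≫ ε → g₁ = g₂ := fun {X} hX g₁ g₂ h => by
      let π := cokernel.π (g₁ - g₂)
      let f : cokernel (g₁ - g₂) ⟶ M := cokernel.desc _ ε (by simp [Preadditive.sub_comp, h])
      obtain ⟨s, hs⟩ := weak _ (hcok _ hX hT) f
      have h1 : (q ≫ π ≫ s) ≫ q = q := hq _ (by simp [q, π, hs, f, ε])
      have h2 : π ≫ s ≫ q = 𝟙 _ := by
        rw [← cancel_epi q]
        simpa using h1
      have h3 : (g₁ - g₂) ≫ π ≫ s ≫ q = 0 := cokernel.condition_assoc _ _ |>.trans zero_comp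
      rwa [h2, Category.comp_id, sub_eq_zero] at h3
    let T : CostructuredArrow P.ι M := CostructuredArrow.mk (S := P.ι) (Y := (⟨cokernel d, hT⟩ : P.FullSubcategory)) ε
    refine (IsTerminal.ofUniqueHom (Y := T) (fun Z => CostructuredArrow.homMk (ObjectProperty.homMk ((weak _ Z.left.2 Z.hom).choose ≫ q)) ?_)
      fun Z m => ?_).hasTerminal
    · show ((weak _ Z.left.2 Z.hom).choose ≫ q) ≫ ε = Z.hom
      simp [q, ε, (weak _ Z.left.2 Z.hom).choose_spec]
    · ext
      refine uniq Z.left.2 _ _ ?_
      refine (CostructuredArrow.w m).trans ?_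
      show Z.hom = ((weak _ Z.left.2 Z.hom).choose ≫ q) ≫ ε
      simp [q, ε, (weak _ Z.left.2 Z.hom).choose_spec]
  exact isLeftAdjoint_of_costructuredArrowTerminals _

end Groth.Agent.FormalModH7
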