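import Groth.Agent.Lib.FormalModH7.IsoPres
import Groth.Agent.Lib.ModFlat16.LocFT
import Groth.Agent.Lib.CohFound.ModulesInst

/-!
# Modules of finite type form an essentially small class
-/

set_option autoImplicit false
set_option backward.isDefEq.respectTransparency false
set_option backward.isDefEq.respectTransparency.types false
universe u

open CategoryTheory CategoryTheory.Limits Opposite

namespace Groth.Agent.FormalModH7

open ModFlat16

variable {C : Type u} [SmallCategory C] {J : GrothendieckTopology C} (O : Sheaf J CommRingCat.{u})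

/-- The free module on an object of the site. -/
noncomputable def freeU (U : C) : ModSite.Mod O :=
  (PresheafOfModules.sheafification.{u} (𝟙 (ModSite.ringSh O).obj)).obj
    ((PresheafOfModules.free (ModSite.ringSh O).obj).obj (yoneda.obj U))

/-- The universal section of the free module on an object. -/
noncomputable def eU (U : C) : ModSite.sect (freeU O U) U :=
  PresheafOfModules.freeYonedaEquiv
    ((PresheafOfModules.sheafificationAdjunction.{u} (𝟙 (ModSite.ringSh O).obj)).homEquiv _ (freeU O U) (𝟙 _))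

theorem exists_hom_freeU {M : ModSite.Mod O} (U : C) (s : ModSite.sect M U) :
    ∃ f : freeU O U ⟶ M, f.val.app (op U) (eU O U) = s := by
  let adj := PresheafOfModules.sheafificationAdjunction.{u} (𝟙 (ModSite.ringSh O).obj)
  let a : (PresheafOfModules.free (ModSite.ringSh O).obj).obj (yoneda.obj U) ⟶ M.val :=
    PresheafOfModules.freeYonedaEquiv.symm s
  refine ⟨(adj.homEquiv _ M).symm a, ?_⟩
  let m : (PresheafOfModules.free (ModSite.ringSh O).obj).obj (yoneda.obj U) ⟶ (freeU O U).val :=
    adj.homEquiv _ (freeU O U) (𝟙 _)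
  refine (PresheafOfModules.freeYonedaEquiv_comp m ((adj.homEquiv _ M).symm a).val).symm.trans ?_
  have h : m ≫ ((adj.homEquiv _ M).symm a).val = a := by
    have h1 := adj.homEquiv_naturality_right (𝟙 (freeU O U)) ((adj.homEquiv _ M).symm a)
    refine h1.symm.trans ?_
    exact (congrArg (adj.homEquiv _ M) (Category.id_comp _)).trans (Equiv.apply_symm_apply _ _)
  rw [h]
  exact Equiv.apply_symm_apply _ _

/-- Modules of finite type range over a small set of isomorphism classes. -/
theorem exists_small_of_finiteType (Q : ObjectProperty (ModSite.Mod O)) [Q.IsClosedUnderIsomorphisms]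
    (hQ : ∀ M, Q M → SheafOfModules.IsFiniteType (R := ModSite.ringSh O) M) :
    ∃ (A : Type u) (G : A → ModSite.Mod O), (∀ a, Q (G a)) ∧ ∀ M, Q M → ∃ a, Nonempty (M ≅ G a) := by
  classical
  haveI : IsGrothendieckAbelian.{u} (ModSite.Mod O) :=
    CohFound.isGrothendieckAbelian_sheafOfModules (ModSite.ringSh O)
  let P : (C → ℕ) → ModSite.Mod O := fun n => ∐ fun p : Σ U : C, ULift.{u} (Fin (n U)) => freeU O p.1
  let T : Type u := Σ n : C → ℕ, Shrink.{u} (Subobject (P n))
  let G : T → ModSite.Mod O := fun t => cokernel ((equivShrink.{u} _).symm t.2).arrow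
  refine ⟨{ t : T // Q (G t) }, fun t => G t.1, fun t => t.2, fun M hM => ?_⟩
  haveI := hQ M hM
  let n : C → ℕ := fun U => if h : HasGens M U then
    @Fintype.card h.choose h.choose_spec.choose else 0
  have hs : ∀ U, HasGens M U → ∃ s : ULift.{u} (Fin (n U)) → ModSite.sect M U, Gens M U s := fun U h => by
    letI := h.choose_spec.choose
    obtain ⟨s, hs⟩ := h.choose_spec.choose_spec
    have hn : n U = Fintype.card h.choose := dif_pos h
    let e : ULift.{u} (Fin (n U)) ≃ h.choose := Equiv.ulift.trans ((finCongr hn).trans (Fintype.equivFin _).symm)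
    refine ⟨fun i => s (e i), gens_mk _ fun {V} k x => ?_⟩
    obtain ⟨S, hS, hS'⟩ := gens_apply hs k x
    refine ⟨S, hS, fun W l hl => ?_⟩
    obtain ⟨c, hc⟩ := hS' l hl
    exact ⟨fun i => c (e i), hc.trans (e.sum_comp fun i => c i • smap M (l ≫ k) (s i)).symm⟩
  let s : ∀ U, ULift.{u} (Fin (n U)) → ModSite.sect M U := fun U i =>
    if h : HasGens M U then (hs U h).choose i else 0
  choose f hf using fun p : Σ U : C, ULift.{u} (Fin (n U)) => exists_hom_freeU O p.1 (s p.1 p.2)
  let φ : P n ⟶ M := Sigma.desc f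
  haveI : Epi φ := epi_of_locally φ fun V y => by
    obtain ⟨S, hS, hS'⟩ := covd_hasGens (M := M) V
    refine bind_cover S hS fun U k hk => ?_
    have hg := (hs U (hS' k hk)).choose_spec
    obtain ⟨T, hT, hT'⟩ := gens_apply hg (𝟙 U) (smap M k y)
    refine ⟨T, hT, fun W m hm => ?_⟩
    obtain ⟨c, hc⟩ := hT' m hm
    refine ⟨∑ i, c i • smap (P n) m ((Sigma.ι (fun p : Σ U : C, ULift.{u} (Fin (n U)) => freeU O p.1) ⟨U, i⟩).val.app
      (op U) (eU O U)), ?_⟩
    rw [map_sum, smap_comp, hc]
    refine Finset.sum_congr rfl fun i _ => ?_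
    rw [map_smul, Category.comp_id]
    refine congrArg (c i • ·) ?_
    rw [app_smap]
    refine congrArg (smap M m) ?_
    refine Eq.trans ?_ ((hf ⟨U, i⟩).trans (dif_pos (hS' k hk)))
    exact congrArg (fun q : freeU O U ⟶ M => q.val.app (op U) (eU O U)) (Sigma.ι_desc f ⟨U, i⟩)
  let t : T := ⟨n, equivShrink _ (kernelSubobject φ)⟩
  let e₀ : cokernel (kernel.ι φ) ≅ M :=
    IsColimit.coconePointUniqueUpToIso (cokernelIsCokernel _) (Abelian.epiIsCokernelOfKernel _ (kernelIsKernel φ))
  have key : ∀ Z : Subobject (P n), Z = kernelSubobject φ → Nonempty (cokernel Z.arrow ≅ M) := by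
    rintro _ rfl
    exact ⟨cokernel.mapIso _ _ (kernelSubobjectIso φ) (Iso.refl _) (by simp) ≪≫ e₀⟩
  obtain ⟨e⟩ : Nonempty (G t ≅ M) := key _ (Equiv.symm_apply_apply _ _)
  exact ⟨⟨t, Q.prop_of_iso e.symm hM⟩, ⟨e.symm⟩⟩

end Groth.Agent.FormalModH7
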