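import Groth.Agent.Lib.FormalModH7.DerClasses
import Groth.Agent.Lib.DPush.Coprod
import Groth.Agent.S6153

/-!
# Derived direct images commute with sums of complexes with ind-coherent cohomology
-/

set_option autoImplicit false
set_option linter.style.haveILetI false
set_option linter.unusedSectionVars false
set_option backward.isDefEq.respectTransparency false
set_option backward.isDefEq.respectTransparency.types false
set_option maxHeartbeats 2000000
set_option synthInstance.maxHeartbeats 200000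
universe u

open CategoryTheory CategoryTheory.Limits AlgebraicGeometry Opposite TopologicalSpace
open CategoryTheory.Triangulated DerivedCategory.TStructure Pretriangulated
open CoproductsFromFiniteFiltered
open scoped Classical

namespace Groth.Agent.FormalModH7

attribute [local instance] HasDerivedCategory.standard

section Space

variable {X : TopCat.{u}} (O : Sheaf (Opens.grothendieckTopology X) CommRingCat.{u})

/-- The underlying abelian sheaves of modules on a space. -/
noncomputable abbrev abO : ModSite.Mod O ⥤ CohTop.Ab X := SheafOfModules.toSheaf.{u} (ModSite.ringSh O)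

/-- `Ext` out of `j_! O_U` is cohomology on `U`. -/
noncomputable def extFree (U : Opens X) (M : ModSite.Mod O) (k : ℕ) :
    Abelian.Ext.{u} (ModSite.freeOn O U) M k → CohFound.Hc ((abO O).obj M) k U :=
  fun x => CohFound.huExt _ k U (SiteCoh.extCompHom (R := abO O) (SiteRlim.univSection O U) M k x)

theorem bijective_extFree (U : Opens X) (M : ModSite.Mod O) (k : ℕ) : Function.Bijective (extFree O U M k) :=
  (CohFound.huExt _ k U).toEquiv.bijective.comp
    (SiteCoh.bijective_extCompHom (R := abO O)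
      (SiteRlim.univSection O U) (SiteRlim.bijective_univSection O U)
      (fun I _ k => SiteCoh.subsingleton_ext_frP (SiteCoh.isTotallyAcyclic_injective _ I) (yoneda.obj U) k) k M)

theorem extFree_comp (U : Opens X) {M N : ModSite.Mod O} (f : M ⟶ N) (k : ℕ)
    (x : Abelian.Ext.{u} (ModSite.freeOn O U) M k) :
    extFree O U N k (x.comp (Abelian.Ext.mk₀ f) (add_zero k)) =
      CohFound.mp ((abO O).map f) k U (extFree O U M k x) := by
  refine Eq.trans (congrArg (CohFound.huExt _ k U) ?_) (CohFound.huExt_HUmap ((abO O).map f) k U _)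
  refine (SiteCoh.extCompHom_comp (SiteRlim.univSection O U) x (Abelian.Ext.mk₀ f) (add_zero k)).trans ?_
  rw [Abelian.Ext.mapExactFunctor_mk₀]
  rfl

variable [PrespectralSpace X]

/-- Cohomology on quasi-compact quasi-separated opens commutes with sums of modules. -/
theorem exists_finProj_extFree {ι : Type u} {U : Opens X} (hU : IsCompact (U : Set X))
    (hq : IsQuasiSeparated (U : Set X)) (M : ι → ModSite.Mod O) (k : ℕ)
    (x : Abelian.Ext.{u} (ModSite.freeOn O U) (∐ M) k) :
    ∃ s, x.comp (Abelian.Ext.mk₀ (DPush.finProj M s)) (add_zero k) = x := by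
  classical
  haveI : HasFiniteBiproducts (ModSite.Mod O) := Abelian.hasFiniteBiproducts
  haveI : PreservesColimitsOfSize.{u, u} (abO O) := ⟨inferInstance⟩
  obtain ⟨S, η, hη⟩ := CohFound.exists_rep_hc
    (hc := isColimitOfPreserves (abO O) (isColimitFiniteSubproductsCocone M)) k hU hq (extFree O U (∐ M) k x)
  obtain ⟨y, rfl⟩ := (bijective_extFree O U _ k).2 η
  let d : (liftToFinsetObj (Discrete.functor M)).obj S ⟶ ∐ M := (finiteSubcoproductsCocone M).ι.app S
  have hx : x = y.comp (Abelian.Ext.mk₀ d) (add_zero k) :=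
    (bijective_extFree O U _ k).1 (hη.symm.trans (extFree_comp O U d k y).symm)
  refine ⟨S.image (fun a => a.as), ?_⟩
  have hd : d ≫ DPush.finProj M (S.image fun a => a.as) = d := Sigma.hom_ext _ _ fun a => by
    have h : Sigma.ι (fun x : S => (Discrete.functor M).obj x) a ≫ d = Sigma.ι M a.1.as := Sigma.ι_desc _ a
    rw [reassoc_of% h, h, DPush.ι_finProj, if_pos (Finset.mem_image_of_mem _ a.2)]
  rw [hx, Abelian.Ext.comp_assoc _ _ _ (add_zero k) (add_zero 0) (by omega), Abelian.Ext.mk₀_comp_mk₀, hd]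

end Space

variable {𝔛 : FSch.Sys.{u}} (hN : 𝔛.IsLocNoethFormal) [CompactSpace (𝔛.X 0)]

/-- Classes in sums of complexes with ind-coherent cohomology have finite support. -/
theorem finFac_classes_ind {ι : Type u} (K : ι → DerivedCategory (FSch.ModF 𝔛 hN.1)) [HasCoproduct K]
    (hK : ∀ a i, IndC hN (SiteCmp.HMod (K a) i)) (W : (𝔛.X 0).Opens) (m : ℤ)
    (x : (DerivedCategory.singleFunctor (FSch.ModF 𝔛 hN.1) m).obj (ModSite.freeOn (𝔛.Osh hN.1) W) ⟶ ∐ K) :
    DPush.FinFac K x := by
  haveI := IsGrothendieckAbelian.enoughInjectives (C := FSch.ModF 𝔛 hN.1)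
  obtain ⟨d, hd⟩ := exists_cdLE (isCompact_opens hN) W
  let n := ((d : ℤ) - m).toNat
  have hq : IsQuasiSeparated (W : Set (𝔛.X 0)) := fun U V _ hUo _ _ hVo _ =>
    isCompact_opens hN ⟨U ∩ V, hUo.inter hVo⟩
  haveI hcs : HasColimitsOfShape (Discrete ι) (FSch.ModF 𝔛 hN.1) := inferInstance
  have hsum : ∀ q, IndC hN (SiteCmp.HMod (∐ K) q) := fun q => by
    let H : DerivedCategory (FSch.ModF 𝔛 hN.1) ⥤ FSch.ModF 𝔛 hN.1 :=
      DerivedCategory.homologyFunctor (FSch.ModF 𝔛 hN.1) q
    haveI hc : HasCoproduct fun b => H.obj (K b) := hcs.has_colimit _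
    haveI hp : PreservesColimit (Discrete.functor K) H :=
      (DPush.preservesColimitsOfShape_homology (A := FSch.ModF 𝔛 hN.1) (T := ι) q).preservesColimit
    exact ObjectProperty.prop_of_iso _ (asIso (sigmaComparison H K)) (ind_sigma hN _ fun a => hK a q)
  haveI := RpushTrunc.hasProduct_nat (CohCx.truncTower (∐ K))
  have hE := RpushTrunc.isRlimVia_truncTower_of_dim (∐ K) {U : (𝔛.X 0).Opens | IsAffineOpen U}
    (exists_cover_of_isBasis (𝔛.X 0).isBasis_affineOpens) fun V _ => ⟨0, fun T hT => by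
      obtain ⟨ι', Y, g, h₁, h₂, h₃⟩ := exists_cover_le_of_isBasis (𝔛.X 0).isBasis_affineOpens V T hT
      exact ⟨ι', Y, g, h₁, h₂, fun i q k hk => subsingleton_hU_of_cdLE hN (cdLE_ind hN (hsum q) (h₃ i)) hk⟩⟩
  have hst : SiteRlim.Stable (CohCx.truncTower (∐ K)) (CohCx.truncTowerMap (∐ K)) m n (ModSite.freeOn (𝔛.Osh hN.1) W) :=
    SiteRlim.stable_truncTower (∐ K) m n fun p hp k _ _ => SiteRlim.subsingleton_ext_freeOn _ W _ k
      (subsingleton_hU_of_cdLE hN (hd _ fun V hV => cdLE_ind hN (hsum _) hV) (by omega))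
  haveI := DPush.hasCoproduct_D fun i => (t.truncGE (-(n : ℤ))).obj (K i)
  obtain ⟨c, hci, hc⟩ := DPush.exists_truncGE_sigma K (-(n : ℤ))
  haveI hcm : Mono c := @IsIso.mono_of_iso _ _ _ _ c hci
  obtain ⟨s, hs⟩ := DPush.finFac_of_isGE
    (fun M k x => exists_finProj_extFree (𝔛.Osh hN.1) (isCompact_opens hN W) hq M k x) m
    (m + 1 + n).toNat (-(n : ℤ)) (by omega) (fun i => (t.truncGE (-(n : ℤ))).obj (K i))
    (fun i => (inferInstance : t.IsGE ((t.truncGE (-(n : ℤ))).obj (K i)) _))
    (x ≫ Limits.Sigma.map (f := K) fun i => (t.truncGEπ (-(n : ℤ))).app (K i))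
  refine ⟨s, (hst.bijective hE).1 ?_⟩
  change (x ≫ DPush.finProj K s) ≫ (t.truncGEπ (-(n : ℤ))).app (∐ K) = x ≫ (t.truncGEπ (-(n : ℤ))).app (∐ K)
  rw [← cancel_mono c, Category.assoc, Category.assoc, Category.assoc, hc, DPush.finProj_map, ← Category.assoc, hs]

section Rpush

variable {C : Type u} [SmallCategory C] {J : GrothendieckTopology C} {O_C : Sheaf J CommRingCat.{u}}
  {Y : Scheme.{u}} {O_D : Sheaf (Opens.grothendieckTopology Y) CommRingCat.{u}}
  (f : ModSite.RMor O_C O_D) [SiteCmp.HasRpushD f]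

/-- `Rf_*` commutes with sums whose classes over inverse images of affines have finite support. -/
theorem isIso_sigmaComparison_rpushD {ι : Type u} (K : ι → DerivedCategory (ModSite.Mod O_C)) [HasCoproduct K]
    [HasCoproduct fun i => (SiteCmp.RpushD f).obj (K i)]
    (h : ∀ (W : Y.Opens), IsAffineOpen W → ∀ (m : ℤ)
      (x : (DerivedCategory.singleFunctor (ModSite.Mod O_C) m).obj (ModSite.freeOn O_C (f.fn.obj W)) ⟶ ∐ K),
        DPush.FinFac K x) :
    IsIso (sigmaComparison (SiteCmp.RpushD f) K) := by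
  obtain ⟨_, _⟩ := SitePAdj.exists_commShift_isTriangulated_rpushD f
  haveI : ∀ n : ℤ, (shiftFunctor (DerivedCategory (ModSite.Mod O_D)) n).Additive := fun n => inferInstance
  haveI hRa : (SiteCmp.RpushD f).Additive := inferInstance
  let R := SiteCmp.RpushD f
  haveI : R.Additive := hRa
  haveI : R.PreservesZeroMorphisms := @Functor.preservesZeroMorphisms_of_additive _ _ _ _ _ _ R hRa
  let RK : ι → DerivedCategory (ModSite.Mod O_D) := fun i => R.obj (K i)
  haveI hcRK : HasCoproduct RK := ‹HasCoproduct fun i => (SiteCmp.RpushD f).obj (K i)›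
  haveI hcs : HasColimitsOfShape (Discrete ι) (ModSite.Mod O_D) := inferInstance
  set φ : ∐ RK ⟶ R.obj (∐ K) := Sigma.desc fun i => R.map (Sigma.ι K i) with hφ
  change IsIso φ
  have hπ : ∀ i, φ ≫ R.map (Sigma.π K i) = Sigma.π RK i := fun i => Sigma.hom_ext _ _ fun j => by
    rw [hφ, Sigma.ι_desc_assoc, ← Functor.map_comp]
    by_cases hj : j = i
    · subst hj
      rw [Sigma.ι_π_eq_id, Sigma.ι_π_eq_id]
      exact R.map_id _
    · rw [Sigma.ι_π_of_ne K hj, Sigma.ι_π_of_ne RK hj, Functor.map_zero]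
  have hfac : ∀ s, R.map (DPush.finProj K s) = (∑ i ∈ s, R.map (Sigma.π K i) ≫ Sigma.ι RK i) ≫ φ := fun s => by
    rw [Preadditive.sum_comp, DPush.finProj_eq_sum, Functor.map_sum]
    simp [hφ, RK]
  have hG := SiteRlim.localGen_genMod O_D
  have hB : ∀ U : Y.Opens, U ≤ ⊤ → ∀ x ∈ U, ∃ W ∈ {W : Y.Opens | IsAffineOpen W}, x ∈ W ∧ W ≤ U := fun U _ x hx => by
    obtain ⟨W, hW, hxW, hWU⟩ := TopologicalSpace.Opens.isBasis_iff_nbhd.1 Y.isBasis_affineOpens hx
    exact ⟨W, hW, hxW, hWU⟩
  have htop : ∀ U : Y.Opens, (⊤ : Sieve U) ∈ Opens.grothendieckTopology Y U := fun U => GrothendieckTopology.top_mem _ _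
  refine (DerivedCategory.isIso_iff (ModSite.Mod O_D) φ).2 fun m => ?_
  let H : DerivedCategory (ModSite.Mod O_D) ⥤ ModSite.Mod O_D := DerivedCategory.homologyFunctor (ModSite.Mod O_D) m
  haveI hck : HasCokernels (ModSite.Mod O_D) := Abelian.has_cokernels
  haveI : HasCokernel (H.map φ) := HasCokernels.has_colimit _
  haveI hHa : H.Additive := (inferInstance : (DerivedCategory.homologyFunctor (ModSite.Mod O_D) m).Additive)
  haveI : H.PreservesZeroMorphisms := @Functor.preservesZeroMorphisms_of_additive _ _ _ _ _ _ H hHa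
  haveI hc : HasCoproduct fun i => H.obj (RK i) := hcs.has_colimit _
  haveI hp : PreservesColimit (Discrete.functor RK) H :=
    (DPush.preservesColimitsOfShape_homology (A := ModSite.Mod O_D) (T := ι) m).preservesColimit
  haveI : IsIso (sigmaComparison H RK) := inferInstance
  haveI : Mono (H.map φ) := Preadditive.mono_of_cancel_zero _ fun {P} z hz => hG.gen z fun U y => by
    obtain ⟨T, hT, hT'⟩ := DPush.exists_basis_cover (fun U' _ => hB U' le_top) ⊤ (htop U)
    refine hG.sep _ T hT fun {U₂} g hg => ?_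
    obtain ⟨W, p, q, hW, -, rfl⟩ := hT' g hg
    let w : (SiteRlim.genMod O_D).obj W ⟶ H.obj (∐ RK) := (SiteRlim.genMod O_D).map q ≫ y ≫ z
    suffices hw : w = 0 by
      change (SiteRlim.genMod O_D).map (p ≫ q) ≫ y ≫ z = 0
      rw [Functor.map_comp, Category.assoc]
      change _ ≫ w = 0
      rw [hw, comp_zero]
    have hwπ : ∀ i, w ≫ H.map (Sigma.π RK i) = 0 := fun i => by
      simp only [w, ← hπ i, Functor.map_comp, Category.assoc, reassoc_of% hz, zero_comp, comp_zero]
    obtain ⟨s, hs⟩ := exists_finProj_extFree O_D hW.isCompact hW.isQuasiSeparated (fun i => H.obj (RK i)) 0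
      (Abelian.Ext.mk₀ (w ≫ inv (sigmaComparison H RK)))
    rw [Abelian.Ext.mk₀_comp_mk₀] at hs
    have hs' := (Abelian.Ext.mk₀_bijective _ _).1 hs
    have e1 : inv (sigmaComparison H RK) ≫ DPush.finProj (fun i => H.obj (RK i)) s =
        H.map (DPush.finProj RK s) ≫ inv (sigmaComparison H RK) := by
      rw [← cancel_epi (sigmaComparison H RK), IsIso.hom_inv_id_assoc, ← Category.assoc, ← DPush.finProj_comparison,
        Category.assoc, IsIso.hom_inv_id, Category.comp_id]
    rw [Category.assoc, e1, ← Category.assoc, cancel_mono] at hs'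
    rw [← hs', DPush.finProj_eq_sum, Functor.map_sum, Preadditive.comp_sum]
    exact Finset.sum_eq_zero fun i _ => by rw [Functor.map_comp, reassoc_of% (hwπ i), zero_comp]
  haveI : Epi (H.map φ) := Preadditive.epi_of_isZero_cokernel _ (by
    rw [IsZero.iff_id_eq_zero]
    refine hG.gen _ fun U z => ?_
    rw [Category.comp_id]
    obtain ⟨T, hT, hT'⟩ := hG.lift (cokernel.π (H.map φ)) z
    refine hG.sep _ T hT fun {U₁} g hg => ?_
    obtain ⟨ψ, hψ⟩ := hT' g hg
    rw [← hψ]
    obtain ⟨T₁, hT₁, hT₁'⟩ := SiteRlim.locally_exists_θ hG ψ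
    obtain ⟨T₂, hT₂, hT₂'⟩ := DPush.exists_basis_cover (fun U' _ => hB U' le_top) T₁ hT₁
    refine hG.sep _ T₂ hT₂ fun {U₂} g' hg' => ?_
    obtain ⟨W, p, q, hW, hq, rfl⟩ := hT₂' g' hg'
    obtain ⟨cl, hcl⟩ := hT₁' q hq
    obtain ⟨x, rfl⟩ := (SitePAdj.bijective_transpose f.adj (SitePAdj.rpushUnit f) KInjLib.enoughKInj_of_grothendieck
      (SitePAdj.isQuasiLiftable_adapted f) (SitePAdj.adapted_freeOn f W) m (∐ K)).2 cl
    obtain ⟨e⟩ := Groth.Agent.S6153.result f W
    let σ := (DerivedCategory.singleFunctor (ModSite.Mod O_C) m).mapIso e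
    obtain ⟨s, hs⟩ := h W hW m (σ.inv ≫ x)
    rw [Category.assoc, cancel_epi] at hs
    rw [Functor.map_comp, Category.assoc, ← Category.assoc ((SiteRlim.genMod O_D).map q), ← hcl, ← hs,
      SitePAdj.transpose_comp, hfac, ← Category.assoc, SiteRlim.θ_comp]
    simp [H])
  exact isIso_of_mono_of_epi _

end Rpush

variable {𝔜 : FSch.Sys.{u}} (h𝔜 : 𝔜.IsFormal) (f : 𝔛 ⟶ 𝔜) [SiteCmp.HasRpushD (FSch.homMor f hN.1 h𝔜)]

/-- `Rf_*` commutes with sums of complexes with ind-coherent cohomology. -/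
theorem preservesColimit_rpushD_ind {ι : Type u} (E : ι → DerivedCategory (FSch.ModF 𝔛 hN.1))
    (hE : ∀ a i, IndC hN (SiteCmp.HMod (E a) i)) :
    PreservesColimit (Discrete.functor E) (SiteCmp.RpushD (FSch.homMor f hN.1 h𝔜)) := by
  haveI := DPush.hasCoproduct_D E
  haveI := DPush.hasCoproduct_D fun a => (SiteCmp.RpushD (FSch.homMor f hN.1 h𝔜)).obj (E a)
  haveI := isIso_sigmaComparison_rpushD (Y := 𝔜.X 0) (FSch.homMor f hN.1 h𝔜) E
    fun W _ m x => finFac_classes_ind hN E hE _ m x
  exact PreservesCoproduct.of_iso_comparison (SiteCmp.RpushD (FSch.homMor f hN.1 h𝔜)) E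

end Groth.Agent.FormalModH7
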