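import Groth.Agent.Lib.FormalModH7.DerAdj
import Groth.Agent.Lib.FormalModH7.RpushSigma
import Groth.Agent.Lib.FormalModH7.SmallGen
import Groth.Agent.Lib.SiteCmp16.WayOut

/-!
# Right adjoints out of the derived category of ind-coherent modules
-/

set_option autoImplicit false
set_option linter.style.haveILetI false
set_option linter.unusedSectionVars false
set_option backward.isDefEq.respectTransparency false
set_option backward.isDefEq.respectTransparency.types false
set_option maxHeartbeats 1000000
set_option synthInstance.maxHeartbeats 200000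
universe u

open CategoryTheory CategoryTheory.Limits

namespace Groth.Agent.FormalModH7

attribute [local instance] HasDerivedCategory.standard

variable {𝔛 : FSch.Sys.{u}} (hN : 𝔛.IsLocNoethFormal)
  [(IndC hN).ContainsZero] [(IndC hN).IsClosedUnderKernels] [(IndC hN).IsClosedUnderCokernels]
  [(IndC hN).IsClosedUnderFiniteProducts] [PreservesFiniteLimits (IndC hN).ι]

theorem isClosedUnderColimits_indC (J : Type u) [SmallCategory J] : (IndC hN).IsClosedUnderColimitsOfShape J := by
  refine ⟨fun X hX => ?_⟩
  obtain ⟨data⟩ := hX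
  exact ind_colimit hN data.diag (Cocone.mk _ data.ι) data.isColimit data.prop_diag_obj

theorem isGrothendieckAbelian_indC : IsGrothendieckAbelian.{u} (IndC hN).FullSubcategory := by
  haveI := fun (J : Type u) [SmallCategory J] => isClosedUnderColimits_indC hN J
  let Q : ObjectProperty (FSch.ModF 𝔛 hN.1) :=
    ObjectProperty.isoClosure fun 𝔊 : FSch.ModF 𝔛 hN.1 => FSch.IsCohF 𝔛 hN.1 𝔊
  obtain ⟨A, G, hG, hA⟩ := exists_small_of_finiteType (𝔛.Osh hN.1) Q fun M hM => by
    obtain ⟨N, hN', ⟨e⟩⟩ := hM
    haveI : SheafOfModules.IsFinitePresentation (R := ModSite.ringSh (𝔛.Osh hN.1)) N := hN'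
    exact isFiniteType_of_epi hN e.inv
  refine DerAdj.isGrothendieckAbelian_fullSubcategory (IndC hN) G (fun a => ?_) fun X hX => ?_
  · obtain ⟨N, hN', ⟨e⟩⟩ := hG a
    exact ObjectProperty.prop_of_iso _ e.symm (ind_coh hN hN')
  · obtain ⟨J, inst, _, pres, hp⟩ := hX
    exact ⟨J, inst, pres, fun j => hA _ (Q.prop_of_iso (Iso.refl _) (ObjectProperty.le_isoClosure _ _ (hp j)))⟩

variable [PreservesFiniteColimits (IndC hN).ι]

theorem isLeftAdjoint_mapDerived : (IndC hN).ι.mapDerivedCategory.IsLeftAdjoint := by
  haveI := isGrothendieckAbelian_indC hN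
  haveI := fun (J : Type u) [SmallCategory J] => isClosedUnderColimits_indC hN J
  haveI : ∀ T : Type u, PreservesColimitsOfShape (Discrete T) (IndC hN).ι.mapDerivedCategory := fun T => by
    haveI : ∀ K : T → DerivedCategory (IndC hN).FullSubcategory,
        PreservesColimit (Discrete.functor K) (IndC hN).ι.mapDerivedCategory := fun K =>
      DerAdj.preservesColimit_mapDerivedCategory _ K
    exact preservesColimitsOfShape_of_discrete _
  haveI : ∀ n : ℤ, (shiftFunctor (DerivedCategory (IndC hN).FullSubcategory) n).Additive := fun n => inferInstance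
  haveI : ∀ n : ℤ, (shiftFunctor (DerivedCategory (FSch.ModF 𝔛 hN.1)) n).Additive := fun n => inferInstance
  haveI hT : (IndC hN).ι.mapDerivedCategory.IsTriangulated := inferInstance
  haveI : (IndC hN).ι.mapDerivedCategory.Additive := inferInstance
  exact RHom.isLeftAdjoint_of_homExact _ (DerAdj.homExact_of_isTriangulated _)

variable [CompactSpace (𝔛.X 0)] {𝔜 : FSch.Sys.{u}} (h𝔜 : 𝔜.IsFormal) (f : 𝔛 ⟶ 𝔜)
  [SiteCmp.HasRpushD (FSch.homMor f hN.1 h𝔜)]

theorem isLeftAdjoint_mapDerived_rpushD :
    ((IndC hN).ι.mapDerivedCategory ⋙ SiteCmp.RpushD (FSch.homMor f hN.1 h𝔜)).IsLeftAdjoint := by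
  haveI := isGrothendieckAbelian_indC hN
  haveI := fun (J : Type u) [SmallCategory J] => isClosedUnderColimits_indC hN J
  let Φ := (IndC hN).ι.mapDerivedCategory
  let R := SiteCmp.RpushD (FSch.homMor f hN.1 h𝔜)
  obtain ⟨_, _⟩ := SitePAdj.exists_commShift_isTriangulated_rpushD (FSch.homMor f hN.1 h𝔜)
  haveI : ∀ T : Type u, PreservesColimitsOfShape (Discrete T) (Φ ⋙ R) := fun T => by
    haveI : ∀ K : T → DerivedCategory (IndC hN).FullSubcategory,
        PreservesColimit (Discrete.functor K) (Φ ⋙ R) := fun K => by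
      haveI : PreservesColimit (Discrete.functor K) Φ := DerAdj.preservesColimit_mapDerivedCategory _ K
      haveI : PreservesColimit (Discrete.functor K ⋙ Φ) R :=
        haveI := preservesColimit_rpushD_ind hN h𝔜 f (fun a => Φ.obj (K a)) fun a i =>
          ObjectProperty.prop_of_iso _ ((WayOut.mapDerivedHomologyIso (IndC hN).ι i).app (K a)).symm
            (((DerivedCategory.homologyFunctor _ i).obj (K a)).property)
        preservesColimit_of_iso_diagram _ (Discrete.natIso fun _ => Iso.refl _ :
          Discrete.functor (fun a => Φ.obj (K a)) ≅ Discrete.functor K ⋙ Φ)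
      infer_instance
    exact preservesColimitsOfShape_of_discrete _
  haveI : ∀ n : ℤ, (shiftFunctor (DerivedCategory (IndC hN).FullSubcategory) n).Additive := fun n => inferInstance
  haveI : ∀ n : ℤ, (shiftFunctor (DerivedCategory (FSch.ModF 𝔛 hN.1)) n).Additive := fun n => inferInstance
  haveI : ∀ n : ℤ, (shiftFunctor (DerivedCategory (FSch.ModF 𝔜 h𝔜)) n).Additive := fun n => inferInstance
  haveI hΦT : Φ.IsTriangulated := inferInstanceAs (IndC hN).ι.mapDerivedCategory.IsTriangulated
  haveI : Φ.Additive := inferInstance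
  haveI : R.Additive := inferInstance
  haveI : (Φ ⋙ R).IsTriangulated := inferInstance
  haveI : (Φ ⋙ R).Additive := inferInstance
  exact RHom.isLeftAdjoint_of_homExact (Φ ⋙ R) (DerAdj.homExact_of_isTriangulated _)

end Groth.Agent.FormalModH7
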