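import Groth.Agent.Lib.RHom.Small
import Groth.Agent.Lib.KInj.Derived
import Mathlib.CategoryTheory.Abelian.Subcategory
import Mathlib.CategoryTheory.Limits.FullSubcategory
import Mathlib.CategoryTheory.Abelian.GrothendieckCategory.Basic
import Mathlib.CategoryTheory.Generator.Basic
import Mathlib.Algebra.Homology.DerivedCategory.ExactFunctor
import Mathlib.Algebra.Homology.HomologicalComplexAbelian
import Mathlib.CategoryTheory.Limits.Presentation
import Mathlib.CategoryTheory.Triangulated.Yoneda

/-!
# Adjoints out of derived categories of coreflective subcategories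
-/

set_option autoImplicit false
set_option linter.style.haveILetI false
set_option linter.unusedSectionVars false
set_option backward.isDefEq.respectTransparency false
set_option backward.isDefEq.respectTransparency.types false

universe w w' v u u'

open CategoryTheory CategoryTheory.Limits CategoryTheory.Pretriangulated

namespace Groth.Agent.DerAdj

variable {C : Type (u + 1)} [Category.{u} C] [Abelian C] [IsGrothendieckAbelian.{u} C]

/-- An exact subcategory closed under colimits and generated by a small family is Grothendieck abelian. -/
theorem isGrothendieckAbelian_fullSubcategory (P : ObjectProperty C) [P.ContainsZero] [P.IsClosedUnderKernels]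
    [P.IsClosedUnderCokernels] [P.IsClosedUnderFiniteProducts] [PreservesFiniteLimits P.ι]
    [∀ (J : Type u) [SmallCategory J], P.IsClosedUnderColimitsOfShape J] {A : Type u} (G : A → C) (hG : ∀ a, P (G a))
    (hgen : ∀ X, P X → ∃ (J : Type u) (_ : SmallCategory J) (pres : ColimitPresentation J X),
      ∀ j, ∃ a, Nonempty (pres.diag.obj j ≅ G a)) :
    IsGrothendieckAbelian.{u} P.FullSubcategory := by
  haveI hcol : ∀ (J : Type u) [SmallCategory J], HasColimitsOfShape J P.FullSubcategory := fun J _ => inferInstance
  haveI : HasColimitsOfSize.{u, u} P.FullSubcategory := ⟨fun J _ => hcol J⟩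
  haveI : HasFilteredColimitsOfSize.{u, u} P.FullSubcategory := ⟨fun J _ _ => hcol J⟩
  refine { ab5OfSize := ⟨fun K _ _ => HasExactColimitsOfShape.domain_of_functor K P.ι⟩, hasSeparator := ?_ }
  let f : A → P.FullSubcategory := fun a => ⟨G a, hG a⟩
  have hf : ObjectProperty.IsSeparating (.ofObj f) := by
    intro M N φ ψ h
    obtain ⟨J, _, pres, hj⟩ := hgen M.obj M.property
    refine P.ι.map_injective (pres.isColimit.hom_ext fun j => ?_)
    obtain ⟨a, ⟨e⟩⟩ := hj j
    let g : f a ⟶ M := ObjectProperty.homMk (e.inv ≫ pres.ι.app j)
    have h0 := congrArg P.ι.map (h (f a) ⟨a⟩ g)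
    have hg : P.ι.map g = e.inv ≫ pres.ι.app j := rfl
    simp only [Functor.map_comp, hg, Category.assoc] at h0
    exact (cancel_epi e.inv).1 h0
  exact ⟨_, hf.isSeparator_coproduct⟩

variable {A : Type u'} [Category.{v} A] [Abelian A] [IsGrothendieckAbelian.{v} A] [HasDerivedCategory.{w} A]

/-- The localization preserves coproducts. -/
theorem preservesColimit_Q {T : Type v} (M : T → CochainComplex A ℤ) :
    PreservesColimit (Discrete.functor M) (DerivedCategory.Q : CochainComplex A ℤ ⥤ DerivedCategory A) :=
  preservesColimit_of_preserves_colimit_cocone (coproductIsCoproduct M)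
    ((isColimitMapCoconeCofanMkEquiv _ _ _).symm (KInjLib.isColimitSigma M))

/-- A triangulated functor gives exact sequences of maps. -/
theorem homExact_of_isTriangulated {B : Type*} [Category* B] [Abelian B] [HasDerivedCategory.{w'} B]
    (F : DerivedCategory A ⥤ DerivedCategory B) [F.CommShift ℤ] [F.IsTriangulated] : RHom.HomExact F :=
  fun T hT _ ψ hψ => (F.mapTriangle.obj T).yoneda_exact₂ (F.map_distinguished T hT) ψ hψ

variable {B : Type*} [Category.{v} B] [Abelian B] [IsGrothendieckAbelian.{v} B] [HasDerivedCategory.{w'} B]

/-- Exact left adjoints preserve coproducts on derived categories. -/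
theorem preservesColimit_mapDerivedCategory (F : A ⥤ B) [F.Additive] [PreservesFiniteLimits F]
    [PreservesFiniteColimits F] {T : Type v} [PreservesColimitsOfShape (Discrete T) F]
    (K : T → DerivedCategory A) : PreservesColimit (Discrete.functor K) F.mapDerivedCategory := by
  let M : T → CochainComplex A ℤ := fun a => DerivedCategory.Q.objPreimage (K a)
  let G : CochainComplex A ℤ ⥤ CochainComplex B ℤ := F.mapHomologicalComplex (ComplexShape.up ℤ)
  haveI : PreservesColimit (Discrete.functor M) G :=
    (inferInstance : PreservesColimitsOfShape (Discrete T) (F.mapHomologicalComplex (ComplexShape.up ℤ))).preservesColimit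
  haveI : PreservesColimit (Discrete.functor M ⋙ G) (DerivedCategory.Q : CochainComplex B ℤ ⥤ DerivedCategory B) :=
    haveI := preservesColimit_Q (fun a => G.obj (M a))
    preservesColimit_of_iso_diagram _ (Discrete.natIso fun _ => Iso.refl _ : Discrete.functor (fun a => G.obj (M a)) ≅ Discrete.functor M ⋙ G)
  haveI : PreservesColimit (Discrete.functor M) (G ⋙ DerivedCategory.Q) := inferInstance
  haveI : PreservesColimit (Discrete.functor M) (DerivedCategory.Q ⋙ F.mapDerivedCategory) :=
    preservesColimit_of_natIso _ F.mapDerivedCategoryFactors.symm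
  haveI : PreservesColimit (Discrete.functor fun a => DerivedCategory.Q.obj (M a)) F.mapDerivedCategory :=
    preservesColimit_of_preserves_colimit_cocone (KInjLib.isColimitSigma M)
      ((isColimitMapCoconeCofanMkEquiv _ _ _).symm
        (isColimitCofanMkObjOfIsColimit (DerivedCategory.Q ⋙ F.mapDerivedCategory) M (Sigma.ι M)
          (coproductIsCoproduct M)))
  exact preservesColimit_of_iso_diagram _ (Discrete.natIso fun a => DerivedCategory.Q.objObjPreimageIso (K a.as) :
    Discrete.functor (fun a => DerivedCategory.Q.obj (M a)) ≅ Discrete.functor K)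

end Groth.Agent.DerAdj
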