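import Groth.Agent.Lib.FormalModH7.Vanish
import Groth.Agent.Lib.RDerLES.Horseshoe
import Groth.Agent.Lib.CohFound.ModFlasque
import Groth.Agent.Lib.CohFound.DimShift

/-!
# No higher direct images along affine morphisms of formal schemes
-/

set_option autoImplicit false
set_option linter.style.haveILetI false
set_option linter.unusedSectionVars false
set_option backward.isDefEq.respectTransparency false
set_option backward.isDefEq.respectTransparency.types false
universe u v v' w w'

open CategoryTheory CategoryTheory.Limits CategoryTheory.Abelian AlgebraicGeometry Opposite TopologicalSpace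

namespace Groth.Agent.FormalModH7

section Shift


variable {C : Type w} [Category.{v} C] [Abelian C] [EnoughInjectives C] [HasInjectiveResolutions C]
  {D : Type w'} [Category.{v'} D] [Abelian D] (G : C ⥤ D) [G.Additive] [PreservesFiniteLimits G]
  {S : ShortComplex C} (hS : S.ShortExact)

include hS

theorem nonempty_rightDerived_one_iso_cokernel (h : IsZero ((G.rightDerived 1).obj S.X₂)) :
    Nonempty ((G.rightDerived 1).obj S.X₁ ≅ cokernel (G.map S.g)) := by
  obtain ⟨T⟩ := RDerLES.exists_sesRes hS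
  obtain ⟨w, he⟩ := (RDerLES.exact_sequences G T 0 1 rfl).2.1
  obtain ⟨w', he'⟩ := (RDerLES.exact_sequences G T 0 1 rfl).2.2
  haveI : Epi (T.delta G 0 1 rfl) := he'.epi_f (h.eq_of_tgt _ _)
  exact ⟨IsColimit.coconePointUniqueUpToIso he.gIsCokernel (cokernelIsCokernel _) ≪≫
    cokernel.mapIso _ _ (G.rightDerivedZeroIsoSelf.app S.X₂) (G.rightDerivedZeroIsoSelf.app S.X₃)
      (G.rightDerivedZeroIsoSelf.hom.naturality S.g)⟩

theorem nonempty_rightDerived_succ_iso (n : ℕ) (h1 : IsZero ((G.rightDerived (n + 1)).obj S.X₂))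
    (h2 : IsZero ((G.rightDerived (n + 2)).obj S.X₂)) :
    Nonempty ((G.rightDerived (n + 2)).obj S.X₁ ≅ (G.rightDerived (n + 1)).obj S.X₃) := by
  obtain ⟨T⟩ := RDerLES.exists_sesRes hS
  obtain ⟨w, he⟩ := (RDerLES.exact_sequences G T (n + 1) (n + 2) rfl).2.1
  obtain ⟨w', he'⟩ := (RDerLES.exact_sequences G T (n + 1) (n + 2) rfl).2.2
  haveI : Epi (T.delta G (n + 1) (n + 2) rfl) := he'.epi_f (h2.eq_of_tgt _ _)
  haveI : Mono (T.delta G (n + 1) (n + 2) rfl) := he.mono_g (h1.eq_of_src _ _)
  haveI := isIso_of_mono_of_epi (T.delta G (n + 1) (n + 2) rfl)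
  exact ⟨(asIso (T.delta G (n + 1) (n + 2) rfl)).symm⟩

end Shift

variable {𝔛 𝔜 : FSch.Sys.{u}} (hX : 𝔛.IsLocNoethFormal) (hY : 𝔜.IsFormal) (g : 𝔛 ⟶ 𝔜)

/-- Acyclic on preimages of affine opens. -/
def AffAcyclic (M : FSch.ModF 𝔛 hX.1) : Prop :=
  ∀ (V : (𝔜.X 0).Opens), IsAffineOpen V → ∀ q : ℕ,
    Subsingleton (CohFound.Hc ((abFs hX).obj M) (q + 1) (((g : FSch.Hom 𝔛 𝔜).app 0) ⁻¹ᵁ V))

theorem shortExact_abFs {S : ShortComplex (FSch.ModF 𝔛 hX.1)} (hS : S.ShortExact) : (S.map (abFs hX)).ShortExact := by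
  haveI : PreservesColimitsOfSize.{u, u} (abFs hX) := ⟨inferInstance⟩
  haveI : PreservesFiniteColimits (abFs hX) := PreservesColimitsOfSize.preservesFiniteColimits _
  haveI h : PreservesFiniteLimits (abFs hX ⋙ sheafToPresheaf _ _) :=
    preservesFiniteLimits_of_natIso
      (F := SheafOfModules.forget.{u} (ModSite.ringSh (𝔛.Osh hX.1)) ⋙ PresheafOfModules.toPresheaf _) (Iso.refl _)
  haveI : PreservesFiniteLimits (abFs hX) := preservesFiniteLimits_of_reflects_of_preserves (abFs hX) (sheafToPresheaf _ _)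
  exact hS.map_of_exact _

theorem affAcyclic_injective (I : FSch.ModF 𝔛 hX.1) [Injective I] : AffAcyclic hX g I := fun V _ q => by
  haveI : TopCat.Sheaf.IsFlasque ((abFs hX).obj I) :=
    CohFound.isFlasque_mk _ fun _ _ h s => CohFound.surjective_map_of_injective (ModSite.ringSh (𝔛.Osh hX.1)) I inferInstance h s
  exact CohFound.subsingleton_hc_of_isFlasque _ q _

theorem AffAcyclic.cosyz {S : ShortComplex (FSch.ModF 𝔛 hX.1)} (hS : S.ShortExact) (h₁ : AffAcyclic hX g S.X₁)
    (h₂ : AffAcyclic hX g S.X₂) : AffAcyclic hX g S.X₃ := fun V hV q => subsingleton_of_forall_eq 0 fun x => by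
  haveI := h₁ V hV (q + 1)
  haveI := h₂ V hV q
  obtain ⟨y, rfl⟩ := CohFound.exact₃ (shortExact_abFs hX hS) (q + 1) _ x (Subsingleton.elim (α := CohFound.Hc ((abFs hX).obj S.X₁) (q + 1 + 1) _) _ _)
  rw [show y = 0 from Subsingleton.elim (α := CohFound.Hc ((abFs hX).obj S.X₂) (q + 1) _) y 0, map_zero]

set_option maxHeartbeats 1000000 in
theorem isZero_rightDerived_of_affAcyclic [HasInjectiveResolutions (FSch.ModF 𝔛 hX.1)] :
    ∀ (n : ℕ) (M : FSch.ModF 𝔛 hX.1), AffAcyclic hX g M → IsZero ((FSch.RpushF g hX.1 hY (n + 1)).obj M) := by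
  haveI : IsGrothendieckAbelian.{u} (FSch.ModF 𝔛 hX.1) :=
    CohFound.isGrothendieckAbelian_sheafOfModules (ModSite.ringSh (𝔛.Osh hX.1))
  intro n
  induction n with
  | zero =>
    intro M hM
    let P := (EnoughInjectives.presentation M).some
    haveI : Injective P.J := P.injective
    haveI : Mono P.f := P.mono
    let S := ShortComplex.mk P.f (cokernel.π P.f) (cokernel.condition _)
    have hS : S.ShortExact := { exact := ShortComplex.exact_cokernel _ }
    obtain ⟨e⟩ := nonempty_rightDerived_one_iso_cokernel (FSch.pushF g hX.1 hY) hS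
      (Functor.isZero_rightDerived_obj_injective_succ _ 0 P.J)
    refine IsZero.of_iso ?_ e
    haveI : Epi ((FSch.pushF g hX.1 hY).map S.g) := epi_of_locally _ fun U y => by
      refine ⟨affSieve U, affSieve_mem U, fun W l hl => ?_⟩
      obtain ⟨V, hV, hWV, hVU⟩ := hl
      obtain ⟨t, ht⟩ := CohFound.app_surjective_of_subsingleton (shortExact_abFs hX hS) _ (hM V hV 0)
        (ModFlat16.smap ((FSch.pushF g hX.1 hY).obj S.X₃) (homOfLE hVU) y)
      refine ⟨ModFlat16.smap ((FSch.pushF g hX.1 hY).obj S.X₂) (homOfLE hWV) t, ?_⟩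
      refine (ModFlat16.app_smap ((FSch.pushF g hX.1 hY).map S.g) (homOfLE hWV) t).trans ?_
      refine (congrArg (ModFlat16.smap ((FSch.pushF g hX.1 hY).obj S.X₃) (homOfLE hWV))
        (show ((FSch.pushF g hX.1 hY).map S.g).val.app (op V) t = _ from ht)).trans ?_
      exact (ModFlat16.smap_comp _ _ _).symm
    exact isZero_cokernel_of_epi _
  | succ n ih =>
    intro M hM
    let P := (EnoughInjectives.presentation M).some
    haveI : Injective P.J := P.injective
    haveI : Mono P.f := P.mono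
    let S := ShortComplex.mk P.f (cokernel.π P.f) (cokernel.condition _)
    have hS : S.ShortExact := { exact := ShortComplex.exact_cokernel _ }
    obtain ⟨e⟩ := nonempty_rightDerived_succ_iso (FSch.pushF g hX.1 hY) hS n
      (Functor.isZero_rightDerived_obj_injective_succ _ n P.J) (Functor.isZero_rightDerived_obj_injective_succ _ (n + 1) P.J)
    exact (ih _ (hM.cosyz hX g hS (affAcyclic_injective hX g P.J))).of_iso e

end Groth.Agent.FormalModH7
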