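import Groth.Agent.Lib.FormalModH7.Level
import Mathlib.RingTheory.Filtration

/-!
# Perturbations of monomorphisms and epimorphisms of coherent modules
-/

set_option autoImplicit false
set_option linter.style.haveILetI false
set_option backward.isDefEq.respectTransparency false
set_option backward.isDefEq.respectTransparency.types false
universe u

open CategoryTheory CategoryTheory.Limits AlgebraicGeometry Opposite TopologicalSpace

namespace Groth.Agent.FormalModH7

section Alg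

variable {A M N : Type*} [CommRing A] [IsNoetherianRing A] [AddCommGroup M] [Module A M] [Module.Finite A M]
  [AddCommGroup N] [Module A N] [Module.Finite A N] (I : Ideal A)

/-- Small perturbations of an injective map of finite modules are injective. -/
theorem exists_injective_add (hI : I ≤ Ideal.jacobson ⊥) (θ : M →ₗ[A] N) (hθ : Function.Injective θ) :
    ∃ k : ℕ, ∀ n, k ≤ n → ∀ ψ : M →ₗ[A] N, LinearMap.range ψ ≤ I ^ (n + 1) • ⊤ → Function.Injective (θ + ψ) := by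
  obtain ⟨k, hk⟩ := Ideal.exists_pow_inf_eq_pow_smul I (LinearMap.range θ)
  refine ⟨k, fun n hn ψ hψ => ?_⟩
  rw [injective_iff_map_eq_zero]
  intro x hx
  haveI : IsHausdorff I M := IsHausdorff.of_le_jacobson _ _ hI
  have key : ∀ j, x ∈ I ^ j • (⊤ : Submodule A M) := by
    intro j
    induction j with
    | zero => simp
    | succ j ih =>
      have h1 : ψ x ∈ I ^ (j + (n + 1)) • (⊤ : Submodule A N) := by
        have h := Submodule.mem_map_of_mem (f := ψ) ih
        rw [Submodule.map_smul'', Submodule.map_top] at h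
        rw [pow_add, ← smul_eq_mul, Submodule.smul_assoc]
        exact Submodule.smul_mono le_rfl hψ h
      have h2 : θ x ∈ I ^ (j + (n + 1)) • (⊤ : Submodule A N) ⊓ LinearMap.range θ := by
        refine ⟨?_, x, rfl⟩
        rw [show θ x = -ψ x from eq_neg_of_add_eq_zero_left hx]
        exact Submodule.neg_mem _ h1
      rw [hk _ (le_trans hn (le_trans (Nat.le_succ n) (Nat.le_add_left _ _)))] at h2
      have h3 : θ x ∈ I ^ (j + 1) • LinearMap.range θ :=
        Submodule.smul_mono (Ideal.pow_le_pow_right (by omega)) inf_le_right h2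
      rw [← Submodule.map_top, ← Submodule.map_smul''] at h3
      obtain ⟨x', hx', he⟩ := h3
      exact hθ he ▸ hx'
  exact IsHausdorff.haus' (I := I) x fun j => by rw [SModEq.zero]; exact key j

end Alg

variable {𝔛 : FSch.Sys.{u}} (hN : 𝔛.IsLocNoethFormal) {𝔉 𝔊 : FSch.ModF 𝔛 hN.1}

theorem unitL_eq_zero_of_succ (ψ : 𝔉 ⟶ 𝔊) : ∀ n, ψ ≫ unitL hN 𝔊 n = 0 → ψ ≫ unitL hN 𝔊 0 = 0
  | 0, h => h
  | n + 1, h => by
    refine unitL_eq_zero_of_succ ψ n ?_
    have e := congrArg (fun q => q ≫ (FSch.pushCompare 𝔛 hN.1 n).app (PL hN 𝔊 n)) (unitL_tL hN 𝔊 n)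
    simp only [Category.assoc] at e
    erw [FSch.pushCompareInv_pushCompare 𝔛 hN.1 n (PL hN 𝔊 n), Category.comp_id] at e
    rw [← e, reassoc_of% h]
    exact zero_comp

theorem pull_map_eq_zero (ψ : 𝔉 ⟶ 𝔊) (h : ψ ≫ unitL hN 𝔊 0 = 0) :
    (FSch.levelMor 𝔛 hN.1 0).pull.map ψ = 0 := by
  apply ((FSch.levelMor 𝔛 hN.1 0).adj.homEquiv _ _).injective
  rw [Adjunction.homEquiv_unit, Adjunction.homEquiv_unit]
  refine ((FSch.levelMor 𝔛 hN.1 0).adj.unit.naturality ψ).symm.trans (h.trans ?_)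
  rw [Functor.map_zero, comp_zero]

variable [SheafOfModules.IsFinitePresentation (R := ModSite.ringSh (𝔛.Osh hN.1)) 𝔉]
  [SheafOfModules.IsFinitePresentation (R := ModSite.ringSh (𝔛.Osh hN.1)) 𝔊]

set_option maxHeartbeats 1000000 in
/-- Near a monomorphism or an epimorphism of coherent modules there are only such. -/
theorem exists_level_perturb [CompactSpace (𝔛.X 0)] (θ : 𝔉 ⟶ 𝔊) :
    ∃ n : ℕ, ∀ ψ : 𝔉 ⟶ 𝔊, ψ ≫ unitL hN 𝔊 n = 0 → (Mono θ → Mono (θ + ψ)) ∧ (Epi θ → Epi (θ + ψ)) := by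
  classical
  have hcov : ∀ x : 𝔛.X 0, ∃ V : (𝔛.X 0).Opens, IsAffineOpen V ∧ x ∈ V := fun x => by
    obtain ⟨V, hV, hxV, -⟩ := exists_isAffineOpen_mem_and_subset (U := (⊤ : (𝔛.X 0).Opens)) (x := x) trivial
    exact ⟨V, hV, hxV⟩
  choose V hV hxV using hcov
  obtain ⟨F, hF⟩ := isCompact_univ.elim_finite_subcover (fun x => (V x : Set (𝔛.X 0))) (fun x => (V x).2)
    fun x _ => Set.mem_iUnion.2 ⟨x, hxV x⟩
  have hk : ∀ x : 𝔛.X 0, ∃ k : ℕ, Mono θ → ∀ n, k ≤ n → ∀ ψ : 𝔉 ⟶ 𝔊,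
      LinearMap.range (appLin hN 𝔉 ψ (V x)) ≤ defIdeal 𝔛 hN.1 (V x) ^ (n + 1) • ⊤ →
        Function.Injective (appLin hN 𝔉 θ (V x) + appLin hN 𝔉 ψ (V x)) := fun x => by
    by_cases hm : Mono θ
    · haveI := (structure_AV hN (hV x)).1
      haveI := (structure_AV hN (hV x)).2.1
      haveI := finite_FSec hN 𝔉 (hV x)
      haveI := finite_FSec hN 𝔊 (hV x)
      obtain ⟨k, hk⟩ := exists_injective_add (defIdeal 𝔛 hN.1 (V x)) (IsAdicComplete.le_jacobson_bot _)
        (appLin hN 𝔉 θ (V x)) (ModFlat16.sections_injective' θ (V x))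
      exact ⟨k, fun _ n hn ψ hψ => hk n hn _ hψ⟩
    · exact ⟨0, fun h => absurd h hm⟩
  choose k hk using hk
  refine ⟨F.sup k, fun ψ hψ => ⟨fun hm => ?_, fun he => ?_⟩⟩
  · haveI := isFinitePresentation_kernel hN (θ + ψ)
    refine mono_of_sections _ fun W x hx => ?_
    obtain ⟨y, hy⟩ := ModFlat16.exists_mod_kernel_section (θ + ψ) x hx
    suffices hy0 : y = 0 by rw [← hy, hy0, map_zero]
    let S : Sieve W :=
      { arrows := fun W' _ => ∃ a ∈ F, ∃ U' : (𝔛.X 0).Opens, IsAffineOpen U' ∧ W' ≤ U' ∧ U' ≤ W ∧ U' ≤ V a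
        downward_closed := by
          rintro W₁ W₂ f ⟨a, ha, U', h1, h2, h3⟩ g
          exact ⟨a, ha, U', h1, g.le.trans h2, h3⟩ }
    have hS : S ∈ Opens.grothendieckTopology (𝔛.X 0) W := fun z hz => by
      obtain ⟨a, ha, hza⟩ := Set.mem_iUnion₂.1 (hF (Set.mem_univ z))
      obtain ⟨U', hU', hzU, hle⟩ := exists_isAffineOpen_mem_and_subset (U := W ⊓ V a) (x := z) ⟨hz, hza⟩
      exact ⟨U', homOfLE (hle.trans inf_le_left), ⟨a, ha, U', hU', le_rfl, hle.trans inf_le_left, hle.trans inf_le_right⟩, hzU⟩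
    refine sect_ext _ S hS fun W' l hl => ?_
    obtain ⟨a, ha, U', hU', h1, h2, h3⟩ := hl
    have hzero : ∀ z : FSec hN (kernel (θ + ψ)) (V a), z = 0 := fun z => by
      apply ModFlat16.sections_injective' (kernel.ι (θ + ψ)) (V a)
      have hr : LinearMap.range (appLin hN 𝔉 ψ (V a)) ≤ defIdeal 𝔛 hN.1 (V a) ^ (F.sup k + 1) • ⊤ := by
        rintro _ ⟨t, rfl⟩
        exact (ker_unitL hN (hV a) _ _).1 (congrArg (fun q => q.val.app (op (V a)) t) hψ)
      have hinj := hk a hm (F.sup k) (Finset.le_sup ha) ψ hr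
      refine (hinj (Eq.trans ?_ (map_zero (appLin hN 𝔉 θ (V a) + appLin hN 𝔉 ψ (V a))).symm)).trans (map_zero _).symm
      exact ModFlat16.app_smap_comp_zero _ (θ + ψ) (kernel.condition _) z
    obtain ⟨ι, hι, s, hs⟩ := exists_gens hN (kernel (θ + ψ)) (hV a)
    have h4 := span_rF hN (kernel (θ + ψ)) (hV a) hU' h3 s hs
    have h5 : rF hN (kernel (θ + ψ)) h2 y = 0 := by
      have h6 : rF hN (kernel (θ + ψ)) h2 y ∈ Submodule.span (AV 𝔛 hN.1 U') (Set.range fun j => rF hN (kernel (θ + ψ)) h3 (s j)) :=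
        h4 ▸ Submodule.mem_top
      rw [show (fun j => rF hN (kernel (θ + ψ)) h3 (s j)) = fun _ => 0 from funext fun j => by rw [hzero (s j), map_zero]] at h6
      refine (Submodule.mem_bot (AV 𝔛 hN.1 U')).1 (Submodule.span_le.2 ?_ h6)
      rintro _ ⟨j, rfl⟩
      exact Submodule.zero_mem _
    rw [map_zero]
    have h7 := congrArg (rF hN (kernel (θ + ψ)) h1) h5
    rw [Subsingleton.elim l (homOfLE h1 ≫ homOfLE h2)]
    exact (ModFlat16.smap_comp (F := kernel (θ + ψ)) (homOfLE h2) (homOfLE h1) y).trans (h7.trans (map_zero _))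
  · haveI := (FSch.levelMor 𝔛 hN.1 0).adj.leftAdjoint_preservesColimits
    haveI := (FSch.levelMor 𝔛 hN.1 0).adj.left_adjoint_additive
    haveI : Epi ((FSch.levelMor 𝔛 hN.1 0).pull.map (θ + ψ)) := by
      rw [Functor.map_add, pull_map_eq_zero hN ψ (unitL_eq_zero_of_succ hN ψ _ hψ), add_zero]
      exact Functor.map_epi _ θ
    exact epi_of_epi_pull hN (θ + ψ)

end Groth.Agent.FormalModH7
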