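import Groth.Agent.Lib.CohFound.Colim
import Groth.Agent.Lib.CohFound.Rpush
import Groth.Agent.Lib.CohFound.ModAb
import Mathlib.AlgebraicGeometry.AffineScheme

/-!
# Cohomological dimension of compact opens for sheaves acyclic on affines
-/

set_option autoImplicit false
set_option linter.style.haveILetI false
set_option linter.unusedSectionVars false
set_option backward.isDefEq.respectTransparency false
set_option backward.isDefEq.respectTransparency.types false
universe u

open CategoryTheory CategoryTheory.Limits AlgebraicGeometry Opposite TopologicalSpace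

namespace Groth.Agent.FormalModH7

section Space

variable {X : TopCat.{u}} (F : CohTop.Ab X)

/-- `H^k(U, F) = 0` for `k > d`. -/
def CdLE (d : ℕ) (U : Opens X) : Prop := ∀ k, d < k → Subsingleton (CohFound.Hc F k U)

theorem CdLE.mono {d d' : ℕ} {U : Opens X} (h : CdLE F d U) (hd : d ≤ d') : CdLE F d' U :=
  fun k hk => h k (lt_of_le_of_lt hd hk)

theorem cdLE_bot (d : ℕ) : CdLE F d (⊥ : Opens X) := fun k _ =>
  subsingleton_of_forall_eq 0 fun ξ => CohFound.hc_bot_eq_zero F k rfl ξ

theorem cdLE_sup {d : ℕ} {A B : Opens X} (hA : CdLE F (d + 1) A) (hB : CdLE F (d + 1) B) (hAB : CdLE F d (A ⊓ B)) :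
    CdLE F (d + 1) (A ⊔ B) := by
  intro k hk
  obtain ⟨n, rfl⟩ : ∃ n, k = n + 1 := ⟨k - 1, by omega⟩
  refine subsingleton_of_forall_eq 0 fun x => ?_
  haveI := hA (n + 1) hk
  haveI := hB (n + 1) hk
  obtain ⟨v, hv⟩ := CohFound.mv_exact x (Subsingleton.elim (α := CohFound.Hc F (n + 1) A) _ _)
    (Subsingleton.elim (α := CohFound.Hc F (n + 1) B) _ _)
  haveI := hAB n (by omega)
  rw [← hv, Subsingleton.elim (α := CohFound.Hc F n (A ⊓ B)) v 0, map_zero]

/-- A finite union with small intersections has small dimension. -/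
theorem cdLE_finset_sup {ι : Type*} (s : Finset ι) (d : ℕ) :
    ∀ A : ι → Opens X, (∀ t ⊆ s, t.Nonempty → CdLE F d (t.inf A)) → CdLE F (d + s.card) (s.sup A) := by
  classical
  induction s using Finset.induction_on with
  | empty => intro A _; simpa using cdLE_bot F d
  | @insert a s has ih =>
    intro A hA
    rw [Finset.sup_insert, Finset.card_insert_of_notMem has, ← add_assoc]
    refine cdLE_sup F ?_ ?_ ?_
    · refine CdLE.mono F ?_ (show d ≤ d + s.card + 1 by omega)
      simpa using hA {a} (by simp) (by simp)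
    · exact CdLE.mono F (ih A fun t ht hne => hA t (ht.trans (Finset.subset_insert a s)) hne)
        (show d + s.card ≤ d + s.card + 1 by omega)
    · rw [Finset.sup_inf_distrib_left]
      refine ih _ fun t ht hne => ?_
      have : t.inf (fun i => A a ⊓ A i) = (insert a t).inf A := by
        rw [Finset.inf_insert]
        conv_rhs => rw [← Finset.inf_const hne (A a)]
        exact Finset.inf_inf
      rw [this]
      exact hA _ (Finset.insert_subset_insert a ht) (Finset.insert_nonempty a t)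

end Space

variable {Y : Scheme.{u}}

/-- A compact open inside an affine open is a finite union of basic opens. -/
theorem exists_finset_basicOpen {U V : Y.Opens} (hU : IsAffineOpen U) (hV : IsCompact (V : Set Y)) (hVU : V ≤ U) :
    ∃ G : Finset Γ(Y, U), V = G.sup Y.basicOpen := by
  have key : ∀ x : V, ∃ f : Γ(Y, U), Y.basicOpen f ≤ V ∧ x.1 ∈ Y.basicOpen f := fun x =>
    hU.exists_basicOpen_le x (hVU x.2)
  choose f hf hf' using key
  obtain ⟨t, ht⟩ := hV.elim_finite_subcover (fun x => (Y.basicOpen (f x) : Set Y)) (fun x => (Y.basicOpen (f x)).isOpen)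
    fun x hx => Set.mem_iUnion.2 ⟨⟨x, hx⟩, hf' ⟨x, hx⟩⟩
  classical
  refine ⟨t.image f, le_antisymm (fun x hx => ?_) (Finset.sup_le fun g hg => ?_)⟩
  · obtain ⟨i, hi, hxi⟩ := Set.mem_iUnion₂.1 (ht hx)
    exact (Finset.le_sup (f := Y.basicOpen) (Finset.mem_image_of_mem f hi) : Y.basicOpen (f i) ≤ _) hxi
  · obtain ⟨i, -, rfl⟩ := Finset.mem_image.1 hg
    exact hf i

/-- In a scheme whose opens are compact, the basic opens of a compact open have bounded dimension for the sheaves
acyclic on affine opens. -/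
theorem exists_cdLE_basicOpen (hc : ∀ U : Y.Opens, IsCompact (U : Set Y)) (W : Y.Opens) :
    ∃ d : ℕ, ∀ F : CohTop.Ab (CohFound.sp Y), (∀ V : Y.Opens, IsAffineOpen V → CdLE F 0 V) →
      ∀ h : Γ(Y, W), CdLE F d (Y.basicOpen h) := by
  classical
  have key : ∀ x : W, ∃ U : Y.Opens, IsAffineOpen U ∧ U ≤ W ∧ x.1 ∈ U := fun x => by
    obtain ⟨U, hU, hx, hUW⟩ := Y.isBasis_affineOpens.exists_subset_of_mem_open x.2 W.isOpen
    obtain ⟨U', hU', rfl⟩ := hU
    exact ⟨U', hU', hUW, hx⟩
  choose U hU hUW hxU using key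
  obtain ⟨s, hs⟩ := (hc W).elim_finite_subcover (fun x => (U x : Set Y)) (fun x => (U x).isOpen)
    fun x hx => Set.mem_iUnion.2 ⟨⟨x, hx⟩, hxU ⟨x, hx⟩⟩
  have hint : ∀ t : Finset W, ∃ r : ℕ, t.Nonempty → ∀ F : CohTop.Ab (CohFound.sp Y),
      (∀ V : Y.Opens, IsAffineOpen V → CdLE F 0 V) → ∀ h : Γ(Y, W), CdLE F r (Y.basicOpen h ⊓ t.inf U) := by
    intro t
    rcases t.eq_empty_or_nonempty with rfl | hne
    · exact ⟨0, fun h => absurd h (by simp)⟩
    obtain ⟨a, ha⟩ := hne
    obtain ⟨G, hG⟩ := exists_finset_basicOpen (hU a) (hc (t.inf U)) (Finset.inf_le ha)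
    refine ⟨0 + G.card, fun _ F hF h => ?_⟩
    rw [hG, Finset.sup_inf_distrib_left]
    refine cdLE_finset_sup F G 0 _ fun t' hG' hne' => hF _ ?_
    clear hG'
    suffices ∃ g : Γ(Y, U a), t'.inf (fun i => Y.basicOpen h ⊓ Y.basicOpen i) = Y.basicOpen g by
      obtain ⟨g, hg⟩ := this
      rw [hg]
      exact (hU a).basicOpen g
    induction hne' using Finset.Nonempty.cons_induction with
    | singleton i =>
      refine ⟨Y.presheaf.map (homOfLE (hUW a)).op h * i, ?_⟩
      rw [Finset.inf_singleton, Scheme.basicOpen_mul, Scheme.basicOpen_res]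
      rw [inf_assoc, inf_comm (U a), inf_assoc, inf_of_le_left (Y.basicOpen_le i)]
    | cons i t' hi hne' ih =>
      obtain ⟨g, hg⟩ := ih
      refine ⟨Y.presheaf.map (homOfLE (hUW a)).op h * i * g, ?_⟩
      rw [Finset.inf_cons, hg, Scheme.basicOpen_mul, Scheme.basicOpen_mul, Scheme.basicOpen_res]
      simp only [inf_assoc]
      exact le_antisymm (le_inf ((inf_le_right.trans inf_le_left).trans (Y.basicOpen_le i)) le_rfl) inf_le_right
  choose r hr using hint
  refine ⟨s.powerset.sup r + s.card, fun F hF h => ?_⟩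
  have hcov : Y.basicOpen h = s.sup (fun a => Y.basicOpen h ⊓ U a) := by
    rw [← Finset.sup_inf_distrib_left, eq_comm, inf_eq_left]
    intro x hx
    obtain ⟨i, hi, hxi⟩ := Set.mem_iUnion₂.1 (hs (Y.basicOpen_le h hx))
    exact (Finset.le_sup (f := U) hi : U i ≤ _) hxi
  rw [hcov]
  refine cdLE_finset_sup F s _ _ fun t ht hne => ?_
  rw [show t.inf (fun a => Y.basicOpen h ⊓ U a) = Y.basicOpen h ⊓ t.inf U by
    conv_rhs => rw [← Finset.inf_const hne (Y.basicOpen h)]
    exact Finset.inf_inf]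
  exact CdLE.mono F (hr t hne F hF h) (Finset.le_sup (Finset.mem_powerset.2 ht))

/-- Compact opens have bounded dimension for the sheaves acyclic on affine opens. -/
theorem exists_cdLE (hc : ∀ U : Y.Opens, IsCompact (U : Set Y)) (W : Y.Opens) :
    ∃ d : ℕ, ∀ F : CohTop.Ab (CohFound.sp Y), (∀ V : Y.Opens, IsAffineOpen V → CdLE F 0 V) → CdLE F d W := by
  obtain ⟨d, hd⟩ := exists_cdLE_basicOpen hc W
  refine ⟨d, fun F hF => ?_⟩
  have := hd F hF 1
  rwa [Scheme.basicOpen_of_isUnit _ isUnit_one] at this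

end Groth.Agent.FormalModH7
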