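import Groth.Agent.Lib.FormalModH7.CplExact
import Groth.Agent.Lib.FormalModH7.CplAlgHom
import Groth.Agent.Lib.CohFound.StalkLin
import Mathlib.CategoryTheory.Abelian.Basic

/-!
# Kernels, images and cokernels of maps of completions
-/

set_option autoImplicit false
set_option linter.style.haveILetI false
set_option backward.isDefEq.respectTransparency false
set_option backward.isDefEq.respectTransparency.types false
universe u

open CategoryTheory CategoryTheory.Limits AlgebraicGeometry Opposite TopologicalSpace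

namespace Groth.Agent.FormalModH7

variable {X : Scheme.{u}} {𝓘 : X.IdealSheafData} (h : (FSch.completionAlong X 𝓘).IsFormal)

/-- The completion of a map. -/
noncomputable abbrev cplHom {F G : X.Modules} (φ : F ⟶ G) :
    (FSch.complMod 𝓘 F).realMod h ⟶ (FSch.complMod 𝓘 G).realMod h :=
  FSch.ModSys.realModMap h (FSch.complModMap 𝓘 φ)

theorem cplHom_comp {F G H : X.Modules} (φ : F ⟶ G) (ψ : G ⟶ H) :
    cplHom (𝓘 := 𝓘) h (φ ≫ ψ) = cplHom (𝓘 := 𝓘) h φ ≫ cplHom (𝓘 := 𝓘) h ψ := by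
  apply SheafOfModules.hom_ext
  refine PresheafOfModules.hom_ext fun V => ?_
  obtain ⟨V, rfl⟩ : ∃ V', op V' = V := ⟨V.unop, rfl⟩
  refine ModuleCat.hom_ext (LinearMap.ext fun x => ?_)
  show cplMap 𝓘 h (φ ≫ ψ) V x = cplMap 𝓘 h ψ V (cplMap 𝓘 h φ V x)
  refine RSec_ext 𝓘 h H fun n => ?_
  rw [piM_cplMap, piM_cplMap, piM_cplMap]
  exact congrArg (fun q => q.app _ (piM h (FSch.complMod 𝓘 F) V n x))
    (Functor.map_comp (Scheme.Modules.pullback (FSch.completionToX X 𝓘 n)) φ ψ)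

variable [IsLocallyNoetherian X] {F G : X.Modules} (hF : Coh.IsCoh F) (hG : Coh.IsCoh G) (φ : F ⟶ G)

include hF hG in
/-- The completion of a map, split through its image. -/
theorem exists_cpl_pieces :
    ∃ (w₁ : cplHom (𝓘 := 𝓘) h (kernel.ι φ) ≫ cplHom (𝓘 := 𝓘) h (Abelian.factorThruImage φ) = 0)
      (w₂ : cplHom (𝓘 := 𝓘) h (Abelian.image.ι φ) ≫ cplHom (𝓘 := 𝓘) h (cokernel.π φ) = 0),
      (ShortComplex.mk _ _ w₁).ShortExact ∧ (ShortComplex.mk _ _ w₂).ShortExact ∧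
        cplHom (𝓘 := 𝓘) h φ = cplHom (𝓘 := 𝓘) h (Abelian.factorThruImage φ) ≫ cplHom (𝓘 := 𝓘) h (Abelian.image.ι φ) := by
  have hK := M1.isCoh_kernel hF hG.1 φ
  have hC := M1.isCoh_cokernel hF.1 hG φ
  have hI : Coh.IsCoh (Abelian.image φ) := M1.isCoh_kernel hG hC.1 _
  let S₁ : ShortComplex X.Modules := ShortComplex.mk (kernel.ι φ) (Abelian.factorThruImage φ) (by
    rw [← cancel_mono (Abelian.image.ι φ), Category.assoc, kernel.lift_ι, kernel.condition, zero_comp])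
  have hS₁ : S₁.ShortExact := by
    refine { exact := ShortComplex.exact_of_f_is_kernel _ (KernelFork.IsLimit.ofι' _ _ fun {W} k hk => ?_) }
    refine ⟨kernel.lift φ k ?_, kernel.lift_ι _ _ _⟩
    have h0 := congrArg (· ≫ Abelian.image.ι φ) hk
    simp only [zero_comp] at h0
    erw [Category.assoc, kernel.lift_ι] at h0
    exact h0
  let S₂ : ShortComplex X.Modules := ShortComplex.mk (Abelian.image.ι φ) (cokernel.π φ) (kernel.condition _)
  have hS₂ : S₂.ShortExact := { exact := ShortComplex.exact_of_f_is_kernel _ (kernelIsKernel _) }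
  refine ⟨cpl_comp_zero h S₁, cpl_comp_zero h S₂, shortExact_cpl h S₁ hS₁ hK hF hI (cpl_comp_zero h S₁),
    shortExact_cpl h S₂ hS₂ hI hG hC (cpl_comp_zero h S₂), ?_⟩
  rw [← cplHom_comp, kernel.lift_ι]

include hF hG in
theorem nonempty_kernel_cplHom :
    Nonempty (kernel (cplHom (𝓘 := 𝓘) h φ) ≅ (FSch.complMod 𝓘 (kernel φ)).realMod h) := by
  obtain ⟨w₁, w₂, h₁, h₂, e⟩ := exists_cpl_pieces h hF hG φ
  haveI := h₁.mono_f
  haveI := h₂.mono_f
  exact ⟨kernelIsoOfEq e ≪≫ kernelCompMono _ _ ≪≫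
    (IsLimit.conePointUniqueUpToIso h₁.exact.fIsKernel (kernelIsKernel _)).symm⟩

include hF hG in
theorem nonempty_cokernel_cplHom :
    Nonempty (cokernel (cplHom (𝓘 := 𝓘) h φ) ≅ (FSch.complMod 𝓘 (cokernel φ)).realMod h) := by
  obtain ⟨w₁, w₂, h₁, h₂, e⟩ := exists_cpl_pieces h hF hG φ
  haveI := h₁.epi_g
  haveI := h₂.epi_g
  exact ⟨cokernelIsoOfEq e ≪≫ cokernelEpiComp _ _ ≪≫
    (IsColimit.coconePointUniqueUpToIso h₂.exact.gIsCokernel (cokernelIsCokernel _)).symm⟩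

include hF hG in
theorem nonempty_image_cplHom :
    Nonempty (Abelian.image (cplHom (𝓘 := 𝓘) h φ) ≅ (FSch.complMod 𝓘 (Abelian.image φ)).realMod h) := by
  obtain ⟨w₁, w₂, h₁, h₂, e⟩ := exists_cpl_pieces h hF hG φ
  haveI := h₁.epi_g
  haveI := h₂.mono_f
  haveI := strongEpi_of_epi (cplHom (𝓘 := 𝓘) h (Abelian.factorThruImage φ))
  exact ⟨Abelian.imageIsoImage _ ≪≫
    (image.isoStrongEpiMono (cplHom (𝓘 := 𝓘) h (Abelian.factorThruImage φ))
      (cplHom (𝓘 := 𝓘) h (Abelian.image.ι φ)) e.symm).symm⟩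

end Groth.Agent.FormalModH7
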