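import Groth.Agent.Lib.FormalModH7.CplSec
import Groth.Agent.Lib.FormalModH7.IsoPres

/-!
# Completion of coherent modules is exact
-/

set_option autoImplicit false
set_option linter.style.haveILetI false
set_option backward.isDefEq.respectTransparency false
set_option backward.isDefEq.respectTransparency.types false
universe u

open CategoryTheory CategoryTheory.Limits AlgebraicGeometry Opposite TopologicalSpace

namespace Groth.Agent.FormalModH7

/-- Short exactness from local lifts of sections. -/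
theorem shortExact_of_locally {C : Type u} [SmallCategory C] {J : GrothendieckTopology C}
    {O : Sheaf J CommRingCat.{u}} {A B D : ModSite.Mod O} (f : A ⟶ B) (g : B ⟶ D) (w : f ≫ g = 0) [Mono f] [Epi g]
    (hmid : ∀ (V : C) (x : ModSite.sect B V), g.val.app (op V) x = 0 → ∃ S ∈ J V, ∀ ⦃W : C⦄ (l : W ⟶ V), S l →
      ∃ z, f.val.app (op W) z = ModFlat16.smap B l x) :
    (ShortComplex.mk f g w).ShortExact := by
  refine ⟨?_⟩
  rw [ShortComplex.exact_iff_epi_kernel_lift]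
  refine epi_of_locally _ fun V y => ?_
  obtain ⟨S, hS, hS'⟩ := hmid V ((kernel.ι g).val.app (op V) y)
    (ModFlat16.app_smap_comp_zero _ g (kernel.condition g) y)
  refine ⟨S, hS, fun W l hl => ?_⟩
  obtain ⟨z, hz⟩ := hS' l hl
  refine ⟨z, ModFlat16.sections_injective' (kernel.ι g) W ?_⟩
  refine Eq.trans (congrArg (fun q => q.val.app (op W) z) (kernel.lift_ι g f w)) ?_
  rw [hz, ModFlat16.app_smap]

variable {X : Scheme.{u}} {𝓘 : X.IdealSheafData} (h : (FSch.completionAlong X 𝓘).IsFormal) {F G : X.Modules}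

theorem cplMap_rS (φ : F ⟶ G) {V W : ((FSch.completionAlong X 𝓘).X 0).Opens} (i : W ≤ V)
    (x : RSec h (FSch.complMod 𝓘 F) V) :
    cplMap 𝓘 h φ W (rS h (FSch.complMod 𝓘 F) i x) = rS h (FSch.complMod 𝓘 G) i (cplMap 𝓘 h φ V x) :=
  ModFlat16.app_smap (FSch.ModSys.realModMap h (FSch.complModMap 𝓘 φ)) (homOfLE i) x

variable [IsLocallyNoetherian X]

/-- The completion of a monomorphism is a monomorphism. -/
theorem mono_cpl (hF : Coh.IsCoh F) (hG : Coh.IsCoh G) (φ : F ⟶ G) [Mono φ] :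
    Mono (FSch.ModSys.realModMap h (FSch.complModMap 𝓘 φ)) := by
  refine mono_of_sections _ fun V x hx => ?_
  refine sect_ext _ (zSieve V) (zSieve_mem V) fun W l hl => ?_
  obtain ⟨U, hU, h1, h2⟩ := hl
  rw [map_zero]
  have h0 : rS h (FSch.complMod 𝓘 F) h2 x = 0 := cplMap_injective 𝓘 h hU hF hG φ _ (by
    rw [cplMap_rS]
    exact (congrArg (rS h (FSch.complMod 𝓘 G) h2) hx).trans (map_zero _))
  refine Eq.trans ?_ ((congrArg (rS h (FSch.complMod 𝓘 F) h1) h0).trans (map_zero _))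
  exact (rS_comp h (FSch.complMod 𝓘 F) h2 h1 x).symm

theorem cplMap_surjective (hF : Coh.IsCoh F) (hG : Coh.IsCoh G) (φ : F ⟶ G) [Epi φ] {U : X.Opens}
    (hU : IsAffineOpen U) : Function.Surjective (cplMap 𝓘 h φ (zO 𝓘 U)) := by
  rw [← LinearMap.range_eq_top, eq_top_iff]
  have hs := M1.app_surjective_affine_of_isQCoh hF.1 hG.1 φ hU
  rw [← span_cplSec 𝓘 h hU hG (fun s : Γ(G, U) => s) (by simp), Submodule.span_le]
  rintro _ ⟨s, rfl⟩
  obtain ⟨t, rfl⟩ := hs s
  exact ⟨cplSec 𝓘 h F U t, cplMap_cplSec 𝓘 h φ U t⟩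

/-- The completion of an epimorphism is an epimorphism. -/
theorem epi_cpl (hF : Coh.IsCoh F) (hG : Coh.IsCoh G) (φ : F ⟶ G) [Epi φ] :
    Epi (FSch.ModSys.realModMap h (FSch.complModMap 𝓘 φ)) := by
  refine epi_of_locally _ fun V y => ⟨zSieve V, zSieve_mem V, fun W l hl => ?_⟩
  obtain ⟨U, hU, h1, h2⟩ := hl
  obtain ⟨x, hx⟩ := cplMap_surjective h hF hG φ hU (rS h (FSch.complMod 𝓘 G) h2 y)
  refine ⟨rS h (FSch.complMod 𝓘 F) h1 x, ?_⟩
  refine (cplMap_rS h φ h1 x).trans ?_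
  rw [hx]
  exact rS_comp h (FSch.complMod 𝓘 G) h2 h1 y

theorem cpl_comp_zero (S : ShortComplex X.Modules) :
    FSch.ModSys.realModMap h (FSch.complModMap 𝓘 S.f) ≫ FSch.ModSys.realModMap h (FSch.complModMap 𝓘 S.g) = 0 := by
  apply SheafOfModules.hom_ext
  refine PresheafOfModules.hom_ext fun V => ?_
  obtain ⟨V, rfl⟩ : ∃ V', op V' = V := ⟨V.unop, rfl⟩
  refine ModuleCat.hom_ext (LinearMap.ext fun x => ?_)
  show cplMap 𝓘 h S.g V (cplMap 𝓘 h S.f V x) = (0 : RSec h (FSch.complMod 𝓘 S.X₃) V)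
  refine piM_ext h _ _ fun n => ?_
  rw [piM_cplMap, piM_cplMap]
  have e : (Scheme.Modules.pullback (FSch.completionToX X 𝓘 n)).map S.f ≫
      (Scheme.Modules.pullback (FSch.completionToX X 𝓘 n)).map S.g = 0 := by
    rw [← Functor.map_comp, S.zero, Functor.map_zero]
  exact congrArg (fun q => q.app ((FSch.completionAlong X 𝓘).lvU h n V)
    (piM h (FSch.complMod 𝓘 S.X₁) V n x)) e

/-- Completion of coherent modules is exact. -/
theorem shortExact_cpl (S : ShortComplex X.Modules) (hS : S.ShortExact) (h1 : Coh.IsCoh S.X₁) (h2 : Coh.IsCoh S.X₂)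
    (h3 : Coh.IsCoh S.X₃)
    (w : FSch.ModSys.realModMap h (FSch.complModMap 𝓘 S.f) ≫ FSch.ModSys.realModMap h (FSch.complModMap 𝓘 S.g) = 0) :
    (ShortComplex.mk _ _ w).ShortExact := by
  haveI := hS.mono_f
  haveI := hS.epi_g
  haveI := mono_cpl h h1 h2 S.f
  haveI := epi_cpl h h2 h3 S.g
  refine shortExact_of_locally _ _ w fun V x hx0 => ⟨zSieve V, zSieve_mem V, fun W l hl => ?_⟩
  obtain ⟨U, hU, e1, e2⟩ := hl
  have hx : cplMap 𝓘 h S.g (zO 𝓘 U) (rS h (FSch.complMod 𝓘 S.X₂) e2 x) = 0 := by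
    rw [cplMap_rS]
    exact (congrArg (rS h (FSch.complMod 𝓘 S.X₃) e2) hx0).trans (map_zero _)
  obtain ⟨z, hz⟩ := cplMap_exact 𝓘 h hU S hS h1 h2 h3 _ hx
  refine ⟨rS h (FSch.complMod 𝓘 S.X₁) e1 z, ?_⟩
  refine (cplMap_rS h S.f e1 z).trans ?_
  rw [hz]
  exact rS_comp h (FSch.complMod 𝓘 S.X₂) e2 e1 x

end Groth.Agent.FormalModH7
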