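import Groth.Agent.Lib.FormalModH7.CplSec
import Groth.Agent.Lib.FormalH7.FlatCplMap

/-!
# The completion over traces of affine opens is flat
-/

set_option autoImplicit false
set_option linter.style.haveILetI false
set_option backward.isDefEq.respectTransparency false
set_option backward.isDefEq.respectTransparency.types false
universe u

open CategoryTheory CategoryTheory.Limits AlgebraicGeometry Opposite TopologicalSpace

namespace Groth.Agent.FormalModH7

section Alg

variable {A B : Type u} [CommRing A] [CommRing B] [IsNoetherianRing A] [IsNoetherianRing B]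

/-- A complete ring presenting all quotients by powers is flat. -/
theorem flat_of_levels (φ : A →+* B) (I : Ideal A) (J : Ideal B) (hJ : I.map φ = J) [IsAdicComplete J B]
    (hs : ∀ n, ∀ b : B, ∃ a : A, φ a - b ∈ J ^ (n + 1)) (hk : ∀ n, ∀ a : A, φ a ∈ J ^ (n + 1) → a ∈ I ^ (n + 1)) :
    φ.Flat := by
  refine FormalH7.ringHomFlat_of_forall_flat_quotient_pow φ I (hJ ▸ IsAdicComplete.le_jacobson_bot J) fun n => ?_
  refine RingHom.Flat.of_bijective ?_
  have e : (I ^ n).map φ = J ^ n := by rw [Ideal.map_pow, hJ]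
  constructor
  · intro x y hxy
    obtain ⟨a, rfl⟩ := Ideal.Quotient.mk_surjective x
    obtain ⟨b, rfl⟩ := Ideal.Quotient.mk_surjective y
    rw [Ideal.quotientMap_mk, Ideal.quotientMap_mk, Ideal.Quotient.eq, ← map_sub, e] at hxy
    rw [Ideal.Quotient.eq]
    cases n with
    | zero => simp
    | succ m => exact hk m _ hxy
  · intro y
    obtain ⟨b, rfl⟩ := Ideal.Quotient.mk_surjective y
    cases n with
    | zero => exact ⟨0, (Ideal.Quotient.eq.2 (by rw [e, pow_zero, Ideal.one_eq_top]; trivial))⟩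
    | succ m =>
      obtain ⟨a, ha⟩ := hs m b
      exact ⟨Ideal.Quotient.mk _ a, by rw [Ideal.quotientMap_mk, Ideal.Quotient.eq, e]; exact ha⟩

end Alg

variable {X : Scheme.{u}} [IsLocallyNoetherian X] (𝓘 : X.IdealSheafData)
  (h : (FSch.completionAlong X 𝓘).IsFormal) {U : X.Opens} (hU : IsAffineOpen U)

theorem prj_shA_surjective (n : ℕ) (x : AV (FSch.completionAlong X 𝓘) h (zO 𝓘 U)) :
    IsAffineOpen U → ∃ a, prj (FSch.completionAlong X 𝓘) h (zO 𝓘 U) n (shA 𝓘 h U a) =
      prj (FSch.completionAlong X 𝓘) h (zO 𝓘 U) n x := fun hU => by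
  obtain ⟨a, ha⟩ := shL_surjective 𝓘 h n hU (prj (FSch.completionAlong X 𝓘) h (zO 𝓘 U) n x)
  exact ⟨a, (prj_shA 𝓘 h n U a).trans ha⟩

include hU in
theorem map_ideal_shA :
    (𝓘.ideal ⟨U, hU⟩).map (shA 𝓘 h U) = defIdeal (FSch.completionAlong X 𝓘) h (zO 𝓘 U) := by
  classical
  refine le_antisymm (Ideal.map_le_iff_le_comap.2 fun a ha => ?_) fun x hx => ?_
  · rw [Ideal.mem_comap, defIdeal, RingHom.mem_ker, prj_shA, ← RingHom.mem_ker, ker_shL 𝓘 h 0 hU, zero_add, pow_one]
    exact ha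
  haveI : IsNoetherianRing Γ(X, U) := IsLocallyNoetherian.component_noetherian ⟨U, hU⟩
  obtain ⟨S, hS⟩ : (𝓘.ideal ⟨U, hU⟩).FG := IsNoetherian.noetherian _
  have hmem : (fun _ : PUnit.{1} => x) ∈ Submodule.span (AV (FSch.completionAlong X 𝓘) h (zO 𝓘 U))
      (Set.range fun (r : S) (_ : PUnit.{1}) => shA 𝓘 h U r.1) := by
    refine mem_span_of_levels (hN := isLocNoethFormal_completionAlong 𝓘 h) (isAffineOpen_zO 𝓘 hU) _ _ fun m => ?_
    obtain ⟨a, ha⟩ := prj_shA_surjective 𝓘 h m x hU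
    have haI : a ∈ 𝓘.ideal ⟨U, hU⟩ := by
      have h0 := congrArg (low h (zO 𝓘 U) m) ha
      rw [low_prj, low_prj, prj_shA, show prj (FSch.completionAlong X 𝓘) h (zO 𝓘 U) 0 x = 0 from hx,
        ← RingHom.mem_ker, ker_shL 𝓘 h 0 hU, zero_add, pow_one] at h0
      exact h0
    have key : ∀ z ∈ Ideal.span (S : Set Γ(X, U)), (fun _ : PUnit.{1} => shL 𝓘 h m U z) ∈
        Submodule.span (LV (FSch.completionAlong X 𝓘) h m (zO 𝓘 U))
          (Set.range fun (r : S) (_ : PUnit.{1}) => prj (FSch.completionAlong X 𝓘) h (zO 𝓘 U) m (shA 𝓘 h U r.1)) :=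
      fun z hz => by
      induction hz using Submodule.span_induction with
      | mem y hy => exact Submodule.subset_span ⟨⟨y, hy⟩, funext fun _ => prj_shA 𝓘 h m U y⟩
      | zero => simp only [map_zero]; exact Submodule.zero_mem _
      | add a b _ _ ha hb => simp only [map_add]; exact Submodule.add_mem _ ha hb
      | smul c a _ ha => simp only [smul_eq_mul, map_mul]; exact Submodule.smul_mem _ (shL 𝓘 h m U c) ha
    have h1 := key a (hS.symm ▸ haI)
    rw [← prj_shA, ha] at h1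
    exact h1
  obtain ⟨c, hc⟩ := (Submodule.mem_span_range_iff_exists_fun (AV (FSch.completionAlong X 𝓘) h (zO 𝓘 U))).1 hmem
  have h2 := congrFun hc PUnit.unit
  rw [Finset.sum_apply] at h2
  rw [← h2]
  exact Ideal.sum_mem _ fun r _ => Ideal.mul_mem_left _ _
    (Ideal.mem_map_of_mem _ (hS ▸ Submodule.subset_span r.2))

include hU in
/-- The completion of the ring of an affine open is flat. -/
theorem flat_shA : (shA 𝓘 h U).Flat := by
  have hN := isLocNoethFormal_completionAlong 𝓘 h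
  haveI : IsNoetherianRing Γ(X, U) := IsLocallyNoetherian.component_noetherian ⟨U, hU⟩
  obtain ⟨h1, h2, h3⟩ := structure_AV hN (isAffineOpen_zO 𝓘 hU)
  haveI := h1
  haveI := h2
  refine flat_of_levels (shA 𝓘 h U) (𝓘.ideal ⟨U, hU⟩) (defIdeal (FSch.completionAlong X 𝓘) h (zO 𝓘 U))
    (map_ideal_shA 𝓘 h hU) (fun n b => ?_) fun n a ha => ?_
  · obtain ⟨a, ha⟩ := prj_shA_surjective 𝓘 h n b hU
    refine ⟨a, ?_⟩
    rw [← h3 n, RingHom.mem_ker, map_sub, ha, sub_self]
  · rw [← h3 n, RingHom.mem_ker, prj_shA, ← RingHom.mem_ker, ker_shL 𝓘 h n hU] at ha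
    exact ha

end Groth.Agent.FormalModH7
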