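import Groth.Agent.Lib.ModFlat16.PullMono
import Groth.Agent.Lib.ModFlat16.LocFT

/-!
# Inverse images along locally flat morphisms of sites keep monomorphisms
-/

set_option autoImplicit false
set_option linter.style.haveILetI false
set_option backward.isDefEq.respectTransparency false
set_option backward.isDefEq.respectTransparency.types false

universe u

open CategoryTheory CategoryTheory.Limits Opposite TensorProduct

noncomputable section

namespace Groth.Agent.FormalModH7

open ModFlat16 Groth.Agent.KFlat.Site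

variable {C D : Type u} [SmallCategory C] [SmallCategory D] {J : GrothendieckTopology C}
  {K : GrothendieckTopology D} {O_C : Sheaf J CommRingCat.{u}} {O_D : Sheaf K CommRingCat.{u}}

/-- Locally the ring upstairs is flat over rings downstairs. -/
def LocFlat (f : ModSite.RMor O_C O_D) : Prop :=
  ∀ (W : C) (V₀ : D) (u₀ : W ⟶ f.fn.obj V₀), ∃ T ∈ J W, ∀ ⦃W' : C⦄ (k : W' ⟶ W), T k →
    ∃ (W'' : C) (m : W' ⟶ W'') (j : W'' ⟶ W) (V' : D) (a : V' ⟶ V₀) (u' : W'' ⟶ f.fn.obj V'),
      m ≫ j = k ∧ u' ≫ f.fn.map a = j ≫ u₀ ∧ (rho f u').Flat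

variable {f : ModSite.RMor O_C O_D}

section Ev

variable {M : ModSite.Mod O_D} {U : C} {V : D} (u : U ⟶ f.fn.obj V)

/-- Evaluation of tensors at a node. -/
theorem sum_smul_cls_eq_zero {ι : Type*} [Fintype ι] (n : ι → O_C.obj.obj (op U)) (x : ι → ModSite.sect M V)
    (h : letI : Algebra (O_D.obj.obj (op V)) (O_C.obj.obj (op U)) := (rho f u).toAlgebra
      letI : Module (O_D.obj.obj (op V)) (ModSite.sect M V) :=
        inferInstanceAs (Module ((ModSite.ringSh O_D).obj.obj (op V)) (M.val.obj (op V)))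
      ∑ i, n i ⊗ₜ[O_D.obj.obj (op V)] x i = 0) :
    ∑ i, n i • clsAdd u (x i) = 0 := by
  letI : Algebra (O_D.obj.obj (op V)) (O_C.obj.obj (op U)) := (rho f u).toAlgebra
  letI : Module (O_D.obj.obj (op V)) (ModSite.sect M V) :=
    inferInstanceAs (Module ((ModSite.ringSh O_D).obj.obj (op V)) (M.val.obj (op V)))
  let ev : O_C.obj.obj (op U) ⊗[O_D.obj.obj (op V)] ModSite.sect M V →+
      ModSite.sect ((ModSite.shPre O_C).obj (preQ f M)) U :=
    TensorProduct.liftAddHom
      (AddMonoidHom.mk' (fun r => AddMonoidHom.mk' (fun x => r • clsAdd u x) fun x y => by rw [map_add, smul_add])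
        fun r r' => AddMonoidHom.ext fun x => add_smul r r' (clsAdd u x))
      fun a r x => by
        show (a • r) • clsAdd u x = r • clsAdd u (a • x)
        rw [show clsAdd u (a • x) = _ from cls_smul u a x, smul_smul, Algebra.smul_def, mul_comm]
        rfl
  have h0 := congrArg ev h
  rw [map_sum, map_zero] at h0
  exact Eq.trans (Finset.sum_congr rfl fun i _ => rfl) h0

end Ev

/-- Inverse images along locally flat morphisms keep monomorphisms. -/
theorem mono_pull_of_locally_flat (hflat : LocFlat f) {A B : ModSite.Mod O_D} (φ : A ⟶ B) [Mono φ] :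
    Mono (f.pull.map φ) := by
  classical
  suffices h : Mono (mapSh (f := f) φ) by rw [pull_map_eq]; infer_instance
  let PF := (ModSite.shPre O_C).obj (preQ f A)
  suffices hinj : ∀ (U : C) (σ : ModSite.sect PF U), (mapSh (f := f) φ).val.app (op U) σ = 0 → σ = 0 by
    have hm : Mono ((ModSite.toPre O_C).map (mapSh (f := f) φ)) := PresheafOfModules.mono_of_injective fun {A} =>
      (injective_iff_map_eq_zero ((mapSh (f := f) φ).val.app A).hom).2 fun x hx => hinj A.unop x hx
    haveI := (toPreFF O_C).faithful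
    exact (ModSite.toPre O_C).mono_of_mono_map hm
  intro U σ hσ
  have sep : ∀ {U : C} (σ : ModSite.sect PF U) (T : Sieve U), T ∈ J U →
      (∀ ⦃W : C⦄ (k : W ⟶ U), T k → smap PF k σ = 0) → σ = 0 := fun {U} σ T hT h =>
    (Presheaf.IsSheaf.isSeparated (ModSite.toAb PF).property) U T hT _ _
      fun W k hk => (h k hk).trans (map_zero (smap PF k)).symm
  obtain ⟨S₀, hS₀, hz₀⟩ := exists_local_clsHom σ
  refine sep σ S₀ hS₀ fun W₀ k₀ hk₀ => ?_
  obtain ⟨z, hz⟩ := hz₀ k₀ hk₀
  rw [← hz]
  let φ₀ : (SymT f A).obj (op W₀) → (SymT f B).obj (op W₀) := symMap φ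
  let z' : (SymT f A).obj (op W₀) →₀ O_C.obj.obj (op W₀) := z
  let zG : (SymT f B).obj (op W₀) →₀ O_C.obj.obj (op W₀) := Finsupp.mapDomain φ₀ z'
  have hzG : clsHom f B W₀ (zG : (preP f B).obj (op W₀)) = 0 := by
    have h0 : (mapSh (f := f) φ).val.app (op W₀) (clsHom f A W₀ z) = 0 := by
      rw [hz]
      exact (PresheafOfModules.naturality_apply (mapSh (f := f) φ).val k₀.op σ).trans
        ((congrArg _ hσ).trans (map_zero _))
    refine Eq.trans ?_ h0
    rw [clsHom_eq_sum, clsHom_eq_sum z', Finsupp.sum_mapDomain_index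
      (h := fun (s : (SymT f B).obj (op W₀)) (r : O_C.obj.obj (op W₀)) =>
        (r • cls f B s.2.1 s.2.2 : ModSite.sect ((ModSite.shPre O_C).obj (preQ f B)) W₀))
      (fun s => zero_smul _ _) (fun s r r' => add_smul r r' _), Finsupp.sum, Finsupp.sum]
    refine Eq.trans (Finset.sum_congr rfl fun s _ => ?_) (map_sum _ _ _).symm
    exact ((congrArg _ (mapSh_cls φ s.2.1 s.2.2).symm).trans ((map_smul _ _ _).symm))
  obtain ⟨S₁, hS₁, hc₁⟩ := exists_local_rel _ hzG
  refine sep _ S₁ hS₁ fun W₁ k₁ hk₁ => ?_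
  obtain ⟨c, hc⟩ := hc₁ k₁ hk₁
  -- restrict the symbols
  let z₁ : (SymT f A).obj (op W₁) →₀ O_C.obj.obj (op W₁) := (preP f A).map k₁.op z
  let φ₁ : (SymT f A).obj (op W₁) → (SymT f B).obj (op W₁) := symMap φ
  have hc' : (relMap f B).app (op W₁) c = (Finsupp.mapDomain φ₁ z₁ : (preP f B).obj (op W₁)) := by
    exact hc.trans (map_mapDomain_symMap φ k₁ z')
  let N₀ : Finset (Node f W₁) := z₁.support.image node
  obtain ⟨T, hT, hT'⟩ := exists_node (f := f) (M := B) N₀ (Finsupp.mapDomain φ₁ z₁) (fun s hs => by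
    obtain ⟨t, ht, rfl⟩ := Finset.mem_image.1 (Finsupp.mapDomain_support hs)
    exact Finset.mem_image.2 ⟨t, ht, rfl⟩) c hc'
  rw [clsHom_map k₁, show (preP f A).map k₁.op z = (z₁ : (preP f A).obj (op W₁)) from rfl]
  refine sep _ T hT fun W₂ k hk => ?_
  obtain ⟨V₀, u₀, g, hsome, hg, hsum⟩ := hT' k hk
  letI : Algebra (O_D.obj.obj (op V₀)) (O_C.obj.obj (op W₂)) := (rho f u₀).toAlgebra
  letI : Module (O_D.obj.obj (op V₀)) (ModSite.sect B V₀) :=
    inferInstanceAs (Module ((ModSite.ringSh O_D).obj.obj (op V₀)) (B.val.obj (op V₀)))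
  let e : Fin (Fintype.card z₁.support) ≃ z₁.support := (Fintype.equivFin z₁.support).symm
  choose a ha using fun i => Option.isSome_iff_exists.1
    (hsome (node (e i).1) (Finset.mem_image_of_mem node (e i).2))
  let nv : Fin (Fintype.card z₁.support) → O_C.obj.obj (op W₂) := fun i => rmap O_C k (z₁ (e i).1)
  let mF : Fin (Fintype.card z₁.support) → ModSite.sect A V₀ := fun i => smap A (a i) (e i).1.2.2
  let mG : Fin (Fintype.card z₁.support) → ModSite.sect B V₀ := fun i => φ.val.app (op V₀) (mF i)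
  have hvan : ∑ i, nv i ⊗ₜ[O_D.obj.obj (op V₀)] mG i = 0 := by
    refine Eq.trans ?_ hsum
    rw [Finsupp.sum_mapDomain_index (fun s => by rw [map_zero, TensorProduct.zero_tmul])
      (fun s r r' => by rw [map_add, TensorProduct.add_tmul]), Finsupp.sum]
    refine Eq.trans ?_ (Finset.sum_coe_sort z₁.support _)
    refine Eq.trans ?_ (e.sum_comp _)
    refine Finset.sum_congr rfl fun i _ => congrArg (nv i ⊗ₜ[O_D.obj.obj (op V₀)] ·) ?_
    have hn : g (node (φ₁ (e i).1)) = some (a i) := ha i
    simp only [hn, Option.isSome_some, dite_true, Option.get_some]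
    exact PresheafOfModules.naturality_apply φ.val (a i).op (e i).1.2.2
  obtain ⟨p, r, g', Am, y, hn, hrels⟩ := vanish_data (R := O_D.obj.obj (op V₀)) (M := ModSite.sect B V₀)
    (N := O_C.obj.obj (op W₂)) mG nv hvan
  obtain ⟨T₁, hT₁, hT₁'⟩ := hflat W₂ V₀ u₀
  refine sep _ T₁ hT₁ fun W₃ k₃ hk₃ => ?_
  obtain ⟨W₄, m, j, V', b, u', hm, hu', hfl⟩ := hT₁' k₃ hk₃
  subst hm
  letI : Algebra (O_D.obj.obj (op V')) (O_C.obj.obj (op W₄)) := (rho f u').toAlgebra
  haveI : _root_.Module.Flat (O_D.obj.obj (op V')) (O_C.obj.obj (op W₄)) := hfl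
  letI : Module (O_D.obj.obj (op V')) (ModSite.sect A V') :=
    inferInstanceAs (Module ((ModSite.ringSh O_D).obj.obj (op V')) (A.val.obj (op V')))
  letI : Module (O_D.obj.obj (op V')) (ModSite.sect B V') :=
    inferInstanceAs (Module ((ModSite.ringSh O_D).obj.obj (op V')) (B.val.obj (op V')))
  let φV : ModSite.sect A V' →ₗ[O_D.obj.obj (op V')] ModSite.sect B V' := (φ.val.app (op V')).hom
  have hinj : Function.Injective φV := ModFlat16.sections_injective' φ V'
  have hsc : ∀ i s, rmap O_C j (Am i s • y s) = rmap O_D b (Am i s) • rmap O_C j (y s) := fun i s => by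
    rw [Algebra.smul_def, Algebra.smul_def, map_mul]
    refine congrArg (· * _) ?_
    show rmap O_C j (rho f u₀ (Am i s)) = rho f u' (rmap O_D b (Am i s))
    rw [rmap_rho, rho_rmap, hu']
  have hB : ∑ i : Fin (Fintype.card z₁.support) ⊕ Fin p, rmap O_C j (Sum.elim nv (fun _ => 0) i) ⊗ₜ[O_D.obj.obj (op V')]
      smap B b (Sum.elim mG g' i) = 0 := by
    simp only [hn, map_sum, hsc, TensorProduct.sum_tmul, TensorProduct.smul_tmul]
    rw [Finset.sum_comm]
    refine Finset.sum_eq_zero fun s _ => ?_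
    rw [← TensorProduct.tmul_sum]
    refine Eq.trans (congrArg _ ?_) (TensorProduct.tmul_zero _ _)
    refine Eq.trans ?_ ((congrArg (smap B b) (hrels s)).trans (map_zero _))
    rw [map_sum]
    exact Finset.sum_congr rfl fun i _ => (smap_smul b _ _).symm
  rw [Fintype.sum_sum_type] at hB
  simp only [Sum.elim_inl, Sum.elim_inr, map_zero, TensorProduct.zero_tmul, Finset.sum_const_zero, add_zero] at hB
  have hA : ∑ i, rmap O_C j (nv i) ⊗ₜ[O_D.obj.obj (op V')] smap A b (mF i) = 0 := by
    refine _root_.Module.Flat.lTensor_preserves_injective_linearMap (M := O_C.obj.obj (op W₄)) φV hinj ?_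
    rw [map_zero, map_sum]
    refine Eq.trans (Finset.sum_congr rfl fun i _ => ?_) hB
    refine (LinearMap.lTensor_tmul _ _ _ _).trans (congrArg (rmap O_C j (nv i) ⊗ₜ[O_D.obj.obj (op V')] ·) ?_)
    exact PresheafOfModules.naturality_apply φ.val b.op (mF i)
  have hz4 := sum_smul_cls_eq_zero u' _ _ hA
  rw [← smap_comp, clsHom_eq_sum, Finsupp.sum, map_sum, ← Finset.sum_coe_sort, ← e.sum_comp]
  have h5 := congrArg (smap PF m) hz4
  rw [map_zero, map_sum] at h5
  refine Eq.trans (Finset.sum_congr rfl fun i _ => ?_) h5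
  rw [smap_smul, map_cls, smap_smul]
  refine congrArg₂ (· • ·) ?_ ?_
  · rw [Category.assoc]
    exact (rmap_comp (j ≫ k) m _).trans (congrArg (rmap O_C m) (rmap_comp k j _))
  · show _ = smap PF m (cls f A u' (smap A b (smap A (a i) (e i).1.2.2)))
    rw [cls_res, cls_res, map_cls]
    refine congrArg (fun w => cls f A w _) ?_
    rw [hu']
    simp only [Category.assoc, hg _ _ (ha i)]
    rfl

/-- A locally flat morphism of ringed sites is flat. -/
theorem isFlat_of_locFlat (hflat : LocFlat f) : ModSite.RMor.IsFlat f := by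
  haveI : f.pull.IsLeftAdjoint := f.adj.isLeftAdjoint
  haveI : PreservesColimitsOfSize.{0, 0} f.pull := f.adj.leftAdjoint_preservesColimits
  haveI : PreservesFiniteColimits f.pull := PreservesColimitsOfSize.preservesFiniteColimits _
  haveI := preservesBinaryBiproducts_of_preservesBinaryCoproducts f.pull
  haveI : f.pull.Additive := Functor.additive_of_preservesBinaryBiproducts _
  refine (Functor.preservesFiniteLimits_iff_forall_exact_map_and_mono _).2 fun S hS => ?_
  haveI := hS.mono_f
  exact ⟨((f.pull.preservesFiniteColimits_iff_forall_exact_map_and_epi).1 inferInstance S hS).1,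
    mono_pull_of_locally_flat hflat S.f⟩

end Groth.Agent.FormalModH7
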