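import Groth.Agent.Lib.FormalModH7.CplFlat
import Groth.Agent.Lib.FormalModH7.LocFlat

/-!
# The map from a completion to the scheme is flat
-/

set_option autoImplicit false
set_option linter.style.haveILetI false
set_option backward.isDefEq.respectTransparency false
set_option backward.isDefEq.respectTransparency.types false
universe u

open CategoryTheory CategoryTheory.Limits AlgebraicGeometry Opposite TopologicalSpace

namespace Groth.Agent.FormalModH7

variable {X : Scheme.{u}} [IsLocallyNoetherian X] (𝓘 : X.IdealSheafData)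
  (h : (FSch.completionAlong X 𝓘).IsFormal)

theorem locFlat_completion :
    LocFlat (FSch.toSchemeMor (FSch.completionAlong X 𝓘) h (FSch.completionToX X 𝓘) (FSch.completionToX_comm X 𝓘)) := by
  intro W V₀ u₀
  let S : Sieve W :=
    { arrows := fun W' _ => ∃ U : X.Opens, IsAffineOpen U ∧ U ≤ V₀ ∧ W' ≤ zO 𝓘 U ∧ zO 𝓘 U ≤ W
      downward_closed := by
        rintro W₁ W₂ g ⟨U, h0, h1, h2, h3⟩ l
        exact ⟨U, h0, h1, l.le.trans h2, h3⟩ }
  refine ⟨S, fun y hy => ?_, fun W' k hk => ?_⟩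
  · obtain ⟨U₁, hU₁, hyU₁, hU₁W⟩ := exists_affine_zO (𝓘 := 𝓘) (V := W) hy
    have hyV : FSch.completionToX X 𝓘 0 y ∈ V₀ := u₀.le hy
    obtain ⟨U, hU, hyU, hle⟩ := exists_isAffineOpen_mem_and_subset
      (U := U₁ ⊓ V₀) (x := FSch.completionToX X 𝓘 0 y) ⟨hyU₁, hyV⟩
    have hle' : zO 𝓘 U ≤ W := (zO_mono 𝓘 (le_trans (show U ≤ U₁ ⊓ V₀ from hle) inf_le_left)).trans hU₁W
    exact ⟨zO 𝓘 U, homOfLE hle', ⟨U, hU, le_trans (show U ≤ U₁ ⊓ V₀ from hle) inf_le_right, le_rfl, hle'⟩, hyU⟩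
  obtain ⟨U, hU, hUV, h1, h2⟩ := hk
  refine ⟨zO 𝓘 U, homOfLE h1, homOfLE h2, U, homOfLE hUV, 𝟙 _, Subsingleton.elim _ _, Subsingleton.elim _ _, ?_⟩
  have e : ModFlat16.rho (FSch.toSchemeMor (FSch.completionAlong X 𝓘) h (FSch.completionToX X 𝓘)
      (FSch.completionToX_comm X 𝓘)) (𝟙 (zO 𝓘 U)) = shA 𝓘 h U := by
    refine RingHom.ext fun a => ?_
    show ModFlat16.rmap ((FSch.completionAlong X 𝓘).Osh h) (𝟙 _) (shA 𝓘 h U a) = shA 𝓘 h U a
    simp [ModFlat16.rmap]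
  rw [e]
  exact flat_shA 𝓘 h hU

theorem isFlat_completion :
    ModSite.RMor.IsFlat (FSch.toSchemeMor (FSch.completionAlong X 𝓘) h (FSch.completionToX X 𝓘) (FSch.completionToX_comm X 𝓘)) :=
  isFlat_of_locFlat (locFlat_completion 𝓘 h)

end Groth.Agent.FormalModH7
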