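import Groth.Agent.Lib.FormalModH7.CplExact
import Groth.Agent.Lib.FormalH7.Ideal
import Groth.Agent.Lib.ModM1.Stalk
import Mathlib.RingTheory.Finiteness.Nakayama

/-!
# Coherent modules with zero completion vanish near the closed subscheme
-/

set_option autoImplicit false
set_option linter.style.haveILetI false
set_option backward.isDefEq.respectTransparency false
set_option backward.isDefEq.respectTransparency.types false
universe u

open CategoryTheory CategoryTheory.Limits AlgebraicGeometry Opposite TopologicalSpace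

namespace Groth.Agent.FormalModH7

/-- A module with empty support is zero. -/
theorem isZero_of_support_empty {X : Scheme.{u}} (K : X.Modules) (h : ∀ x, x ∉ CohB1.support K) : IsZero K := by
  rw [IsZero.iff_id_eq_zero]
  ext U s
  refine M1.section_ext _ _ fun x hx => ?_
  haveI : Subsingleton (K.presheaf.stalk x) := not_not.1 (h x)
  exact Subsingleton.elim _ _

variable {X : Scheme.{u}} [IsLocallyNoetherian X] (𝓘 : X.IdealSheafData)
  (h : (FSch.completionAlong X 𝓘).IsFormal) {K : X.Modules}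

theorem notMem_support_of_isZero (hK : Coh.IsCoh K) (hz : IsZero ((FSch.complMod 𝓘 K).realMod h)) {y : X}
    (hy : y ∈ (𝓘.support : Set X)) : y ∉ CohB1.support K := by
  haveI : Coh.IsQCoh K := hK.1
  refine not_not.2 ?_
  obtain ⟨U, hU, hyU, -⟩ := exists_isAffineOpen_mem_and_subset (x := y) (U := (⊤ : X.Opens)) trivial
  haveI := M1.finite_sections hK.1 hK.2 hU
  let I := 𝓘.ideal ⟨U, hU⟩
  have hrsec : ∀ x : RSec h (FSch.complMod 𝓘 K) (zO 𝓘 U), x = 0 := fun x =>
    congrArg (fun q : (FSch.complMod 𝓘 K).realMod h ⟶ (FSch.complMod 𝓘 K).realMod h => q.val.app (op (zO 𝓘 U)) x)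
      ((IsZero.iff_id_eq_zero _).1 hz)
  have htop : (⊤ : Submodule Γ(X, U) Γ(K, U)) ≤ I • ⊤ := fun s _ => by
    have h1 : resC 𝓘 h K 0 U s = 0 := by rw [← piM_cplSec, hrsec (cplSec 𝓘 h K U s), map_zero]
    have h2 := (resC_eq_zero_iff 𝓘 h K hU 0 s).1 h1
    rwa [zero_add, pow_one] at h2
  obtain ⟨r, hr, hr0⟩ := Submodule.exists_sub_one_mem_and_smul_eq_zero_of_fg_of_le_smul I ⊤ Module.Finite.fg_top htop
  have hnu : ∀ i ∈ I, ¬ IsUnit (X.presheaf.germ U y hyU i) := fun i hi hu => by
    have hz' : y ∈ X.zeroLocus (U := U) (I : Set Γ(X, U)) :=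
      (Scheme.IdealSheafData.mem_support_iff_of_mem (U := ⟨U, hU⟩) hyU).1 hy
    exact (Scheme.mem_zeroLocus_iff _ _ _).1 hz' i hi ((Scheme.mem_basicOpen X i y hyU).2 hu)
  have hru : IsUnit (X.presheaf.germ U y hyU r) := by
    by_contra hn
    have hmem : X.presheaf.germ U y hyU r - X.presheaf.germ U y hyU (r - 1) ∈
        IsLocalRing.maximalIdeal (X.presheaf.stalk y) :=
      Ideal.sub_mem _ hn (hnu _ hr)
    rw [map_sub, map_one, sub_sub_cancel] at hmem
    exact hmem isUnit_one
  refine subsingleton_of_forall_eq 0 fun a => ?_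
  obtain ⟨w, m, hw, hwm⟩ := M1.exists_germ_smul_eq K hU hyU a
  have hm : K.presheaf.germ U y hyU m = 0 := by
    have h3 := congrArg (K.presheaf.germ U y hyU) (hr0 m Submodule.mem_top)
    rw [M1.germ_smul, map_zero] at h3
    exact hru.smul_eq_zero.1 h3
  rw [hm] at hwm
  exact hw.smul_eq_zero.1 hwm

variable {A : Type u} [CommRing A] [IsNoetherianRing A] (J : Ideal A) [IsAdicComplete J A]

/-- A coherent module with zero completion over a closed map to the base is zero. -/
theorem isZero_of_cpl_isZero (f : X ⟶ Spec (CommRingCat.of A)) (hf : IsClosedMap f.base)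
    (h𝓘 : 𝓘 = (FSch.idealSpec A J).comap f) (hK : Coh.IsCoh K) (hz : IsZero ((FSch.complMod 𝓘 K).realMod h)) :
    IsZero K := by
  refine isZero_of_support_empty K fun x hx => ?_
  have hcl : IsClosed (f.base '' CohB1.support K) := hf _ (M1.isClosed_support hK.2)
  obtain ⟨I', hI'⟩ := (PrimeSpectrum.isClosed_iff_zeroLocus_ideal _).1 hcl
  let p : PrimeSpectrum A := f.base x
  have hp : p ∈ PrimeSpectrum.zeroLocus (I' : Set A) := hI' ▸ ⟨x, hx, rfl⟩
  obtain ⟨m, hm, hpm⟩ := Ideal.exists_le_maximal p.asIdeal p.isPrime.ne_top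
  let q : PrimeSpectrum A := ⟨m, hm.isPrime⟩
  have hq : q ∈ f.base '' CohB1.support K := by
    rw [hI', PrimeSpectrum.mem_zeroLocus]
    exact fun a ha => hpm ((PrimeSpectrum.mem_zeroLocus _ _).1 hp ha)
  obtain ⟨y, hy, hyq⟩ := hq
  refine notMem_support_of_isZero 𝓘 h hK hz ?_ hy
  rw [h𝓘, Scheme.IdealSheafData.support_comap, Closeds.coe_preimage, Set.mem_preimage, FormalH7.support_idealSpec]
  show f.base y ∈ _
  rw [hyq, PrimeSpectrum.mem_zeroLocus]
  exact fun a ha => (Ideal.mem_sInf.1 (IsAdicComplete.le_jacobson_bot J ha)) ⟨bot_le, hm⟩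

end Groth.Agent.FormalModH7
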