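import Groth.Agent.Lib.FormalModH7.CplExact
import Groth.Agent.Lib.FormalModH7.PullElts

/-!
# The inverse image of a coherent module to the completion is its completion
-/

set_option autoImplicit false
set_option linter.style.haveILetI false
set_option backward.isDefEq.respectTransparency false
set_option backward.isDefEq.respectTransparency.types false
universe u

open CategoryTheory CategoryTheory.Limits AlgebraicGeometry Opposite TopologicalSpace

namespace Groth.Agent.FormalModH7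

variable {X : Scheme.{u}} (𝓘 : X.IdealSheafData) (h : (FSch.completionAlong X 𝓘).IsFormal) (F : X.Modules)

/-- The map of ringed spaces from the completion. -/
noncomputable abbrev tsm : ModSite.RMor ((FSch.completionAlong X 𝓘).Osh h) X.sheaf :=
  FSch.toSchemeMor (FSch.completionAlong X 𝓘) h (FSch.completionToX X 𝓘) (FSch.completionToX_comm X 𝓘)

/-- The component of the canonical map. -/
noncomputable def unitC (n : ℕ) :
    F ⟶ (tsm 𝓘 h).push.obj ((FSch.levelMor (FSch.completionAlong X 𝓘) h n).push.obj ((FSch.complMod 𝓘 F).F n)) :=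
  (Scheme.Modules.pullbackPushforwardAdjunction (FSch.completionToX X 𝓘 n)).unit.app F ≫
    (FSch.schPushCompare (FSch.completionAlong X 𝓘) h (FSch.completionToX X 𝓘) (FSch.completionToX_comm X 𝓘) n).app _

theorem unitC_app (n : ℕ) (U : X.Opens) (s : Γ(F, U)) :
    (unitC 𝓘 h F n).val.app (op U) s = resC 𝓘 h F n U s := by
  rfl

theorem unitC_map (n : ℕ) :
    unitC 𝓘 h F (n + 1) ≫ (tsm 𝓘 h).push.map
      ((FSch.levelSysOf (FSch.completionAlong X 𝓘) h (FSch.complMod 𝓘 F).F (FSch.complMod 𝓘 F).toPush).map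
        (homOfLE (Nat.le_add_right n 1)).op) = unitC 𝓘 h F n := by
  apply SheafOfModules.hom_ext
  refine PresheafOfModules.hom_ext fun U => ?_
  obtain ⟨U, rfl⟩ : ∃ U', op U' = U := ⟨U.unop, rfl⟩
  refine ModuleCat.hom_ext (LinearMap.ext fun s => ?_)
  have h1 := levelSys_app h (FSch.complMod 𝓘 F) (zO 𝓘 U) n (resC 𝓘 h F (n + 1) U s)
  exact h1.trans (trM_resC 𝓘 h F n U s)

/-- The canonical map from the inverse image to the completion. -/
noncomputable def gam : (tsm 𝓘 h).pull.obj F ⟶ (FSch.complMod 𝓘 F).realMod h :=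
  (limit.isLimit (FSch.levelSysOf (FSch.completionAlong X 𝓘) h (FSch.complMod 𝓘 F).F (FSch.complMod 𝓘 F).toPush)).lift
    { pt := (tsm 𝓘 h).pull.obj F
      π := NatTrans.ofOpSequence (fun k => ((tsm 𝓘 h).adj.homEquiv _ _).symm (unitC 𝓘 h F k)) fun k => by
        simp only [Functor.const_obj_obj, Functor.const_obj_map, Category.id_comp]
        apply ((tsm 𝓘 h).adj.homEquiv _ _).injective
        refine (Equiv.apply_symm_apply _ _).trans ((unitC_map 𝓘 h F k).symm.trans ?_)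
        refine Eq.trans ?_ (Adjunction.homEquiv_naturality_right _ _ _).symm
        exact congrArg (· ≫ _) (Equiv.apply_symm_apply _ _).symm }

theorem gam_proj (k : ℕ) :
    gam 𝓘 h F ≫ FSch.realProj (FSch.completionAlong X 𝓘) h (FSch.complMod 𝓘 F).F (FSch.complMod 𝓘 F).toPush k =
      ((tsm 𝓘 h).adj.homEquiv _ _).symm (unitC 𝓘 h F k) :=
  IsLimit.fac _ _ (op k)

theorem homEquiv_gam (k : ℕ) :
    (tsm 𝓘 h).adj.homEquiv _ _ (gam 𝓘 h F) ≫ (tsm 𝓘 h).push.map
        (FSch.realProj (FSch.completionAlong X 𝓘) h (FSch.complMod 𝓘 F).F (FSch.complMod 𝓘 F).toPush k) =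
      unitC 𝓘 h F k := by
  rw [← Adjunction.homEquiv_naturality_right, gam_proj, Equiv.apply_symm_apply]

theorem gam_unit (U : X.Opens) (s : Γ(F, U)) :
    (gam 𝓘 h F).val.app (op (zO 𝓘 U)) (((tsm 𝓘 h).adj.unit.app F).val.app (op U) s) = cplSec 𝓘 h F U s := by
  refine RSec_ext 𝓘 h F fun n => ?_
  rw [piM_cplSec, ← unitC_app]
  have h1 := homEquiv_gam 𝓘 h F n
  rw [Adjunction.homEquiv_unit, Category.assoc] at h1
  exact congrArg (fun q => q.val.app (op U) s) h1

theorem gam_unit_smap {U : X.Opens} {W : ((FSch.completionAlong X 𝓘).X 0).Opens} (e : W ≤ zO 𝓘 U) (s : Γ(F, U)) :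
    (gam 𝓘 h F).val.app (op W)
        (ModFlat16.smap ((tsm 𝓘 h).pull.obj F) (homOfLE e) (((tsm 𝓘 h).adj.unit.app F).val.app (op U) s)) =
      rS h (FSch.complMod 𝓘 F) e (cplSec 𝓘 h F U s) := by
  rw [ModFlat16.app_smap, gam_unit]
  rfl

omit h in
/-- Generators over an affine open generate locally. -/
theorem gens_qcoh [Coh.IsQCoh F] {U : X.Opens} (hU : IsAffineOpen U) {ι : Type u} [Fintype ι] (g : ι → Γ(F, U))
    (hg : Submodule.span Γ(X, U) (Set.range g) = ⊤) :
    ModFlat16.Gens (F : ModSite.Mod X.sheaf) U g := by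
  refine ModFlat16.gens_mk _ fun {W} k x => ?_
  let S : Sieve W :=
    { arrows := fun W' _ => ∃ U' : X.Opens, IsAffineOpen U' ∧ W' ≤ U' ∧ U' ≤ W
      downward_closed := by
        rintro W₁ W₂ f ⟨U', h1, h2, h3⟩ l
        exact ⟨U', h1, l.le.trans h2, h3⟩ }
  refine ⟨S, fun y hy => ?_, fun W' l hl => ?_⟩
  · obtain ⟨U', hU', hyU, hUW⟩ := exists_isAffineOpen_mem_and_subset (U := W) hy
    exact ⟨U', homOfLE hUW, ⟨U', hU', le_rfl, hUW⟩, hyU⟩
  obtain ⟨U', hU', h1, h2⟩ := hl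
  obtain ⟨c, hc⟩ := (Submodule.mem_span_range_iff_exists_fun Γ(X, U')).1
    ((span_mres F hU hU' (h2.trans k.le) g hg) ▸ (Submodule.mem_top (x := M1.mres F h2 x)))
  refine ⟨fun i => ModFlat16.rmap X.sheaf (homOfLE h1) (c i), ?_⟩
  have h4 := congrArg (ModFlat16.smap (F : ModSite.Mod X.sheaf) (homOfLE h1)) hc.symm
  have e1 : ModFlat16.smap (F : ModSite.Mod X.sheaf) l x =
      ModFlat16.smap (F : ModSite.Mod X.sheaf) (homOfLE h1) (M1.mres F h2 x) :=
    ModFlat16.smap_comp (F := (F : ModSite.Mod X.sheaf)) (homOfLE h2) (homOfLE h1) x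
  rw [e1, h4]
  refine (ModFlat16.smap_comb (M := (F : ModSite.Mod X.sheaf)) (homOfLE h1) c _).trans
    (Finset.sum_congr rfl fun i _ => congrArg (ModFlat16.rmap X.sheaf (homOfLE h1) (c i) • ·) ?_)
  exact (ModFlat16.smap_comp (F := (F : ModSite.Mod X.sheaf)) (homOfLE (h2.trans k.le)) (homOfLE h1) _).symm

/-- The unit on sections. -/
noncomputable def uS (U : X.Opens) (s : Γ(F, U)) : ModSite.sect ((tsm 𝓘 h).pull.obj F) (zO 𝓘 U) :=
  ((tsm 𝓘 h).adj.unit.app F).val.app (op U) s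

theorem unit_comb {U : X.Opens} {ι : Type*} [Fintype ι] (a : ι → Γ(X, U)) (g : ι → Γ(F, U))
    (hz : ∑ i, a i • g i = 0) :
    ∑ i, shA 𝓘 h U (a i) • uS 𝓘 h F U (g i) = 0 := by
  have h0 := congrArg (((tsm 𝓘 h).adj.unit.app F).val.app (op U)) hz
  rw [map_zero] at h0
  refine Eq.trans ?_ h0
  exact ((map_sum (((tsm 𝓘 h).adj.unit.app F).val.app (op U)).hom _ _).trans (Finset.sum_congr rfl fun i _ =>
    (((tsm 𝓘 h).adj.unit.app F).val.app (op U)).hom.map_smul _ _)).symm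

variable [IsLocallyNoetherian X] {F}

omit h in
theorem exists_pres_qcoh (hF : Coh.IsCoh F) {U : X.Opens} (hU : IsAffineOpen U) :
    ∃ (ι κ : Type u) (_ : Fintype ι) (_ : Fintype κ) (g : ι → Γ(F, U)) (R : κ → ι → Γ(X, U)),
      Submodule.span Γ(X, U) (Set.range g) = ⊤ ∧ (∀ r, ∑ i, R r i • g i = 0) ∧
      ∀ a : ι → Γ(X, U), ∑ i, a i • g i = 0 → a ∈ Submodule.span Γ(X, U) (Set.range R) := by
  classical
  haveI : IsNoetherianRing Γ(X, U) := IsLocallyNoetherian.component_noetherian ⟨U, hU⟩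
  haveI := M1.finite_sections hF.1 hF.2 hU
  obtain ⟨S, hS⟩ := (Module.Finite.fg_top (R := Γ(X, U)) (M := Γ(F, U)))
  let φ := Fintype.linearCombination Γ(X, U) (fun x : S => (x : Γ(F, U)))
  obtain ⟨T, hT⟩ := (IsNoetherian.noetherian (LinearMap.ker φ) : (LinearMap.ker φ).FG)
  refine ⟨S, T, inferInstance, inferInstance, fun x => x, fun r => r.1, ?_, fun r => ?_, fun a ha => ?_⟩
  · rw [Subtype.range_coe_subtype]; exact hS
  · have : r.1 ∈ LinearMap.ker φ := hT ▸ Submodule.subset_span r.2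
    rwa [LinearMap.mem_ker, Fintype.linearCombination_apply] at this
  · have : a ∈ LinearMap.ker φ := by rwa [LinearMap.mem_ker, Fintype.linearCombination_apply]
    rw [← hT] at this
    rwa [Subtype.range_coe_subtype]

/-- The completion of a coherent module is its inverse image. -/
theorem isIso_gam (hF : Coh.IsCoh F) : IsIso (gam 𝓘 h F) := by
  haveI : Coh.IsQCoh F := hF.1
  have hN := isLocNoethFormal_completionAlong 𝓘 h
  refine isIso_of_pres _ fun V₀ => ⟨zSieve V₀, zSieve_mem V₀, fun W l hl => ?_⟩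
  obtain ⟨U, hU, e, -⟩ := hl
  obtain ⟨ι, κ, hι, hκ, g, R, hg, hR0, hR⟩ := exists_pres_qcoh hF hU
  let η : ι → ModSite.sect ((tsm 𝓘 h).pull.obj F) (zO 𝓘 U) := fun i =>
    ((tsm 𝓘 h).adj.unit.app F).val.app (op U) (g i)
  refine ⟨ι, hι, fun i => ModFlat16.smap _ (homOfLE e) (η i),
    ModFlat16.gens_smap (homOfLE e) (gens_pullback (tsm 𝓘 h) (gens_qcoh F hU g hg)), ?_, ?_⟩
  · have hB := gens_of_affine hN ((FSch.complMod 𝓘 F).realMod h) (fun i => cplSec 𝓘 h F U (g i))
      fun W' hW' i => span_rS (FSch.complMod 𝓘 F) hN (isCoh_complMod 𝓘 hF) (isAffineOpen_zO 𝓘 hU) hW' i _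
        (span_cplSec 𝓘 h hU hF g hg)
    have e1 : (fun i => (gam 𝓘 h F).val.app (op W) (ModFlat16.smap _ (homOfLE e) (η i))) =
        fun i => ModFlat16.smap ((FSch.complMod 𝓘 F).realMod h) (homOfLE e) (cplSec 𝓘 h F U (g i)) :=
      funext fun i => gam_unit_smap 𝓘 h F e (g i)
    rw [e1]
    exact ModFlat16.gens_smap (homOfLE e) hB
  · intro V k c hc
    let S : Sieve V :=
      { arrows := fun W' _ => ∃ U' : X.Opens, IsAffineOpen U' ∧ U' ≤ U ∧ W' ≤ zO 𝓘 U' ∧ zO 𝓘 U' ≤ V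
        downward_closed := by
          rintro W₁ W₂ f ⟨U', h0, h1, h2, h3⟩ m
          exact ⟨U', h0, h1, m.le.trans h2, h3⟩ }
    refine ⟨S, fun y hy => ?_, fun W' l' hl' => ?_⟩
    · obtain ⟨U₁, hU₁, hyU₁, hU₁V⟩ := exists_affine_zO (𝓘 := 𝓘) (V := V) hy
      have hyU : FSch.completionToX X 𝓘 0 y ∈ U := e (k.le hy)
      obtain ⟨U', hU', hyU', hle⟩ := exists_isAffineOpen_mem_and_subset
        (U := U₁ ⊓ U) (x := FSch.completionToX X 𝓘 0 y) ⟨hyU₁, hyU⟩
      have hle' : zO 𝓘 U' ≤ V := (zO_mono 𝓘 (le_trans (show U' ≤ U₁ ⊓ U from hle) inf_le_left)).trans hU₁V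
      exact ⟨zO 𝓘 U', homOfLE hle', ⟨U', hU', le_trans (show U' ≤ U₁ ⊓ U from hle) inf_le_right, le_rfl, hle'⟩, hyU'⟩
    obtain ⟨U', hU', hUU, h1, h2⟩ := hl'
    let R' : κ → ι → Γ(X, U') := fun r i => rO hUU (R r i)
    let g' : ι → Γ(F, U') := fun i => M1.mres F hUU (g i)
    let c' : ι → AV (FSch.completionAlong X 𝓘) h (zO 𝓘 U') := fun i => rA h h2 (c i)
    have hc' : ∑ i, c' i • cplSec 𝓘 h F U' (g' i) = 0 := by
      have h3 := congrArg (rS h (FSch.complMod 𝓘 F) h2) hc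
      rw [map_zero, rS_sum] at h3
      refine Eq.trans (Finset.sum_congr rfl fun i _ => congrArg (c' i • ·) ?_) h3
      rw [gam_unit_smap]
      refine Eq.trans ?_ ((congrArg (rS h (FSch.complMod 𝓘 F) h2)
        (rS_comp h (FSch.complMod 𝓘 F) e k.le _)).trans (rS_comp h (FSch.complMod 𝓘 F) _ h2 _)).symm
      exact (rS_cplSec 𝓘 h F hUU (g i)).symm
    obtain ⟨d, hd⟩ := (Submodule.mem_span_range_iff_exists_fun (AV (FSch.completionAlong X 𝓘) h (zO 𝓘 U'))).1
      (rels_cplSec 𝓘 h hU' hF g' (span_mres F hU hU' hUU g hg) R'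
        (fun a ha => rels_mres F hU hU' hUU g R hR a ha) c' hc')
    have hz : ∑ i, c' i • uS 𝓘 h F U' (g' i) = 0 := by
      refine Eq.trans (Finset.sum_congr rfl fun i _ => ?_) (comb_zero
        (R := ((FSch.completionAlong X 𝓘).Osh h).obj.obj (op (zO 𝓘 U')))
        (N := ModSite.sect ((tsm 𝓘 h).pull.obj F) (zO 𝓘 U')) d (fun r i => shA 𝓘 h U' (R' r i))
        (fun i => uS 𝓘 h F U' (g' i)) fun r => ?_)
      · refine congrArg (· • _) ?_
        refine (congrFun hd i).symm.trans ?_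
        rw [Finset.sum_apply]
        exact Finset.sum_congr rfl fun r _ => rfl
      · refine unit_comb 𝓘 h F (R' r) g' ?_
        have h0 := congrArg (M1.mres F hUU) (hR0 r)
        rw [map_zero, map_sum] at h0
        simpa only [mres_smul'] using h0
    have h5 := congrArg (ModFlat16.smap ((tsm 𝓘 h).pull.obj F) (homOfLE h1)) hz
    rw [map_zero, ModFlat16.smap_comb] at h5
    refine Eq.trans (Finset.sum_congr rfl fun i _ => ?_) h5
    refine congrArg₂ (· • ·) ?_ ?_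
    · exact ModFlat16.rmap_comp (O := (FSch.completionAlong X 𝓘).Osh h) (homOfLE h2) (homOfLE h1) (c i)
    · have e2 : uS 𝓘 h F U' (g' i) =
          ModFlat16.smap ((tsm 𝓘 h).pull.obj F) (homOfLE (zO_mono 𝓘 hUU)) (η i) :=
        ModFlat16.app_smap ((tsm 𝓘 h).adj.unit.app F) (homOfLE hUU) (g i)
      rw [e2, ← ModFlat16.smap_comp, ← ModFlat16.smap_comp]
      rfl

end Groth.Agent.FormalModH7
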