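import Groth.Agent.Lib.FormalModH7.Cpl
import Groth.Agent.Lib.ModM1.Exact
import Groth.Agent.Lib.ModM1.Coh
import Mathlib.RingTheory.Filtration

/-!
# Generators, relations and exactness of completions over traces of affine opens
-/

set_option autoImplicit false
set_option linter.style.haveILetI false
set_option backward.isDefEq.respectTransparency false
set_option backward.isDefEq.respectTransparency.types false
universe u

open CategoryTheory CategoryTheory.Limits AlgebraicGeometry Opposite TopologicalSpace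

namespace Groth.Agent.FormalModH7

section Alg

theorem exists_coeffs {R M ι : Type*} [CommRing R] [AddCommGroup M] [Module R M] [Fintype ι] (J : Ideal R)
    (g : ι → M) (hg : Submodule.span R (Set.range g) = ⊤) (x : M) (hx : x ∈ J • (⊤ : Submodule R M)) :
    ∃ b : ι → R, (∀ i, b i ∈ J) ∧ ∑ i, b i • g i = x := by
  rw [← hg, Submodule.mem_ideal_smul_span_iff_exists_sum] at hx
  obtain ⟨b, hb, hbx⟩ := hx
  exact ⟨b, hb, hbx ▸ (Finsupp.sum_fintype b (fun i c => c • g i) fun i => zero_smul R (g i)).symm⟩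

theorem map_mem_span {A B ι κ : Type*} [CommRing A] [CommRing B] (f : A →+* B) (R : κ → ι → A) (S : κ → ι → B)
    (hS : ∀ r i, S r i = f (R r i)) {z : ι → A} (hz : z ∈ Submodule.span A (Set.range R)) :
    (fun i => f (z i)) ∈ Submodule.span B (Set.range S) := by
  induction hz using Submodule.span_induction with
  | mem y hy =>
    obtain ⟨r, rfl⟩ := hy
    exact Submodule.subset_span ⟨r, funext (hS r)⟩
  | zero => simp only [Pi.zero_apply, map_zero]; exact Submodule.zero_mem _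
  | add p q _ _ hp hq => simp only [Pi.add_apply, map_add]; exact Submodule.add_mem _ hp hq
  | smul d p _ hp =>
    simp only [Pi.smul_apply, smul_eq_mul, map_mul]
    exact Submodule.smul_mem _ (f d) hp

end Alg

section Closed

variable {𝔛 : FSch.Sys.{u}} (𝔐 : FSch.ModSys 𝔛) (hN : 𝔛.IsLocNoethFormal) (hM : 𝔐.IsCoh) {V : (𝔛.X 0).Opens}

include hM in
/-- A submodule of sections over an affine open is closed. -/
theorem mem_of_levels (hV : IsAffineOpen V) (P : Submodule (AV 𝔛 hN.1 V) (RSec hN.1 𝔐 V)) (x : RSec hN.1 𝔐 V)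
    (hx : ∀ n, ∃ y ∈ P, piM hN.1 𝔐 V n y = piM hN.1 𝔐 V n x) : x ∈ P := by
  haveI := (structure_AV hN hV).1
  haveI := (structure_AV hN hV).2.1
  haveI := finite_RSec 𝔐 hN hM hV
  haveI : IsHausdorff (defIdeal 𝔛 hN.1 V) (RSec hN.1 𝔐 V ⧸ P) :=
    IsHausdorff.of_le_jacobson _ _ (IsAdicComplete.le_jacobson_bot (defIdeal 𝔛 hN.1 V))
  refine (Submodule.Quotient.mk_eq_zero P).1 (IsHausdorff.haus' (I := defIdeal 𝔛 hN.1 V) _ fun n => ?_)
  rw [SModEq.zero]
  obtain ⟨y, hy, hyx⟩ := hx n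
  have h1 : x - y ∈ LinearMap.ker (piM hN.1 𝔐 V n) := by rw [LinearMap.mem_ker, map_sub, hyx, sub_self]
  rw [ker_piM 𝔐 hN hM hV] at h1
  have h2 := Submodule.mem_map_of_mem (f := P.mkQ) h1
  rw [Submodule.map_smul'', map_sub, Submodule.mkQ_apply, Submodule.mkQ_apply,
    (Submodule.Quotient.mk_eq_zero P).2 hy, sub_zero] at h2
  exact Submodule.smul_mono (Ideal.pow_le_pow_right n.le_succ) le_top h2

end Closed

variable {X : Scheme.{u}} (𝓘 : X.IdealSheafData) (h : (FSch.completionAlong X 𝓘).IsFormal) {F G : X.Modules}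

/-- A map of completions on sections. -/
noncomputable def cplMap (φ : F ⟶ G) (V : ((FSch.completionAlong X 𝓘).X 0).Opens) :
    RSec h (FSch.complMod 𝓘 F) V →ₗ[AV (FSch.completionAlong X 𝓘) h V] RSec h (FSch.complMod 𝓘 G) V :=
  ((FSch.ModSys.realModMap h (FSch.complModMap 𝓘 φ)).val.app (op V)).hom

theorem piM_cplMap (φ : F ⟶ G) (V : ((FSch.completionAlong X 𝓘).X 0).Opens) (n : ℕ)
    (x : RSec h (FSch.complMod 𝓘 F) V) :
    piM h (FSch.complMod 𝓘 G) V n (cplMap 𝓘 h φ V x) =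
      ((Scheme.Modules.pullback (FSch.completionToX X 𝓘 n)).map φ).app
        ((FSch.completionAlong X 𝓘).lvU h n V) (piM h (FSch.complMod 𝓘 F) V n x) := by
  have h1 := congrArg (fun q => q.val.app (op V) x)
    (FSch.realLimMap_realProj (FSch.completionAlong X 𝓘) h (FSch.complModMap 𝓘 φ).app
      (FSch.ModSys.Hom.toPush_comm (FSch.complModMap 𝓘 φ)) n)
  exact h1

theorem map_resC (φ : F ⟶ G) (U : X.Opens) (n : ℕ) (s : Γ(F, U)) :
    ((Scheme.Modules.pullback (FSch.completionToX X 𝓘 n)).map φ).app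
      ((FSch.completionAlong X 𝓘).lvU h n (zO 𝓘 U)) (resC 𝓘 h F n U s) = resC 𝓘 h G n U (φ.app U s) :=
  ModLimH13.map_res' (FSch.completionToX X 𝓘 n) F (lvU_zO 𝓘 h n U).ge φ s

theorem cplMap_cplSec (φ : F ⟶ G) (U : X.Opens) (s : Γ(F, U)) :
    cplMap 𝓘 h φ (zO 𝓘 U) (cplSec 𝓘 h F U s) = cplSec 𝓘 h G U (φ.app U s) :=
  RSec_ext 𝓘 h G fun n => by rw [piM_cplMap, piM_cplSec, piM_cplSec, map_resC]

/-- Levels determine the lower levels. -/
theorem piM_eq_resC_of_le {U : X.Opens} (x : RSec h (FSch.complMod 𝓘 F) (zO 𝓘 U)) (s : Γ(F, U)) {n m : ℕ}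
    (hnm : n ≤ m) (hx : piM h (FSch.complMod 𝓘 F) (zO 𝓘 U) m x = resC 𝓘 h F m U s) :
    piM h (FSch.complMod 𝓘 F) (zO 𝓘 U) n x = resC 𝓘 h F n U s := by
  induction m, hnm using Nat.le_induction with
  | base => exact hx
  | succ m _ ih =>
    refine ih ?_
    rw [← trM_piM, hx, trM_resC]

variable [IsLocallyNoetherian X] {U : X.Opens} (hU : IsAffineOpen U) (hF : Coh.IsCoh F)

include hU hF in
/-- Generators of the sections generate the completion. -/
theorem span_cplSec {ι : Type*} (g : ι → Γ(F, U)) (hg : Submodule.span Γ(X, U) (Set.range g) = ⊤) :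
    Submodule.span (AV (FSch.completionAlong X 𝓘) h (zO 𝓘 U)) (Set.range fun i => cplSec 𝓘 h F U (g i)) = ⊤ := by
  haveI : Coh.IsQCoh F := hF.1
  refine span_of_level_zero (hN := isLocNoethFormal_completionAlong 𝓘 h) _ (isCoh_complMod 𝓘 hF)
    (isAffineOpen_zO 𝓘 hU) _ (eq_top_iff.2 ?_)
  intro z hz
  clear hz
  obtain ⟨s, rfl⟩ := resC_surjective 𝓘 h F hU 0 z
  have hs : s ∈ Submodule.span Γ(X, U) (Set.range g) := hg ▸ Submodule.mem_top
  induction hs using Submodule.span_induction with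
  | mem y hy =>
    obtain ⟨i, rfl⟩ := hy
    exact Submodule.subset_span ⟨i, piM_cplSec 𝓘 h F U (g i) 0⟩
  | zero => rw [map_zero]; exact Submodule.zero_mem _
  | add a b _ _ ha hb => rw [map_add]; exact Submodule.add_mem _ ha hb
  | smul a y _ hy => rw [resC_smul]; exact Submodule.smul_mem _ _ hy

set_option maxHeartbeats 1000000 in
include hU hF in
/-- Relations of generators of the sections span those of their completions. -/
theorem rels_cplSec {ι κ : Type*} [Fintype ι] (g : ι → Γ(F, U))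
    (hg : Submodule.span Γ(X, U) (Set.range g) = ⊤) (R : κ → ι → Γ(X, U))
    (hR : ∀ a : ι → Γ(X, U), ∑ i, a i • g i = 0 → a ∈ Submodule.span Γ(X, U) (Set.range R))
    (c : ι → AV (FSch.completionAlong X 𝓘) h (zO 𝓘 U)) (hc : ∑ i, c i • cplSec 𝓘 h F U (g i) = 0) :
    c ∈ Submodule.span (AV (FSch.completionAlong X 𝓘) h (zO 𝓘 U)) (Set.range fun r i => shA 𝓘 h U (R r i)) := by
  classical
  haveI : Coh.IsQCoh F := hF.1
  refine mem_span_of_levels (hN := isLocNoethFormal_completionAlong 𝓘 h) (isAffineOpen_zO 𝓘 hU) _ c fun n => ?_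
  choose a ha using fun i => shL_surjective 𝓘 h n hU (prj (FSch.completionAlong X 𝓘) h (zO 𝓘 U) n (c i))
  have h0 : resC 𝓘 h F n U (∑ i, a i • g i) = 0 := by
    have h1 := congrArg (piM h (FSch.complMod 𝓘 F) (zO 𝓘 U) n) hc
    rw [piM_comb, map_zero] at h1
    rw [map_sum]
    refine Eq.trans (Finset.sum_congr rfl fun i _ => ?_) h1
    rw [resC_smul, ha, piM_cplSec]
  obtain ⟨b, hbJ, hb⟩ := exists_coeffs _ g hg _ ((resC_eq_zero_iff 𝓘 h F hU n _).1 h0)
  have hmem := hR (fun i => a i - b i) (by simp only [sub_smul, Finset.sum_sub_distrib, hb, sub_self])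
  have key := map_mem_span (shL 𝓘 h n U) R
    (fun r i => prj (FSch.completionAlong X 𝓘) h (zO 𝓘 U) n (shA 𝓘 h U (R r i)))
    (fun r i => prj_shA 𝓘 h n U (R r i)) hmem
  have e : (fun i => shL 𝓘 h n U (a i - b i)) = fun i => prj (FSch.completionAlong X 𝓘) h (zO 𝓘 U) n (c i) := by
    funext i
    have h2 : shL 𝓘 h n U (b i) = 0 := by
      rw [← RingHom.mem_ker, ker_shL 𝓘 h n hU]
      exact hbJ i
    rw [map_sub, h2, sub_zero, ha]
  rw [e] at key
  exact key

variable {H : X.Modules}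

include hU in
/-- Completion keeps injections. -/
theorem cplMap_injective (hF : Coh.IsCoh F) (hG : Coh.IsCoh G) (φ : F ⟶ G) [Mono φ]
    (x : RSec h (FSch.complMod 𝓘 F) (zO 𝓘 U)) (hx : cplMap 𝓘 h φ (zO 𝓘 U) x = 0) : x = 0 := by
  haveI : Coh.IsQCoh F := hF.1
  haveI : Coh.IsQCoh G := hG.1
  haveI : IsNoetherianRing Γ(X, U) := IsLocallyNoetherian.component_noetherian ⟨U, hU⟩
  haveI := M1.finite_sections hG.1 hG.2 hU
  let φU : Γ(F, U) →ₗ[Γ(X, U)] Γ(G, U) :=
    { toFun := φ.app U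
      map_add' := map_add _
      map_smul' := fun a s => Scheme.Modules.Hom.app_smul φ a s }
  have hinj : Function.Injective φU := M1.app_injective φ U
  let I := 𝓘.ideal ⟨U, hU⟩
  obtain ⟨k, hk⟩ := Ideal.exists_pow_inf_eq_pow_smul I (LinearMap.range φU)
  refine piM_ext h _ _ fun n => ?_
  obtain ⟨s, hs⟩ := resC_surjective 𝓘 h F hU (n + k) (piM h (FSch.complMod 𝓘 F) (zO 𝓘 U) (n + k) x)
  have h1 : φ.app U s ∈ I ^ (n + k + 1) • (⊤ : Submodule Γ(X, U) Γ(G, U)) := by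
    refine (resC_eq_zero_iff 𝓘 h G hU (n + k) _).1 ?_
    rw [← map_resC, hs, ← piM_cplMap, hx, map_zero]
  have h2 : φU s ∈ I ^ (n + k + 1) • (⊤ : Submodule Γ(X, U) Γ(G, U)) ⊓ LinearMap.range φU := ⟨h1, ⟨s, rfl⟩⟩
  rw [hk (n + k + 1) (by omega), show n + k + 1 - k = n + 1 by omega] at h2
  have h3 : φU s ∈ I ^ (n + 1) • LinearMap.range φU := Submodule.smul_mono le_rfl inf_le_right h2
  rw [← Submodule.map_top, ← Submodule.map_smul''] at h3
  obtain ⟨s', hs', he⟩ := h3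
  rw [hinj he] at hs'
  rw [piM_eq_resC_of_le 𝓘 h x s (n.le_add_right k) hs.symm]
  exact (resC_eq_zero_iff 𝓘 h F hU n s).2 hs'

include hU in
/-- Completion keeps exactness in the middle and on the right. -/
theorem cplMap_exact (S : ShortComplex X.Modules) (hS : S.ShortExact) (_h1 : Coh.IsCoh S.X₁) (h2 : Coh.IsCoh S.X₂)
    (h3 : Coh.IsCoh S.X₃) (x : RSec h (FSch.complMod 𝓘 S.X₂) (zO 𝓘 U))
    (hx : cplMap 𝓘 h S.g (zO 𝓘 U) x = 0) : ∃ y, cplMap 𝓘 h S.f (zO 𝓘 U) y = x := by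
  haveI : Coh.IsQCoh S.X₂ := h2.1
  haveI : Coh.IsQCoh S.X₃ := h3.1
  haveI := hS.mono_f
  haveI := hS.epi_g
  suffices h0 : x ∈ LinearMap.range (cplMap 𝓘 h S.f (zO 𝓘 U)) from h0
  refine mem_of_levels (hN := isLocNoethFormal_completionAlong 𝓘 h) _ (isCoh_complMod 𝓘 h2)
    (isAffineOpen_zO 𝓘 hU) _ x fun n => ?_
  obtain ⟨s, hs⟩ := resC_surjective 𝓘 h S.X₂ hU n (piM h (FSch.complMod 𝓘 S.X₂) (zO 𝓘 U) n x)
  have h4 : S.g.app U s ∈ 𝓘.ideal ⟨U, hU⟩ ^ (n + 1) • (⊤ : Submodule Γ(X, U) Γ(S.X₃, U)) := by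
    refine (resC_eq_zero_iff 𝓘 h S.X₃ hU n _).1 ?_
    rw [← map_resC, hs, ← piM_cplMap, hx, map_zero]
  let gU : Γ(S.X₂, U) →ₗ[Γ(X, U)] Γ(S.X₃, U) :=
    { toFun := S.g.app U
      map_add' := map_add _
      map_smul' := fun a s => Scheme.Modules.Hom.app_smul S.g a s }
  have hsurj : LinearMap.range gU = ⊤ :=
    LinearMap.range_eq_top.2 (M1.app_surjective_affine_of_isQCoh h2.1 h3.1 S.g hU)
  rw [← hsurj, ← Submodule.map_top, ← Submodule.map_smul''] at h4
  obtain ⟨t, ht, hts⟩ := h4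
  obtain ⟨m, hm⟩ := M1.sections_exact hS.exact U (s - t) (by
    rw [map_sub, sub_eq_zero]; exact hts.symm)
  refine ⟨cplMap 𝓘 h S.f (zO 𝓘 U) (cplSec 𝓘 h S.X₁ U m), ⟨_, rfl⟩, ?_⟩
  rw [cplMap_cplSec, piM_cplSec, hm, map_sub, (resC_eq_zero_iff 𝓘 h S.X₂ hU n t).2 ht, sub_zero, hs]

end Groth.Agent.FormalModH7
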