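import Groth.Agent.Lib.FormalModH7.Lvl
import Groth.Agent.Lib.FormalModH7.LocSpan
import Groth.Agent.Lib.ModFlat16.PullLocal

/-!
# Every coherent module comes from a coherent system
-/

set_option autoImplicit false
set_option linter.style.haveILetI false
set_option backward.isDefEq.respectTransparency false
set_option backward.isDefEq.respectTransparency.types false
universe u

open CategoryTheory CategoryTheory.Limits AlgebraicGeometry Opposite TopologicalSpace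

namespace Groth.Agent.FormalModH7

variable {𝔛 : FSch.Sys.{u}} (hN : 𝔛.IsLocNoethFormal) (𝔉 : FSch.ModF 𝔛 hN.1)

/-- The inverse image of a module to a level. -/
noncomputable abbrev PL (k : ℕ) : (𝔛.X k).Modules := (FSch.levelMor 𝔛 hN.1 k).pull.obj 𝔉

/-- The canonical map to the level. -/
noncomputable abbrev unitL (k : ℕ) : 𝔉 ⟶ (FSch.levelMor 𝔛 hN.1 k).push.obj (PL hN 𝔉 k) :=
  (FSch.levelMor 𝔛 hN.1 k).adj.unit.app 𝔉

/-- The transition maps between the inverse images. -/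
noncomputable def tL (k : ℕ) : PL hN 𝔉 (k + 1) ⟶ (Scheme.Modules.pushforward (𝔛.ι k)).obj (PL hN 𝔉 k) :=
  ((FSch.levelMor 𝔛 hN.1 (k + 1)).adj.homEquiv _ _).symm
    (unitL hN 𝔉 k ≫ (FSch.pushCompareInv 𝔛 hN.1 k).app (PL hN 𝔉 k))

theorem unitL_tL (k : ℕ) :
    unitL hN 𝔉 (k + 1) ≫ (FSch.levelMor 𝔛 hN.1 (k + 1)).push.map (tL hN 𝔉 k) =
      unitL hN 𝔉 k ≫ (FSch.pushCompareInv 𝔛 hN.1 k).app (PL hN 𝔉 k) :=
  ((FSch.levelMor 𝔛 hN.1 (k + 1)).adj.homEquiv_unit _ _ _).symm.trans (Equiv.apply_symm_apply _ _)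

theorem isIso_tL (k : ℕ) :
    IsIso (((Scheme.Modules.pullbackPushforwardAdjunction (𝔛.ι k)).homEquiv _ _).symm (tL hN 𝔉 k)) := by
  rw [isIso_iff_coyoneda_map_bijective]
  intro N
  let adjι := Scheme.Modules.pullbackPushforwardAdjunction (𝔛.ι k)
  let adj₁ := (FSch.levelMor 𝔛 hN.1 (k + 1)).adj
  let adj₀ := (FSch.levelMor 𝔛 hN.1 k).adj
  let e₂ : (𝔉 ⟶ (FSch.levelMor 𝔛 hN.1 (k + 1)).push.obj ((Scheme.Modules.pushforward (𝔛.ι k)).obj N)) ≃
      (𝔉 ⟶ (FSch.levelMor 𝔛 hN.1 k).push.obj N) :=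
    { toFun := fun q => q ≫ (FSch.pushCompare 𝔛 hN.1 k).app N
      invFun := fun q => q ≫ (FSch.pushCompareInv 𝔛 hN.1 k).app N
      left_inv := fun q => by
        show (q ≫ _) ≫ _ = q
        rw [Category.assoc]
        exact (congrArg (q ≫ ·) (FSch.pushCompare_pushCompareInv 𝔛 hN.1 k N)).trans (Category.comp_id _)
      right_inv := fun q => by
        show (q ≫ _) ≫ _ = q
        rw [Category.assoc]
        exact (congrArg (q ≫ ·) (FSch.pushCompareInv_pushCompare 𝔛 hN.1 k N)).trans (Category.comp_id _) }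
  let E : ((Scheme.Modules.pullback (𝔛.ι k)).obj (PL hN 𝔉 (k + 1)) ⟶ N) ≃ (PL hN 𝔉 k ⟶ N) :=
    ((adjι.homEquiv _ _).trans (adj₁.homEquiv _ _)).trans (e₂.trans (adj₀.homEquiv _ _).symm)
  have key : ∀ g : PL hN 𝔉 k ⟶ N, E ((adjι.homEquiv _ _).symm (tL hN 𝔉 k) ≫ g) = g := fun g => by
    apply (adj₀.homEquiv _ _).injective
    show adj₀.homEquiv _ _ ((adj₀.homEquiv _ _).symm _) = _
    rw [Equiv.apply_symm_apply]
    show adj₁.homEquiv _ _ (adjι.homEquiv _ _ (_ ≫ g)) ≫ (FSch.pushCompare 𝔛 hN.1 k).app N = _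
    rw [Adjunction.homEquiv_naturality_right, Equiv.apply_symm_apply]
    erw [Adjunction.homEquiv_naturality_right]
    have e1 : adj₁.homEquiv _ _ (tL hN 𝔉 k) = unitL hN 𝔉 k ≫ (FSch.pushCompareInv 𝔛 hN.1 k).app (PL hN 𝔉 k) :=
      Equiv.apply_symm_apply _ _
    erw [e1]
    rw [Category.assoc, Category.assoc]
    have nat := (FSch.pushCompare 𝔛 hN.1 k).naturality g
    erw [nat, reassoc_of% (FSch.pushCompareInv_pushCompare 𝔛 hN.1 k (PL hN 𝔉 k))]
    exact (adj₀.homEquiv_unit _ _ _).symm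
  have hb : Function.Bijective (E ∘ fun g => (adjι.homEquiv _ _).symm (tL hN 𝔉 k) ≫ g) := by
    rw [show (E ∘ fun g => (adjι.homEquiv _ _).symm (tL hN 𝔉 k) ≫ g) = id from funext key]
    exact Function.bijective_id
  exact (Function.Bijective.of_comp_iff' E.bijective _).1 hb

/-- The system of inverse images. -/
noncomputable def sysL : FSch.ModSys 𝔛 where
  F k := PL hN 𝔉 k
  e k := @asIso _ _ _ _ _ (isIso_tL hN 𝔉 k)

theorem toPush_sysL (k : ℕ) : (sysL hN 𝔉).toPush k = tL hN 𝔉 k := Equiv.apply_symm_apply _ _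

theorem cone_comm (k : ℕ) :
    unitL hN 𝔉 (k + 1) ≫
        ((FSch.levelMor 𝔛 hN.1 (k + 1)).push.map ((sysL hN 𝔉).toPush k) ≫
          (FSch.pushCompare 𝔛 hN.1 k).app ((sysL hN 𝔉).F k)) = unitL hN 𝔉 k := by
  rw [toPush_sysL]
  refine (Category.assoc _ _ _).symm.trans ?_
  refine (congrArg (· ≫ _) (unitL_tL hN 𝔉 k)).trans ?_
  refine (Category.assoc _ _ _).trans ?_
  exact (congrArg (unitL hN 𝔉 k ≫ ·) (FSch.pushCompareInv_pushCompare 𝔛 hN.1 k (PL hN 𝔉 k))).trans (Category.comp_id _)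

/-- The cone of units. -/
noncomputable def coneL : Cone (FSch.levelSysOf 𝔛 hN.1 (sysL hN 𝔉).F (sysL hN 𝔉).toPush) where
  pt := 𝔉
  π := NatTrans.ofOpSequence (fun k => unitL hN 𝔉 k) fun k => by
    simp only [Functor.const_obj_obj, Functor.const_obj_map, Category.id_comp]
    rw [FSch.levelSysOf_map_succ]
    exact (cone_comm hN 𝔉 k).symm

/-- The comparison with the module of the system of inverse images. -/
noncomputable def zeta : 𝔉 ⟶ (sysL hN 𝔉).realMod hN.1 :=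
  (limit.isLimit (FSch.levelSysOf 𝔛 hN.1 (sysL hN 𝔉).F (sysL hN 𝔉).toPush)).lift (coneL hN 𝔉)

theorem zeta_proj (k : ℕ) :
    zeta hN 𝔉 ≫ FSch.realProj 𝔛 hN.1 (sysL hN 𝔉).F (sysL hN 𝔉).toPush k = unitL hN 𝔉 k :=
  (limit.isLimit (FSch.levelSysOf 𝔛 hN.1 (sysL hN 𝔉).F (sysL hN 𝔉).toPush)).fac (coneL hN 𝔉) (op k)

variable [SheafOfModules.IsFinitePresentation (R := ModSite.ringSh (𝔛.Osh hN.1)) 𝔉]

theorem isCoh_sysL : (sysL hN 𝔉).IsCoh := fun k => by
  haveI h1 : SheafOfModules.IsFinitePresentation (R := ModSite.ringSh (𝔛.X k).sheaf) (PL hN 𝔉 k) :=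
    ModFlat16.isFinitePresentation_pull (f := FSch.levelMor 𝔛 hN.1 k) 𝔉
  exact ⟨(inferInstance : SheafOfModules.IsQuasicoherent (R := ModSite.ringSh (𝔛.X k).sheaf) (PL hN 𝔉 k)),
    (inferInstance : SheafOfModules.IsFiniteType (R := ModSite.ringSh (𝔛.X k).sheaf) (PL hN 𝔉 k))⟩

theorem piM_zeta (V : (𝔛.X 0).Opens) (k : ℕ) (x : ModSite.sect 𝔉 V) :
    piM hN.1 (sysL hN 𝔉) V k ((zeta hN 𝔉).val.app (op V) x) = (unitL hN 𝔉 k).val.app (op V) x :=
  congrArg (fun q => q.val.app (op V) x) (zeta_proj hN 𝔉 k)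

/-- A module of finite presentation is the module of its system of inverse images. -/
theorem isIso_zeta : IsIso (zeta hN 𝔉) := by
  have hM := isCoh_sysL hN 𝔉
  refine isIso_of_pres _ fun X => ?_
  obtain ⟨S, hS, h⟩ := ModFlat16.covd_hasPres (M := 𝔉) X
  refine ⟨S, hS, fun U l hl => ?_⟩
  obtain ⟨ι, κ, hι, hκ, s, R, hs, hR⟩ := h l hl
  have hB : ∀ (V : (𝔛.X 0).Opens) (_ : IsAffineOpen V) (e : V ≤ U),
      Submodule.span (AV 𝔛 hN.1 V) (Set.range fun i => rS hN.1 (sysL hN 𝔉) e ((zeta hN 𝔉).val.app (op U) (s i))) = ⊤ := by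
    intro V hV e
    refine span_of_level_zero (sysL hN 𝔉) hN hM hV _ ?_
    haveI : Coh.IsQCoh ((sysL hN 𝔉).F 0) := (hM 0).1
    refine span_of_gens (isAffineOpen_lvU hN hV 0) ((sysL hN 𝔉).F 0) _ ?_
    have h1 := gens_pullback (FSch.levelMor 𝔛 hN.1 0) (ModFlat16.gens_smap (homOfLE e) hs)
    have e1 : (fun i => piM hN.1 (sysL hN 𝔉) V 0 (rS hN.1 (sysL hN 𝔉) e ((zeta hN 𝔉).val.app (op U) (s i)))) =
        fun i => (unitL hN 𝔉 0).val.app (op V) (ModFlat16.smap 𝔉 (homOfLE e) (s i)) := funext fun i => by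
      refine Eq.trans ?_ (piM_zeta hN 𝔉 V 0 _)
      exact congrArg (piM hN.1 (sysL hN 𝔉) V 0) (ModFlat16.app_smap (zeta hN 𝔉) (homOfLE e) (s i)).symm
    rw [e1]
    exact h1
  refine ⟨ι, hι, s, hs, ModFlat16.gens_mk _ fun {V} k y => ⟨affSieve V, affSieve_mem V, fun W l' hl' => ?_⟩, ?_⟩
  · obtain ⟨U', hU', h1, h2⟩ := hl'
    obtain ⟨c, hc⟩ := (Submodule.mem_span_range_iff_exists_fun (AV 𝔛 hN.1 U')).1
      (hB U' hU' (h2.trans k.le) ▸ (Submodule.mem_top (x := rS hN.1 (sysL hN 𝔉) h2 y)))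
    refine ⟨fun j => rA hN.1 h1 (c j), ?_⟩
    have h3 := congrArg (rS hN.1 (sysL hN 𝔉) h1) hc.symm
    rw [rS_sum, rS_comp] at h3
    exact Eq.trans h3 (Finset.sum_congr rfl fun j _ => congrArg (rA hN.1 h1 (c j) • ·)
      (rS_comp hN.1 (sysL hN 𝔉) (h2.trans k.le) h1 _))
  · intro V k c hc
    refine ⟨affSieve V, affSieve_mem V, fun W l' hl' => ?_⟩
    obtain ⟨U', hU', h1, h2⟩ := hl'
    have hle : U' ≤ U := h2.trans k.le
    let c' : ι → AV 𝔛 hN.1 U' := fun j => rA hN.1 h2 (c j)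
    let R' : κ → ι → AV 𝔛 hN.1 U' := fun r j => rA hN.1 hle (R r j)
    let us : ∀ n, ι → MV hN.1 (sysL hN 𝔉) U' n := fun n j =>
      (unitL hN 𝔉 n).val.app (op U') (ModFlat16.smap 𝔉 (homOfLE hle) (s j))
    have hc' : ∀ n, ∑ j, prj 𝔛 hN.1 U' n (c' j) • us n j = 0 := fun n => by
      have h3 := congrArg (rS hN.1 (sysL hN 𝔉) h2) hc
      rw [map_zero, rS_sum] at h3
      have h4 := congrArg (piM hN.1 (sysL hN 𝔉) U' n) h3
      rw [map_zero, piM_comb] at h4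
      refine Eq.trans (Finset.sum_congr rfl fun j _ => congrArg (prj 𝔛 hN.1 U' n (c' j) • ·) ?_) h4
      refine (piM_zeta hN 𝔉 U' n _).symm.trans (congrArg (piM hN.1 (sysL hN 𝔉) U' n) ?_)
      refine (ModFlat16.app_smap (zeta hN 𝔉) (homOfLE hle) (s j)).trans ?_
      exact (rS_comp hN.1 (sysL hN 𝔉) k.le h2 _).symm
    have hmem : c' ∈ Submodule.span (AV 𝔛 hN.1 U') (Set.range R') := by
      refine mem_span_of_levels hN hU' _ c' fun n => mem_span_of_locally (isAffineOpen_lvU hN hU' n) _ _ fun x hx => ?_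
      have hP := rels_pullback (FSch.levelMor 𝔛 hN.1 n) (ModFlat16.gens_smap (homOfLE hle) hs)
        (ModFlat16.rels_smap (homOfLE hle) hR)
      obtain ⟨T, hT, hT'⟩ := ModFlat16.rels_apply hP (𝟙 (𝔛.lvU hN.1 n U')) (fun j => prj 𝔛 hN.1 U' n (c' j)) (by
        refine Eq.trans (Finset.sum_congr rfl fun j _ => ?_) (hc' n)
        exact congrArg (prj 𝔛 hN.1 U' n (c' j) • ·) (ModFlat16.smap_id (F := (PL hN 𝔉 n : ModSite.Mod (𝔛.X n).sheaf)) _))
      obtain ⟨W', g, hg, hxW⟩ := hT x hx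
      obtain ⟨d, hd⟩ := hT' g hg
      refine ⟨W', g.le, hxW, d, fun j => (hd j).trans (Finset.sum_congr rfl fun r _ => ?_)⟩
      exact congrArg (fun z => d r * ModFlat16.rmap (𝔛.X n).sheaf z (prj 𝔛 hN.1 U' n (R' r j))) (Category.comp_id g)
    obtain ⟨d, hd⟩ := (Submodule.mem_span_range_iff_exists_fun (AV 𝔛 hN.1 U')).1 hmem
    have hz : ∑ j, c' j • ModFlat16.smap 𝔉 (homOfLE hle) (s j) = 0 := by
      refine Eq.trans (Finset.sum_congr rfl fun j _ => ?_) (comb_zero (R := (𝔛.Osh hN.1).obj.obj (op U'))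
        (N := ModSite.sect 𝔉 U') d R' (fun j => ModFlat16.smap 𝔉 (homOfLE hle) (s j)) fun r => ?_)
      · refine congrArg (· • _) ?_
        refine (congrFun hd j).symm.trans ?_
        rw [Finset.sum_apply]
        exact Finset.sum_congr rfl fun r _ => rfl
      · have h0 := congrArg (ModFlat16.smap 𝔉 (homOfLE hle)) (hR.1 r)
        rw [map_zero, ModFlat16.smap_comb] at h0
        exact h0
    have h5 := congrArg (ModFlat16.smap 𝔉 (homOfLE h1)) hz
    rw [map_zero, ModFlat16.smap_comb] at h5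
    refine Eq.trans (Finset.sum_congr rfl fun j _ => ?_) h5
    refine congrArg₂ (· • ·) ?_ ?_
    · exact ModFlat16.rmap_comp (O := 𝔛.Osh hN.1) (homOfLE h2) (homOfLE h1) (c j)
    · rw [← ModFlat16.smap_comp]
      rfl

end Groth.Agent.FormalModH7
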