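import Groth.Agent.Lib.FormalModH7.IndCoh
import Groth.Agent.Lib.TowerVanH7.Basic
import Groth.Agent.Lib.CohFound.Colim
import Groth.Agent.Lib.CohFound.Push
import Groth.Agent.Lib.FormalModH7.Real

/-!
# Ind-coherent modules on affine formal schemes have no higher cohomology
-/

set_option autoImplicit false
set_option linter.style.haveILetI false
set_option linter.unusedSectionVars false
set_option backward.isDefEq.respectTransparency false
set_option backward.isDefEq.respectTransparency.types false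
universe u

open CategoryTheory CategoryTheory.Limits CategoryTheory.Abelian AlgebraicGeometry Opposite TopologicalSpace

namespace Groth.Agent.FormalModH7

variable {𝔛 : FSch.Sys.{u}} (hN : 𝔛.IsLocNoethFormal)

/-- The underlying abelian sheaves. -/
noncomputable abbrev abFs : FSch.ModF 𝔛 hN.1 ⥤ CohTop.Ab (CohFound.sp (𝔛.X 0)) :=
  SheafOfModules.toSheaf.{u} (ModSite.ringSh (𝔛.Osh hN.1))

theorem preservesLimitsOfShape_abFs : PreservesLimitsOfShape ℕᵒᵖ (abFs hN) := by
  haveI h : PreservesLimitsOfShape ℕᵒᵖ (abFs hN ⋙ sheafToPresheaf _ _) :=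
    preservesLimitsOfShape_of_natIso
      (F := SheafOfModules.forget.{u} (ModSite.ringSh (𝔛.Osh hN.1)) ⋙ PresheafOfModules.toPresheaf _) (Iso.refl _)
  exact @preservesLimitsOfShape_of_reflects_of_preserves _ _ _ _ _ _ _ _ (abFs hN) (sheafToPresheaf _ _) h inferInstance

/-- The tower of the underlying abelian sheaves of a system. -/
noncomputable abbrev abTower (𝔐 : FSch.ModSys 𝔛) : ℕᵒᵖ ⥤ CohTop.Ab (CohFound.sp (𝔛.X 0)) :=
  FSch.levelSysOf 𝔛 hN.1 𝔐.F 𝔐.toPush ⋙ abFs hN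

set_option maxHeartbeats 1000000 in
/-- A level has no higher cohomology on affine opens. -/
theorem subsingleton_hc_level (𝔐 : FSch.ModSys 𝔛) (hM : 𝔐.IsCoh) {V : (𝔛.X 0).Opens} (hV : IsAffineOpen V) (n q : ℕ) :
    Subsingleton (CohFound.Hc ((abTower hN 𝔐).obj (op n)) (q + 1) V) := by
  haveI : (𝔐.F n).IsQuasicoherent := (hM n).1
  have hB : Opens.IsBasis {U : (𝔛.X 0).Opens | IsAffineOpen U} := (𝔛.X 0).isBasis_affineOpens
  let M := (CohFound.abF (𝔛.X n)).obj (𝔐.F n)
  have hs : ∀ (p : ℕ) (U : (𝔛.X 0).Opens), IsAffineOpen U →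
      Subsingleton (CohFound.Hc M (p + 1) ((Opens.map (𝔛.gInv hN.1 n)).obj U)) := fun p U hU =>
    CohFound.subsingleton_hc_isAffineOpen (𝔐.F n) (isAffineOpen_lvU hN hU n) p
  obtain ⟨e⟩ := CohFound.nonempty_hc_push (𝔛.gInv hN.1 n) hB (q + 1) M (fun p _ U hU => hs p U hU) V
  haveI := hs q V hV
  exact e.injective.subsingleton

set_option maxHeartbeats 1000000 in
/-- The module of a coherent system has no higher cohomology on affine opens. -/
theorem subsingleton_hc_realMod (𝔐 : FSch.ModSys 𝔛) (hM : 𝔐.IsCoh) {V : (𝔛.X 0).Opens} (hV : IsAffineOpen V) (q : ℕ) :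
    Subsingleton (CohFound.Hc ((abFs hN).obj (𝔐.realMod hN.1)) (q + 1) V) := by
  haveI := preservesLimitsOfShape_abFs hN
  let G := FSch.levelSysOf 𝔛 hN.1 𝔐.F 𝔐.toPush
  have hB : Opens.IsBasis {U : (𝔛.X 0).Opens | IsAffineOpen U} := (𝔛.X 0).isBasis_affineOpens
  have hsurj : ∀ U ∈ {U : (𝔛.X 0).Opens | IsAffineOpen U}, ∀ n : ℕ,
      Function.Surjective (((abTower hN 𝔐).map (homOfLE (Nat.le_succ n)).op).hom.app (op U)).hom := fun U hU n y => by
    obtain ⟨t, ht⟩ := (trM_spec 𝔐 hN hM hU n).1 y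
    exact ⟨t, (levelSys_app hN.1 𝔐 U n t).trans ht⟩
  have hac : ∀ n, ProdExt8.AcyclicOn {U : (𝔛.X 0).Opens | IsAffineOpen U} ((abTower hN 𝔐).obj (op n)) := fun n U hU p hp => by
    obtain ⟨r, rfl⟩ : ∃ r, p = r + 1 := ⟨p - 1, by omega⟩
    exact subsingleton_hc_level hN 𝔐 hM hU n r
  obtain ⟨-, ⟨e⟩⟩ := ProdExt8.milnor (abTower hN 𝔐) (ProdExt8.prodAcyclic hB)
    (CohFound.freeU (X := CohFound.sp (𝔛.X 0)) V) hac ((abFs hN).mapCone (limit.cone G))
    (isLimitOfPreserves (abFs hN) (limit.isLimit G)) (ProdExt8.epi_diff hB _ hsurj) (q + 1) q rfl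
  refine TowerVanH7.subsingleton_of_ker_equiv _ (fun n => hac n V hV (q + 1) (Nat.succ_pos q)) e
    (TowerVanH7.subsingleton_limOne_of_surjective _ fun n => ?_)
  rcases q with _ | q
  · rw [TowerVanH7.freeU_eq]
    exact TowerVanH7.surjective_mp_of_app _ (hsurj V hV n)
  · exact fun v => ⟨0, (hac n V hV (q + 1) (Nat.succ_pos q)).elim _ _⟩

/-- Coherent modules have no higher cohomology on affine opens. -/
theorem subsingleton_hc_coh (𝔉 : FSch.ModF 𝔛 hN.1) [SheafOfModules.IsFinitePresentation (R := ModSite.ringSh (𝔛.Osh hN.1)) 𝔉]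
    {V : (𝔛.X 0).Opens} (hV : IsAffineOpen V) (q : ℕ) :
    Subsingleton (CohFound.Hc ((abFs hN).obj 𝔉) (q + 1) V) := by
  haveI := isIso_zeta hN 𝔉
  let e := (abFs hN).mapIso (asIso (zeta hN 𝔉))
  haveI := subsingleton_hc_realMod hN _ (isCoh_sysL hN 𝔉) hV q
  refine subsingleton_of_forall_eq 0 fun x => ?_
  have h := congrArg (CohFound.mp e.inv (q + 1) V) (Subsingleton.elim (CohFound.mp e.hom (q + 1) V x) 0)
  rwa [map_zero, ← CohFound.mp_comp, e.hom_inv_id, CohFound.mp_id] at h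

/-- Ind-coherent modules have no higher cohomology on affine opens. -/
theorem subsingleton_hc_ind {𝔉 : FSch.ModF 𝔛 hN.1} (h : IndC hN 𝔉)
    {V : (𝔛.X 0).Opens} (hV : IsAffineOpen V) (q : ℕ) :
    Subsingleton (CohFound.Hc ((abFs hN).obj 𝔉) (q + 1) V) := by
  obtain ⟨J, _, _, pres, hP⟩ := h
  haveI : ∀ j, SheafOfModules.IsFinitePresentation (R := ModSite.ringSh (𝔛.Osh hN.1)) (pres.diag.obj j) := hP
  haveI : PreservesColimitsOfSize.{u, u} (abFs hN) := ⟨inferInstance⟩
  haveI : PrespectralSpace (CohFound.sp (𝔛.X 0)) := inferInstanceAs (PrespectralSpace (𝔛.X 0))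
  refine subsingleton_of_forall_eq 0 fun ξ => ?_
  obtain ⟨j, η, rfl⟩ := CohFound.exists_rep_hc (D := pres.diag ⋙ abFs hN)
    (c := (abFs hN).mapCocone (Cocone.mk _ pres.ι)) (isColimitOfPreserves (abFs hN) pres.isColimit) (q + 1)
    hV.isCompact hV.isQuasiSeparated ξ
  haveI := subsingleton_hc_coh hN (pres.diag.obj j) hV q
  rw [show η = 0 from Subsingleton.elim (α := CohFound.Hc ((abFs hN).obj (pres.diag.obj j)) (q + 1) V) η 0, map_zero]

end Groth.Agent.FormalModH7
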