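import Groth.Agent.Lib.FormalModH7.Cd
import Groth.Agent.Lib.FormalModH7.Vanish
import Groth.Agent.Lib.FormalModH7.IndExt
import Groth.Agent.Lib.SiteCmp16.RpushTrunc
import Groth.Agent.Lib.SiteRlim16.Acyclic
import Groth.Agent.Lib.CohFound.Bridge

/-!
# Classes of complexes with ind-coherent cohomology
-/

set_option autoImplicit false
set_option linter.style.haveILetI false
set_option linter.unusedSectionVars false
set_option backward.isDefEq.respectTransparency false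
set_option backward.isDefEq.respectTransparency.types false
universe u

open CategoryTheory CategoryTheory.Limits AlgebraicGeometry Opposite TopologicalSpace
open CategoryTheory.Triangulated DerivedCategory.TStructure

namespace Groth.Agent.FormalModH7

attribute [local instance] HasDerivedCategory.standard

section Generic

/-- Classes above the range of the cohomology vanish over an object of bounded dimension. -/
theorem subsingleton_classes_of_rlim {A : Type (u + 1)} [Category.{u} A] [Abelian A] [HasExt.{u} A]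
    (E : DerivedCategory A) [HasProduct (CohCx.truncTower E)]
    (hE : CohCx.IsRlimVia (CohCx.truncTower E) (CohCx.truncTowerMap E) E (CohCx.toTruncTower E))
    (X : A) (d : ℕ)
    (h : ∀ (q : ℤ) (k : ℕ), d < k → Subsingleton (Abelian.Ext.{u} X ((DerivedCategory.homologyFunctor A q).obj E) k))
    (e : ℤ) (he : ∀ q, e < q → IsZero ((DerivedCategory.homologyFunctor A q).obj E)) (m : ℤ) (hm : e + d < m) :
    Subsingleton ((DerivedCategory.singleFunctor A m).obj X ⟶ E) := by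
  let n₀ := ((d : ℤ) - m).toNat
  have hst : SiteRlim.Stable (CohCx.truncTower E) (CohCx.truncTowerMap E) m n₀ X :=
    SiteRlim.stable_truncTower E m n₀ fun n hn k _ _ => h _ k (by omega)
  haveI : Subsingleton ((DerivedCategory.singleFunctor A m).obj X ⟶ CohCx.truncTower E n₀) := by
    refine SiteRlim.subsingleton_hom_of_homology m _ (-(n₀ : ℤ))
      (inferInstance : t.IsGE ((t.truncGE (-(n₀ : ℤ))).obj E) _) fun q hq => ?_
    by_cases hq' : -(n₀ : ℤ) ≤ q
    · haveI := SiteRlim.isIso_homology_toTruncTower E n₀ q hq'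
      refine ((DerivedCategory.singleFunctor A q).mapIso
        (asIso ((DerivedCategory.homologyFunctor A q).map (CohCx.toTruncTower E n₀)))).homToEquiv.subsingleton_congr.1 ?_
      by_cases hqe : e < q
      · exact ⟨fun x y => ((DerivedCategory.singleFunctor A q).map_isZero (he q hqe)).eq_of_tgt x y⟩
      · obtain ⟨k, hk⟩ : ∃ k : ℕ, q + k = m := ⟨(m - q).toNat, by omega⟩
        exact SiteRlim.subsingleton_hom_single m q k hk (h q k (by omega))
    · exact ⟨fun x y => ((DerivedCategory.singleFunctor A q).map_isZero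
        (SiteRlim.isZero_homology_truncTower E n₀ q (by omega))).eq_of_tgt x y⟩
  exact (hst.bijective hE).1.subsingleton

/-- An object without classes over a basis has no cohomology. -/
theorem isZero_homology_of_classes {A : Type (u + 1)} [Category.{u} A] [Abelian A]
    {C : Type u} [SmallCategory C] {J : GrothendieckTopology C} {G : C ⥤ A} (hG : SiteRlim.LocalGen J G) (B : Set C)
    (hB : ∀ U : C, ∃ (ι : Type u) (Y : ι → C) (g : ∀ i, Y i ⟶ U), Sieve.ofArrows Y g ∈ J U ∧ ∀ i, Y i ∈ B)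
    (K : DerivedCategory A) (m : ℤ)
    (h : ∀ V ∈ B, Subsingleton ((DerivedCategory.singleFunctor A m).obj (G.obj V) ⟶ K)) :
    IsZero ((DerivedCategory.homologyFunctor A m).obj K) := by
  rw [IsZero.iff_id_eq_zero]
  refine hG.gen _ fun U ψ => ?_
  rw [Category.comp_id]
  obtain ⟨S, hS, hS'⟩ := SiteRlim.locally_exists_θ hG ψ
  refine hG.sep _ S hS fun {V} g hg => ?_
  obtain ⟨f, hf⟩ := hS' g hg
  obtain ⟨R, hR, hR'⟩ := SiteRlim.factor_of_cover B hB V
  refine hG.sep _ R hR fun {W} q hq => ?_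
  obtain ⟨Y, a, b, hY, rfl⟩ := hR' q hq
  haveI := h Y hY
  rw [Functor.map_comp, Category.assoc, ← hf, ← SiteRlim.θ_pre, Subsingleton.elim (_ ≫ f) 0]
  simp [SiteRlim.θ]

end Generic

/-- A basis of opens gives coverings. -/
theorem exists_cover_of_isBasis {X : TopCat.{u}} {B : Set (Opens X)} (hB : Opens.IsBasis B) (U : Opens X) :
    ∃ (ι : Type u) (Y : ι → Opens X) (g : ∀ i, Y i ⟶ U),
      Sieve.ofArrows Y g ∈ Opens.grothendieckTopology X U ∧ ∀ i, Y i ∈ B := by
  let ι := {W : Opens X // W ∈ B ∧ W ≤ U}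
  refine ⟨ι, fun W => W.1, fun W => homOfLE W.2.2, fun x hx => ?_, fun W => W.2.1⟩
  obtain ⟨W, hW, hxW, hWU⟩ := hB.exists_subset_of_mem_open hx U.isOpen
  obtain ⟨W', hW', rfl⟩ := hW
  exact ⟨W', homOfLE hWU, Sieve.ofArrows_mk (fun W : ι => W.1) (fun W => homOfLE W.2.2) ⟨W', hW', hWU⟩, hxW⟩

/-- A basis of opens gives coverings finer than any given covering. -/
theorem exists_cover_le_of_isBasis {X : TopCat.{u}} {B : Set (Opens X)} (hB : Opens.IsBasis B) (V : Opens X)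
    (T : Sieve V) (hT : T ∈ Opens.grothendieckTopology X V) :
    ∃ (ι : Type u) (Y : ι → Opens X) (g : ∀ i, Y i ⟶ V),
      (∀ i, T.arrows (g i)) ∧ Sieve.ofArrows Y g ∈ Opens.grothendieckTopology X V ∧ ∀ i, Y i ∈ B := by
  let ι := {W : Opens X // W ∈ B ∧ ∃ h : W ≤ V, T.arrows (homOfLE h)}
  refine ⟨ι, fun W => W.1, fun W => homOfLE W.2.2.1, fun W => W.2.2.2, fun x hx => ?_, fun W => W.2.1⟩
  obtain ⟨U', f, hf, hxU'⟩ := hT x hx
  obtain ⟨W, hW, hxW, hWU⟩ := hB.exists_subset_of_mem_open hxU' U'.isOpen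
  obtain ⟨W', hW', rfl⟩ := hW
  have hle : W' ≤ U' := hWU
  refine ⟨W', homOfLE (hle.trans (leOfHom f)), Sieve.ofArrows_mk (fun W : ι => W.1) (fun W => homOfLE W.2.2.1)
    ⟨W', hW', hle.trans (leOfHom f), T.downward_closed hf (homOfLE hle)⟩, hxW⟩

/-- On a space the generator on the whole space is the structure sheaf. -/
theorem nonempty_freeOn_top_iso {X : TopCat.{u}} (O : Sheaf (Opens.grothendieckTopology X) CommRingCat.{u}) :
    Nonempty (ModSite.freeOn O ⊤ ≅ ModSite.unit O) := by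
  let sE : ∀ M : ModSite.Mod O, M.sections ≃ M.val.obj (op ⊤) := fun M =>
    { toFun := fun s => s.val (op ⊤)
      invFun := fun x => PresheafOfModules.sectionsMk (fun A => M.val.map (homOfLE (le_top : A.unop ≤ ⊤)).op x)
        fun A B f => by
          rw [← M.val.map_comp_apply]
          exact M.val.congr_map_apply (Subsingleton.elim _ _) x
      left_inv := fun s => PresheafOfModules.sections_ext _ _ fun A =>
        PresheafOfModules.sections_property s (homOfLE (le_top : A.unop ≤ ⊤)).op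
      right_inv := fun x => by
        change M.val.map (homOfLE le_rfl).op x = x
        rw [M.val.congr_map_apply (Subsingleton.elim (homOfLE le_rfl).op (𝟙 _)) x, M.val.map_id]
        rfl }
  let E : ∀ M : ModSite.Mod O, (ModSite.freeOn O ⊤ ⟶ M) ≃ (ModSite.unit O ⟶ M) := fun M =>
    (ModFlat16.freeOnHom O ⊤ M).trans ((sE M).symm.trans (M.unitHomEquiv).symm)
  have hE : ∀ {M N : ModSite.Mod O} (a : ModSite.freeOn O ⊤ ⟶ M) (b : M ⟶ N), E N (a ≫ b) = E M a ≫ b := by
    intro M N a b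
    apply N.unitHomEquiv.injective
    apply (sE N).injective
    simp only [E, Equiv.trans_apply, Equiv.apply_symm_apply]
    rw [ModFlat16.freeOnHom_comp, SheafOfModules.unitHomEquiv_comp_apply]
    change _ = b.val.app (op ⊤) ((M.unitHomEquiv ((M.unitHomEquiv).symm ((sE M).symm (ModFlat16.freeOnHom O ⊤ M a)))).val (op ⊤))
    rw [Equiv.apply_symm_apply]
    exact congrArg _ ((sE M).apply_symm_apply _).symm
  let i : ModSite.unit O ⟶ ModSite.freeOn O ⊤ := E _ (𝟙 _)
  let p : ModSite.freeOn O ⊤ ⟶ ModSite.unit O := (E _).symm (𝟙 _)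
  have h1 : i ≫ p = 𝟙 _ := by rw [← hE, Category.id_comp, Equiv.apply_symm_apply]
  refine ⟨⟨p, i, ?_, h1⟩⟩
  apply (E _).injective
  rw [hE, Equiv.apply_symm_apply, Category.id_comp]

section FSch

variable {𝔛 : FSch.Sys.{u}} (hN : 𝔛.IsLocNoethFormal)

theorem cdLE_ind {𝔉 : FSch.ModF 𝔛 hN.1} (h : IndC hN 𝔉) {V : (𝔛.X 0).Opens} (hV : IsAffineOpen V) :
    CdLE ((abFs hN).obj 𝔉) 0 V := fun k hk => by
  obtain ⟨q, rfl⟩ : ∃ q, k = q + 1 := ⟨k - 1, by omega⟩
  exact subsingleton_hc_ind hN h hV q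

theorem subsingleton_hU_of_cdLE {𝔉 : FSch.ModF 𝔛 hN.1} {d : ℕ} {W : (𝔛.X 0).Opens}
    (h : CdLE ((abFs hN).obj 𝔉) d W) {k : ℕ} (hk : d < k) : Subsingleton (ModSite.HU (𝔛.Osh hN.1) 𝔉 k W) :=
  (CohFound.subsingleton_HU_iff ((abFs hN).obj 𝔉) k W).2 (h k hk)

/-- Classes above the range of ind-coherent cohomology vanish over opens of bounded dimension. -/
theorem subsingleton_classes_ind (G : DerivedCategory (FSch.ModF 𝔛 hN.1)) (hG : ∀ i, IndC hN (SiteCmp.HMod G i))
    (W : (𝔛.X 0).Opens) (d : ℕ) (hd : ∀ 𝔉, IndC hN 𝔉 → CdLE ((abFs hN).obj 𝔉) d W)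
    (e : ℤ) (he : ∀ i, e < i → IsZero (SiteCmp.HMod G i)) (m : ℤ) (hm : e + d < m) :
    Subsingleton ((DerivedCategory.singleFunctor (FSch.ModF 𝔛 hN.1) m).obj (ModSite.freeOn (𝔛.Osh hN.1) W) ⟶ G) := by
  haveI := RpushTrunc.hasProduct_nat (CohCx.truncTower G)
  have hE := RpushTrunc.isRlimVia_truncTower_of_dim G {U : (𝔛.X 0).Opens | IsAffineOpen U}
    (exists_cover_of_isBasis (𝔛.X 0).isBasis_affineOpens) fun V _ => ⟨0, fun T hT => by
      obtain ⟨ι, Y, g, h₁, h₂, h₃⟩ := exists_cover_le_of_isBasis (𝔛.X 0).isBasis_affineOpens V T hT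
      exact ⟨ι, Y, g, h₁, h₂, fun i q k hk => subsingleton_hU_of_cdLE hN (cdLE_ind hN (hG q) (h₃ i)) hk⟩⟩
  exact subsingleton_classes_of_rlim G hE _ d
    (fun q k hk => SiteRlim.subsingleton_ext_freeOn _ W _ k (subsingleton_hU_of_cdLE hN (hd _ (hG q)) hk)) e he m hm

variable {𝔜 : FSch.Sys.{u}} (h𝔜 : 𝔜.IsFormal) (f : 𝔛 ⟶ 𝔜) [SiteCmp.HasRpushD (FSch.homMor f hN.1 h𝔜)]

/-- The derived direct image is bounded by the dimension of the inverse images of a basis. -/
theorem isZero_HMod_rpushD_ind (B : Set (𝔜.X 0).Opens) (hB : Opens.IsBasis B) (d : ℕ)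
    (hd : ∀ V ∈ B, ∀ 𝔉, IndC hN 𝔉 → CdLE ((abFs hN).obj 𝔉) d (((f : FSch.Hom 𝔛 𝔜).app 0) ⁻¹ᵁ V))
    (G : DerivedCategory (FSch.ModF 𝔛 hN.1)) (hG : ∀ i, IndC hN (SiteCmp.HMod G i))
    (e : ℤ) (he : ∀ i, e < i → IsZero (SiteCmp.HMod G i)) (m : ℤ) (hm : e + d < m) :
    IsZero (SiteCmp.HMod ((SiteCmp.RpushD (FSch.homMor f hN.1 h𝔜)).obj G) m) :=
  isZero_homology_of_classes (SiteRlim.localGen_genMod _) B (exists_cover_of_isBasis hB) _ m fun V hV =>
    SitePAdj.subsingleton_hom_rpushD (FSch.homMor f hN.1 h𝔜) V m G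
      (subsingleton_classes_ind hN G hG _ d (fun 𝔉 h𝔉 => hd V hV 𝔉 h𝔉) e he m hm)

/-- The basis of basic opens inside a finite affine covering has inverse images of bounded dimension. -/
theorem exists_basis_bound [CompactSpace (𝔛.X 0)] [CompactSpace (𝔜.X 0)] :
    ∃ (B : Set (𝔜.X 0).Opens) (d : ℕ), Opens.IsBasis B ∧
      ∀ V ∈ B, ∀ 𝔉, IndC hN 𝔉 → CdLE ((abFs hN).obj 𝔉) d (((f : FSch.Hom 𝔛 𝔜).app 0) ⁻¹ᵁ V) := by
  classical
  let 𝒰 := (𝔜.X 0).affineCover.finiteSubcover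
  have hcp := fun V : (𝔜.X 0).Opens => exists_cdLE_basicOpen (isCompact_opens hN) (((f : FSch.Hom 𝔛 𝔜).app 0) ⁻¹ᵁ V)
  choose dd hdd using hcp
  haveI : Fintype 𝒰.I₀ := Fintype.ofFinite _
  refine ⟨{V | ∃ (i : 𝒰.I₀) (h : Γ(𝔜.X 0, (𝒰.f i).opensRange)), V = (𝔜.X 0).basicOpen h},
    Finset.univ.sup fun i => dd (𝒰.f i).opensRange, ?_, ?_⟩
  · rw [Opens.isBasis_iff_nbhd]
    intro U x hx
    obtain ⟨y, hy⟩ := 𝒰.covers x
    have haff : IsAffineOpen (𝒰.f (𝒰.idx x)).opensRange := isAffineOpen_opensRange _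
    obtain ⟨h, hh, hxh⟩ := haff.exists_basicOpen_le (V := U) ⟨x, hx⟩ ⟨y, hy⟩
    exact ⟨_, ⟨_, h, rfl⟩, hxh, hh⟩
  · rintro V ⟨i, h, rfl⟩ 𝔉 h𝔉
    rw [Scheme.preimage_basicOpen]
    exact CdLE.mono _ (hdd _ _ (fun V hV => cdLE_ind hN h𝔉 hV) _) (Finset.le_sup (f := fun i => dd (𝒰.f i).opensRange) (Finset.mem_univ i))

end FSch

end Groth.Agent.FormalModH7
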