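import Groth.Agent.Lib.ModFlat16.PullMono

/-!
# The equational condition for flatness of a morphism of ringed sites
-/

set_option autoImplicit false
set_option linter.style.haveILetI false
set_option backward.isDefEq.respectTransparency false
set_option backward.isDefEq.respectTransparency.types false

universe u

open CategoryTheory CategoryTheory.Limits Opposite

noncomputable section

namespace Groth.Agent.FormalModH7

open ModFlat16 Groth.Agent.KFlat.Site

variable {C D : Type u} [SmallCategory C] [SmallCategory D] {J : GrothendieckTopology C}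
  {K : GrothendieckTopology D} {O_C : Sheaf J CommRingCat.{u}} {O_D : Sheaf K CommRingCat.{u}}

/-- Relations upstairs with coefficients downstairs are locally trivial. -/
def EqFlat (f : ModSite.RMor O_C O_D) : Prop :=
  ∀ (W : C) (V₀ : D) (u₀ : W ⟶ f.fn.obj V₀) (l : ℕ) (n : Fin l → O_C.obj.obj (op W))
    (a : Fin l → O_D.obj.obj (op V₀)), ∑ i, n i * rho f u₀ (a i) = 0 →
    ∃ T ∈ J W, ∀ ⦃W' : C⦄ (k : W' ⟶ W), T k → ∃ (V' : D) (b : V' ⟶ V₀) (u' : W' ⟶ f.fn.obj V') (r : ℕ)
      (c : Fin l → Fin r → O_D.obj.obj (op V')) (z : Fin r → O_C.obj.obj (op W')),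
      u' ≫ f.fn.map b = k ≫ u₀ ∧ (∀ i, rmap O_C k (n i) = ∑ q, rho f u' (c i q) * z q) ∧
        ∀ q, ∑ i, c i q * rmap O_D b (a i) = 0

variable {f : ModSite.RMor O_C O_D}

/-- Finitely many relations are simultaneously locally trivial. -/
theorem EqFlat.many (hf : EqFlat f) (W : C) (V₀ : D) (u₀ : W ⟶ f.fn.obj V₀) (l : ℕ) (n : Fin l → O_C.obj.obj (op W)) :
    ∀ (m : ℕ) (a : Fin m → Fin l → O_D.obj.obj (op V₀)), (∀ s, ∑ i, n i * rho f u₀ (a s i) = 0) →
    ∃ T ∈ J W, ∀ ⦃W' : C⦄ (k : W' ⟶ W), T k → ∃ (V' : D) (b : V' ⟶ V₀) (u' : W' ⟶ f.fn.obj V') (r : ℕ)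
      (c : Fin l → Fin r → O_D.obj.obj (op V')) (z : Fin r → O_C.obj.obj (op W')),
      u' ≫ f.fn.map b = k ≫ u₀ ∧ (∀ i, rmap O_C k (n i) = ∑ q, rho f u' (c i q) * z q) ∧
        ∀ s q, ∑ i, c i q * rmap O_D b (a s i) = 0 := by
  classical
  intro m
  induction m with
  | zero =>
    intro a _
    refine ⟨⊤, J.top_mem W, fun W' k _ => ⟨V₀, 𝟙 V₀, k ≫ u₀, l, fun i q => if i = q then 1 else 0,
      fun q => rmap O_C k (n q), by simp, fun i => ?_, fun s => s.elim0⟩⟩
    rw [Finset.sum_eq_single i]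
    · simp
    · intro q _ hq; simp [Ne.symm hq]
    · simp
  | succ m ih =>
    intro a ha
    obtain ⟨T, hT, hT'⟩ := ih (fun s => a s.castSucc) fun s => ha _
    choose V' b u' r c z hu hnc hca using hT'
    have hrel : ∀ ⦃W' : C⦄ (k : W' ⟶ W) (hk : T k),
        ∑ q, z k hk q * rho f (u' k hk) (∑ i, c k hk i q * rmap O_D (b k hk) (a (Fin.last m) i)) = 0 := by
      intro W' k hk
      have h0 := congrArg (rmap O_C k) (ha (Fin.last m))
      rw [map_sum, map_zero] at h0
      refine Eq.trans ?_ h0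
      simp only [map_sum, map_mul, Finset.mul_sum, rho_rmap, hu k hk, rmap_rho, hnc k hk, Finset.sum_mul]
      rw [Finset.sum_comm]
      exact Finset.sum_congr rfl fun i _ => Finset.sum_congr rfl fun q _ => by ring
    choose T' hT₂ hT₃ using fun W' (k : W' ⟶ W) (hk : T k) => hf W' (V' k hk) (u' k hk) (r k hk) (z k hk) _ (hrel k hk)
    refine ⟨Sieve.bind T.arrows fun W' k hk => T' W' k hk, J.bind_covering hT fun W' k hk => hT₂ W' k hk, ?_⟩
    rintro W₂ _ ⟨W', h, k, hk, hh, rfl⟩
    obtain ⟨V'', b', u'', r', c', z', hu', hz, hc'⟩ := hT₃ W' k hk h hh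
    refine ⟨V'', b' ≫ b k hk, u'', r', fun i p => ∑ q, rmap O_D b' (c k hk i q) * c' q p, z', ?_, fun i => ?_, fun s p => ?_⟩
    · rw [Functor.map_comp, reassoc_of% hu', hu k hk, Category.assoc]
    · rw [rmap_comp, hnc k hk i]
      simp only [map_sum, map_mul, rmap_rho, hz, ← hu', ← rho_rmap, Finset.mul_sum, Finset.sum_mul]
      rw [Finset.sum_comm]
      exact Finset.sum_congr rfl fun q _ => Finset.sum_congr rfl fun p _ => by ring
    · have key : ∑ i, (∑ q, rmap O_D b' (c k hk i q) * c' q p) * rmap O_D (b' ≫ b k hk) (a s i) =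
          ∑ q, c' q p * rmap O_D b' (∑ i, c k hk i q * rmap O_D (b k hk) (a s i)) := by
        simp only [Finset.sum_mul, map_sum, Finset.mul_sum, map_mul, rmap_comp]
        rw [Finset.sum_comm]
        exact Finset.sum_congr rfl fun q _ => Finset.sum_congr rfl fun i _ => by ring
      rw [key]
      induction s using Fin.lastCases with
      | last => exact hc' p
      | cast s => exact Finset.sum_eq_zero fun q _ => by rw [hca k hk s q, map_zero, mul_zero]

end Groth.Agent.FormalModH7
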