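import Groth.Agent.Lib.ModM1.Stalk
import Mathlib.RingTheory.LocalProperties.Exactness
import Mathlib.RingTheory.Localization.Integer
import Mathlib.AlgebraicGeometry.AffineScheme

/-!
# Generators and relations of a quasi-coherent module restrict from affine opens to smaller ones
-/

set_option autoImplicit false
set_option backward.isDefEq.respectTransparency false
universe u

open AlgebraicGeometry CategoryTheory

namespace Groth.Agent.FormalModH7

variable {X : Scheme.{u}} (M : X.Modules) [Coh.IsQCoh M] {V W : X.Opens} (hV : IsAffineOpen V) (hW : IsAffineOpen W)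
  (hWV : W ≤ V)

include hW in
/-- Membership is local over an affine open. -/
theorem mem_of_locally {N : Type*} [AddCommGroup N] [Module Γ(X, W) N] (P : Submodule Γ(X, W) N) (t : N)
    (h : ∀ (x : X) (hx : x ∈ W), ∃ u : Γ(X, W), IsUnit (X.presheaf.germ W x hx u) ∧ u • t ∈ P) : t ∈ P := by
  refine P.mem_of_span_top_of_smul_mem (s := {u | u • t ∈ P}) ?_ _ fun u => u.2
  by_contra hne
  obtain ⟨m, hm, hle⟩ := Ideal.exists_le_maximal _ hne
  let q : PrimeSpectrum Γ(X, W) := ⟨m, hm.isPrime⟩
  have hx : hW.fromSpec q ∈ W := by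
    rw [← SetLike.mem_coe, ← hW.range_fromSpec]; exact ⟨q, rfl⟩
  obtain ⟨u, hu, hut⟩ := h _ hx
  have he : (hW.primeIdealOf ⟨hW.fromSpec q, hx⟩).asIdeal = m :=
    congrArg PrimeSpectrum.asIdeal (hW.fromSpec.isOpenEmbedding.injective (hW.fromSpec_primeIdealOf ⟨hW.fromSpec q, hx⟩))
  exact ((M1.isUnit_germ_iff hW hx u).1 hu) (he.symm ▸ hle (Ideal.subset_span hut))

variable {x : X}

/-- The restriction of functions. -/
noncomputable abbrev rO : Γ(X, V) →+* Γ(X, W) := (X.presheaf.map (homOfLE hWV).op).hom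

theorem germ_rO (hx : x ∈ W) (a : Γ(X, V)) :
    X.presheaf.germ W x hx (rO hWV a) = X.presheaf.germ V x (hWV hx) a :=
  TopCat.Presheaf.germ_res_apply X.presheaf (homOfLE hWV) x hx a

omit [Coh.IsQCoh M] in
theorem germ_mres (hx : x ∈ W) (m : Γ(M, V)) :
    M.presheaf.germ W x hx (M1.mres M hWV m) = M.presheaf.germ V x (hWV hx) m :=
  TopCat.Presheaf.germ_res_apply M.presheaf (homOfLE hWV) x hx m

omit [Coh.IsQCoh M] in
theorem mres_smul' (a : Γ(X, V)) (m : Γ(M, V)) :
    M1.mres M hWV (a • m) = rO hWV a • M1.mres M hWV m := M1.mres_smul M hWV a m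

include hV hW in
/-- Generators restrict. -/
theorem span_mres {ι : Type*} (s : ι → Γ(M, V)) (hs : Submodule.span Γ(X, V) (Set.range s) = ⊤) :
    Submodule.span Γ(X, W) (Set.range fun i => M1.mres M hWV (s i)) = ⊤ := by
  rw [eq_top_iff]
  rintro t -
  refine mem_of_locally hW _ t fun x hx => ?_
  obtain ⟨r, m, hr, hrm⟩ := M1.exists_germ_smul_eq M hV (hWV hx) (M.presheaf.germ W x hx t)
  obtain ⟨u, hu, hu0⟩ := M1.exists_smul_eq_zero_of_germ_eq_zero M hW hx (rO hWV r • t - M1.mres M hWV m) (by
    rw [map_sub, M1.germ_smul, germ_rO, germ_mres, hrm, sub_self])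
  refine ⟨u * rO hWV r, by rw [map_mul, germ_rO]; exact hu.mul hr, ?_⟩
  rw [smul_sub, sub_eq_zero] at hu0
  rw [mul_smul, hu0]
  refine Submodule.smul_mem _ _ ?_
  have hm : m ∈ Submodule.span Γ(X, V) (Set.range s) := hs ▸ Submodule.mem_top
  clear hrm hu0
  induction hm using Submodule.span_induction with
  | mem y hy => obtain ⟨i, rfl⟩ := hy; exact Submodule.subset_span ⟨i, rfl⟩
  | zero => rw [map_zero]; exact Submodule.zero_mem _
  | add a b _ _ ha hb => rw [map_add]; exact Submodule.add_mem _ ha hb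
  | smul c a _ ha => rw [mres_smul']; exact Submodule.smul_mem _ _ ha

include hV hW in
/-- Relations restrict. -/
theorem rels_mres {ι κ : Type*} [Fintype ι] (s : ι → Γ(M, V)) (R : κ → ι → Γ(X, V))
    (hR : ∀ a : ι → Γ(X, V), ∑ i, a i • s i = 0 → a ∈ Submodule.span Γ(X, V) (Set.range R))
    (c : ι → Γ(X, W)) (hc : ∑ i, c i • M1.mres M hWV (s i) = 0) :
    c ∈ Submodule.span Γ(X, W) (Set.range fun r i => rO hWV (R r i)) := by
  classical
  refine mem_of_locally hW _ c fun x hx => ?_
  letI : Algebra Γ(X, V) (X.presheaf.stalk x) := X.presheaf.algebra_section_stalk ⟨x, hWV hx⟩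
  haveI : IsLocalization.AtPrime (X.presheaf.stalk x) (hV.primeIdealOf ⟨x, hWV hx⟩).asIdeal :=
    hV.isLocalization_stalk ⟨x, hWV hx⟩
  obtain ⟨v, hv⟩ := IsLocalization.exist_integer_multiples (hV.primeIdealOf ⟨x, hWV hx⟩).asIdeal.primeCompl
    Finset.univ fun i => X.presheaf.germ W x hx (c i)
  choose a ha using fun i => hv i (Finset.mem_univ i)
  have ha' : ∀ i, X.presheaf.germ V x (hWV hx) (a i) =
      X.presheaf.germ V x (hWV hx) v * X.presheaf.germ W x hx (c i) := fun i =>
    (ha i).trans (Algebra.smul_def _ _)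
  obtain ⟨w, hw, hw0⟩ := M1.exists_smul_eq_zero_of_germ_eq_zero M hV (hWV hx) (∑ i, a i • s i) (by
    rw [map_sum]
    simp only [M1.germ_smul, ha', mul_smul]
    rw [← Finset.smul_sum]
    have := congrArg (M.presheaf.germ W x hx) hc
    rw [map_sum, map_zero] at this
    simp only [M1.germ_smul, germ_mres] at this
    rw [this, smul_zero])
  rw [Finset.smul_sum] at hw0
  simp only [smul_smul] at hw0
  have hmem := hR _ hw0
  letI : Algebra Γ(X, W) (X.presheaf.stalk x) := X.presheaf.algebra_section_stalk ⟨x, hx⟩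
  haveI : IsLocalization.AtPrime (X.presheaf.stalk x) (hW.primeIdealOf ⟨x, hx⟩).asIdeal :=
    hW.isLocalization_stalk ⟨x, hx⟩
  have hk : ∀ i, ∃ p : (hW.primeIdealOf ⟨x, hx⟩).asIdeal.primeCompl,
      p.1 * (rO hWV (v : Γ(X, V)) * c i) = p.1 * rO hWV (a i) := fun i => by
    refine IsLocalization.exists_of_eq (S := X.presheaf.stalk x) ?_
    show X.presheaf.germ W x hx _ = X.presheaf.germ W x hx _
    rw [map_mul, germ_rO, germ_rO, ha']
  choose p hp using hk
  have hp' : ∀ i, (∏ j, (p j).1) * (rO hWV (v : Γ(X, V)) * c i) = (∏ j, (p j).1) * rO hWV (a i) := fun i => by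
    rw [← Finset.prod_erase_mul Finset.univ (fun j => (p j).1) (Finset.mem_univ i), mul_assoc, mul_assoc, hp]
  refine ⟨rO hWV w * ((∏ j, (p j).1) * rO hWV (v : Γ(X, V))), ?_, ?_⟩
  · rw [map_mul, map_mul, map_prod, germ_rO, germ_rO]
    refine hw.mul ((IsUnit.prod_iff.2 fun j _ => (M1.isUnit_germ_iff hW hx _).2 (p j).2).mul ?_)
    exact (M1.isUnit_germ_iff hV (hWV hx) _).2 v.2
  · have e : (rO hWV w * ((∏ j, (p j).1) * rO hWV (v : Γ(X, V)))) • c =
        (∏ j, (p j).1) • fun i => rO hWV (w * a i) := funext fun i => by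
      simp only [Pi.smul_apply, smul_eq_mul, map_mul]
      linear_combination rO hWV w * hp' i
    rw [e]
    refine Submodule.smul_mem _ _ ?_
    have key : ∀ b ∈ Submodule.span Γ(X, V) (Set.range R),
        (fun i => rO hWV (b i)) ∈ Submodule.span Γ(X, W) (Set.range fun r i => rO hWV (R r i)) := fun b hb => by
      induction hb using Submodule.span_induction with
      | mem y hy => obtain ⟨r, rfl⟩ := hy; exact Submodule.subset_span ⟨r, rfl⟩
      | zero =>
        rw [show (fun i => rO hWV ((0 : ι → Γ(X, V)) i)) = 0 from funext fun i => map_zero _]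
        exact Submodule.zero_mem _
      | add a b _ _ ha hb =>
        rw [show (fun i => rO hWV ((a + b) i)) = (fun i => rO hWV (a i)) + fun i => rO hWV (b i) from
          funext fun i => map_add _ _ _]
        exact Submodule.add_mem _ ha hb
      | smul d a _ ha =>
        rw [show (fun i => rO hWV ((d • a) i)) = rO hWV d • fun i => rO hWV (a i) from
          funext fun i => map_mul _ _ _]
        exact Submodule.smul_mem _ _ ha
    exact key _ hmem

end Groth.Agent.FormalModH7
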