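import Groth.Agent.Lib.FormalModH7.Res
import Groth.Agent.Lib.FormalModH7.SectGen
import Groth.Agent.Lib.ModM1.Coh
import Groth.Agent.Lib.ModFlat16.LocFT
import Mathlib.RingTheory.Nakayama
import Mathlib.RingTheory.AdicCompletion.Noetherian

/-!
# The module of a coherent system is finitely presented
-/

set_option autoImplicit false
set_option linter.style.haveILetI false
set_option backward.isDefEq.respectTransparency false
universe u

open CategoryTheory CategoryTheory.Limits AlgebraicGeometry Opposite TopologicalSpace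

namespace Groth.Agent.FormalModH7

variable {𝔛 : FSch.Sys.{u}} (𝔐 : FSch.ModSys 𝔛) (hN : 𝔛.IsLocNoethFormal) (hM : 𝔐.IsCoh)
  {V W : (𝔛.X 0).Opens}

include hM in
theorem finite_MV (hV : IsAffineOpen V) (n : ℕ) : Module.Finite (AV 𝔛 hN.1 V) (MV hN.1 𝔐 V n) := by
  haveI : Module.Finite (LV 𝔛 hN.1 n V) (MV hN.1 𝔐 V n) :=
    M1.finite_sections (hM n).1 (hM n).2 (isAffineOpen_lvU hN hV n)
  obtain ⟨t, ht⟩ := (Module.Finite.fg_top (R := LV 𝔛 hN.1 n V) (M := MV hN.1 𝔐 V n))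
  refine ⟨⟨t, eq_top_iff.2 fun x _ => ?_⟩⟩
  have hx : x ∈ Submodule.span (LV 𝔛 hN.1 n V) (t : Set (MV hN.1 𝔐 V n)) := ht ▸ Submodule.mem_top
  induction hx using Submodule.span_induction with
  | mem y hy => exact Submodule.subset_span hy
  | zero => exact Submodule.zero_mem _
  | add a b _ _ ha hb => exact Submodule.add_mem _ (ha trivial) (hb trivial)
  | smul c a _ ha =>
    obtain ⟨c', rfl⟩ := prj_surjective hN hV n c
    exact Submodule.smul_mem (M := MV hN.1 𝔐 V n) _ c' (ha trivial)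

include hM in
/-- Sections over an affine open form a finite module. -/
theorem finite_RSec (hV : IsAffineOpen V) : Module.Finite (AV 𝔛 hN.1 V) (RSec hN.1 𝔐 V) := by
  haveI := finite_MV 𝔐 hN hM hV 0
  haveI := (structure_AV hN hV).2.1
  exact (sysM 𝔐 hN hM hV).finite (fg_defIdeal hN hV)

include hM in
theorem span_piM (hV : IsAffineOpen V) {ι : Type*} (s : ι → RSec hN.1 𝔐 V)
    (hs : Submodule.span (AV 𝔛 hN.1 V) (Set.range s) = ⊤) (n : ℕ) :
    Submodule.span (LV 𝔛 hN.1 n V) (Set.range fun j => piM hN.1 𝔐 V n (s j)) = ⊤ := by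
  rw [eq_top_iff]
  rintro t -
  obtain ⟨x, rfl⟩ := piM_surjective 𝔐 hN hM hV n t
  have hx : x ∈ Submodule.span (AV 𝔛 hN.1 V) (Set.range s) := hs ▸ Submodule.mem_top
  induction hx using Submodule.span_induction with
  | mem y hy => obtain ⟨j, rfl⟩ := hy; exact Submodule.subset_span ⟨j, rfl⟩
  | zero => rw [map_zero]; exact Submodule.zero_mem _
  | add a b _ _ ha hb => rw [map_add]; exact Submodule.add_mem _ ha hb
  | smul c a _ ha => rw [piM_smul]; exact Submodule.smul_mem _ _ ha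

include hN in
/-- The submodules of finite free modules over the sections on an affine open are closed. -/
theorem mem_span_of_levels (hW : IsAffineOpen W) {ι κ : Type*} [Fintype ι] (R : κ → ι → AV 𝔛 hN.1 W)
    (c : ι → AV 𝔛 hN.1 W)
    (hc : ∀ n, (fun j => prj 𝔛 hN.1 W n (c j)) ∈
      Submodule.span (LV 𝔛 hN.1 n W) (Set.range fun r j => prj 𝔛 hN.1 W n (R r j))) :
    c ∈ Submodule.span (AV 𝔛 hN.1 W) (Set.range R) := by
  classical
  haveI := (structure_AV hN hW).1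
  haveI := (structure_AV hN hW).2.1
  let P := Submodule.span (AV 𝔛 hN.1 W) (Set.range R)
  let J := defIdeal 𝔛 hN.1 W
  haveI : IsHausdorff J ((ι → AV 𝔛 hN.1 W) ⧸ P) :=
    IsHausdorff.of_le_jacobson _ _ (IsAdicComplete.le_jacobson_bot J)
  have hclose : ∀ n, ∃ d ∈ P, ∀ j, c j - d j ∈ J ^ (n + 1) := fun n => by
    have key : ∀ z ∈ Submodule.span (LV 𝔛 hN.1 n W) (Set.range fun r j =>
        prj 𝔛 hN.1 W n (R r j)), ∃ d ∈ P, ∀ j, prj 𝔛 hN.1 W n (d j) = z j := fun z hz => by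
      induction hz using Submodule.span_induction with
      | mem y hy =>
        obtain ⟨r, rfl⟩ := hy
        exact ⟨_, Submodule.subset_span ⟨r, rfl⟩, fun j => rfl⟩
      | zero => exact ⟨0, Submodule.zero_mem _, fun j => map_zero _⟩
      | add a b _ _ ha hb =>
        obtain ⟨a', ha1, ha2⟩ := ha
        obtain ⟨b', hb1, hb2⟩ := hb
        exact ⟨a' + b', Submodule.add_mem _ ha1 hb1, fun j => by rw [Pi.add_apply, Pi.add_apply, map_add, ha2, hb2]⟩
      | smul d a _ ha =>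
        obtain ⟨a', ha1, ha2⟩ := ha
        obtain ⟨d', rfl⟩ := prj_surjective hN hW n d
        exact ⟨d' • a', Submodule.smul_mem _ _ ha1, fun j => by
          rw [Pi.smul_apply, Pi.smul_apply, smul_eq_mul, smul_eq_mul, map_mul, ha2]⟩
    obtain ⟨d, hd, hd'⟩ := key _ (hc n)
    refine ⟨d, hd, fun j => ?_⟩
    rw [← (structure_AV hN hW).2.2 n, RingHom.mem_ker, map_sub, hd', sub_self]
  refine (Submodule.Quotient.mk_eq_zero P).1 (IsHausdorff.haus' (I := J) _ fun n => ?_)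
  rw [SModEq.zero]
  obtain ⟨d, hd, hd'⟩ := hclose n
  have e : (Submodule.Quotient.mk c : (ι → AV 𝔛 hN.1 W) ⧸ P) =
      ∑ j, (c j - d j) • Submodule.Quotient.mk (Pi.single j 1) := by
    have e1 : c - d = ∑ j, (c j - d j) • (Pi.single j 1 : ι → AV 𝔛 hN.1 W) := pi_eq_sum_univ' (c - d)
    rw [← sub_zero (Submodule.Quotient.mk c), ← (Submodule.Quotient.mk_eq_zero P).2 hd, ← Submodule.Quotient.mk_sub,
      ← Submodule.mkQ_apply, e1, map_sum]
    simp only [map_smul, Submodule.mkQ_apply]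
  rw [e]
  exact Submodule.sum_mem _ fun j _ => Submodule.smul_mem_smul (Ideal.pow_le_pow_right (Nat.le_succ n) (hd' j))
    Submodule.mem_top

include hM in
/-- Sections generating the bottom level generate. -/
theorem span_of_level_zero (hW : IsAffineOpen W) {ι : Type*} (t : ι → RSec hN.1 𝔐 W)
    (h0 : Submodule.span (LV 𝔛 hN.1 0 W) (Set.range fun j => piM hN.1 𝔐 W 0 (t j)) = ⊤) :
    Submodule.span (AV 𝔛 hN.1 W) (Set.range t) = ⊤ := by
  haveI := finite_RSec 𝔐 hN hM hW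
  haveI := (structure_AV hN hW).2.1
  set N := Submodule.span (AV 𝔛 hN.1 W) (Set.range t)
  refine eq_top_iff.2 (Submodule.le_of_le_smul_of_le_jacobson_bot Module.Finite.fg_top
    (IsAdicComplete.le_jacobson_bot (defIdeal 𝔛 hN.1 W)) ?_)
  rintro x -
  have key : ∀ z : MV hN.1 𝔐 W 0, ∃ y ∈ N, piM hN.1 𝔐 W 0 y = z := fun z => by
    have ht := h0 ▸ (Submodule.mem_top (x := z))
    induction ht using Submodule.span_induction with
    | mem y hy =>
      obtain ⟨j, rfl⟩ := hy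
      exact ⟨_, Submodule.subset_span ⟨j, rfl⟩, rfl⟩
    | zero => exact ⟨0, Submodule.zero_mem _, map_zero _⟩
    | add a b _ _ ha hb =>
      obtain ⟨y, hy, rfl⟩ := ha
      obtain ⟨z, hz, rfl⟩ := hb
      exact ⟨y + z, Submodule.add_mem _ hy hz, map_add _ _ _⟩
    | smul c a _ ha =>
      obtain ⟨y, hy, rfl⟩ := ha
      obtain ⟨c', rfl⟩ := prj_surjective hN hW 0 c
      exact ⟨c' • y, Submodule.smul_mem _ _ hy, piM_smul hN.1 𝔐 0 c' y⟩
  obtain ⟨y, hy, hyx⟩ := key (piM hN.1 𝔐 W 0 x)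
  have h2 : x - y ∈ LinearMap.ker (piM hN.1 𝔐 W 0) := by rw [LinearMap.mem_ker, map_sub, hyx, sub_self]
  rw [ker_piM 𝔐 hN hM hW, zero_add, pow_one] at h2
  exact Submodule.mem_sup.2 ⟨y, hy, x - y, h2, add_sub_cancel _ _⟩

include hM in
/-- Generators over an affine open restrict to generators over smaller affine opens. -/
theorem span_rS (hV : IsAffineOpen V) (hW : IsAffineOpen W) (i : W ≤ V) {ι : Type*} (s : ι → RSec hN.1 𝔐 V)
    (hs : Submodule.span (AV 𝔛 hN.1 V) (Set.range s) = ⊤) :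
    Submodule.span (AV 𝔛 hN.1 W) (Set.range fun j => rS hN.1 𝔐 i (s j)) = ⊤ := by
  haveI : Coh.IsQCoh (𝔐.F 0) := (hM 0).1
  refine span_of_level_zero 𝔐 hN hM hW _ ?_
  rw [show (fun j => piM hN.1 𝔐 W 0 (rS hN.1 𝔐 i (s j))) =
    fun j => M1.mres (𝔐.F 0) (lvU_mono hN.1 i 0) (piM hN.1 𝔐 V 0 (s j)) from funext fun j => piM_rS hN.1 𝔐 i 0 (s j)]
  exact span_mres (𝔐.F 0) (isAffineOpen_lvU hN hV 0) (isAffineOpen_lvU hN hW 0) (lvU_mono hN.1 i 0) _
    (span_piM 𝔐 hN hM hV s hs 0)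

include hM in
/-- The relations on a level are the images of the relations. -/
theorem rels_level (hV : IsAffineOpen V) {ι κ : Type*} [Fintype ι]
    (s : ι → RSec hN.1 𝔐 V) (hs : Submodule.span (AV 𝔛 hN.1 V) (Set.range s) = ⊤)
    (R : κ → ι → AV 𝔛 hN.1 V)
    (hR : ∀ a : ι → AV 𝔛 hN.1 V, ∑ j, a j • s j = 0 → a ∈ Submodule.span (AV 𝔛 hN.1 V) (Set.range R))
    (n : ℕ) (a : ι → LV 𝔛 hN.1 n V) (ha : ∑ j, a j • piM hN.1 𝔐 V n (s j) = 0) :
    a ∈ Submodule.span (LV 𝔛 hN.1 n V) (Set.range fun r j => prj 𝔛 hN.1 V n (R r j)) := by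
  classical
  choose a' ha' using fun j => prj_surjective hN hV n (a j)
  have h1 : ∑ j, a' j • s j ∈ LinearMap.ker (piM hN.1 𝔐 V n) := by
    rw [LinearMap.mem_ker, piM_comb]
    simpa only [ha'] using ha
  rw [ker_piM 𝔐 hN hM hV, ← hs, Submodule.mem_ideal_smul_span_iff_exists_sum] at h1
  obtain ⟨b, hb, hbs⟩ := h1
  rw [Finsupp.sum_fintype _ (fun i c => c • s i) fun j => zero_smul _ _] at hbs
  have h2 := hR (fun j => a' j - b j) (by
    simp only [sub_smul, Finset.sum_sub_distrib]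
    rw [hbs, sub_self])
  have e : a = fun j => prj 𝔛 hN.1 V n (a' j - b j) := funext fun j => by
    rw [map_sub, ha', RingHom.mem_ker.1 ((structure_AV hN hV).2.2 n ▸ hb j), sub_zero]
  rw [e]
  have key : ∀ z ∈ Submodule.span (AV 𝔛 hN.1 V) (Set.range R), (fun j => prj 𝔛 hN.1 V n (z j)) ∈
      Submodule.span (LV 𝔛 hN.1 n V) (Set.range fun r j => prj 𝔛 hN.1 V n (R r j)) := fun z hz => by
    induction hz using Submodule.span_induction with
    | mem y hy => obtain ⟨r, rfl⟩ := hy; exact Submodule.subset_span ⟨r, rfl⟩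
    | zero =>
      rw [show (fun j => prj 𝔛 hN.1 V n ((0 : ι → AV 𝔛 hN.1 V) j)) = 0 from funext fun j => map_zero _]
      exact Submodule.zero_mem _
    | add a b _ _ ha hb =>
      rw [show (fun j => prj 𝔛 hN.1 V n ((a + b) j)) =
        (fun j => prj 𝔛 hN.1 V n (a j)) + fun j => prj 𝔛 hN.1 V n (b j) from funext fun j => map_add _ _ _]
      exact Submodule.add_mem _ ha hb
    | smul d a _ ha =>
      rw [show (fun j => prj 𝔛 hN.1 V n ((d • a) j)) = prj 𝔛 hN.1 V n d • fun j => prj 𝔛 hN.1 V n (a j) from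
        funext fun j => map_mul _ _ _]
      exact Submodule.smul_mem _ _ ha
  exact key _ h2

include hM in
/-- Relations over an affine open restrict to relations over smaller affine opens. -/
theorem rels_rS (hV : IsAffineOpen V) (hW : IsAffineOpen W) (i : W ≤ V) {ι κ : Type*} [Fintype ι]
    (s : ι → RSec hN.1 𝔐 V) (hs : Submodule.span (AV 𝔛 hN.1 V) (Set.range s) = ⊤)
    (R : κ → ι → AV 𝔛 hN.1 V)
    (hR : ∀ a : ι → AV 𝔛 hN.1 V, ∑ j, a j • s j = 0 → a ∈ Submodule.span (AV 𝔛 hN.1 V) (Set.range R))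
    (c : ι → AV 𝔛 hN.1 W) (hc : ∑ j, c j • rS hN.1 𝔐 i (s j) = 0) :
    c ∈ Submodule.span (AV 𝔛 hN.1 W) (Set.range fun r j => rA hN.1 i (R r j)) := by
  refine mem_span_of_levels hN hW _ c fun n => ?_
  haveI : Coh.IsQCoh (𝔐.F n) := (hM n).1
  have h3 := rels_mres (𝔐.F n) (isAffineOpen_lvU hN hV n) (isAffineOpen_lvU hN hW n) (lvU_mono hN.1 i n) _ _
    (rels_level 𝔐 hN hM hV s hs R hR n) (fun j => prj 𝔛 hN.1 W n (c j)) (by
      have h4 := congrArg (piM hN.1 𝔐 W n) hc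
      rw [map_zero, piM_comb] at h4
      simpa only [piM_rS] using h4)
  rw [show (fun r j => prj 𝔛 hN.1 W n (rA hN.1 i (R r j))) =
    fun r j => rO (lvU_mono hN.1 i n) (prj 𝔛 hN.1 V n (R r j)) from funext fun r => funext fun j => prj_rA hN.1 i n _]
  exact h3

include hM in
/-- Over an affine open the module of a coherent system has a finite presentation. -/
theorem hasPres_realMod (hV : IsAffineOpen V) : ModFlat16.HasPres (𝔐.realMod hN.1) V := by
  classical
  haveI := (structure_AV hN hV).1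
  haveI := finite_RSec 𝔐 hN hM hV
  obtain ⟨p, s, hs⟩ := Module.Finite.exists_fin (R := AV 𝔛 hN.1 V) (M := RSec hN.1 𝔐 V)
  obtain ⟨q, R, hR⟩ := (Submodule.fg_iff_exists_fin_generating_family (N := LinearMap.ker
    (Fintype.linearCombination (AV 𝔛 hN.1 V) s))).1 (IsNoetherian.noetherian _)
  let s' : ULift.{u} (Fin p) → RSec hN.1 𝔐 V := fun j => s j.down
  let R' : ULift.{u} (Fin q) → ULift.{u} (Fin p) → AV 𝔛 hN.1 V := fun r j => R r.down j.down
  have hs' : Submodule.span (AV 𝔛 hN.1 V) (Set.range s') = ⊤ := by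
    rw [← hs]; congr 1
    exact Equiv.ulift.surjective.range_comp s
  have hR' : ∀ a : ULift.{u} (Fin p) → AV 𝔛 hN.1 V, ∑ j, a j • s' j = 0 →
      a ∈ Submodule.span (AV 𝔛 hN.1 V) (Set.range R') := fun a ha => by
    have h1 : (fun j => a ⟨j⟩) ∈ Submodule.span (AV 𝔛 hN.1 V) (Set.range R) := by
      rw [hR, LinearMap.mem_ker, Fintype.linearCombination_apply]
      exact Eq.trans (Fintype.sum_equiv Equiv.ulift.symm _ (fun j => a j • s' j) fun j => rfl) ha
    have h2 := Submodule.mem_map_of_mem (f := LinearMap.funLeft (AV 𝔛 hN.1 V) _ (Equiv.ulift.{u, 0} : ULift (Fin p) ≃ Fin p)) h1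
    rw [Submodule.map_span, ← Set.range_comp] at h2
    refine Submodule.span_mono ?_ h2
    rintro _ ⟨r, rfl⟩
    exact ⟨⟨r⟩, rfl⟩
  refine ⟨_, _, inferInstance, inferInstance, s', R', ModFlat16.gens_mk _ ?_, ModFlat16.rels_mk _ _ ?_ ?_⟩
  · intro W' k x
    refine ⟨affSieve W', affSieve_mem W', fun W'' l hl => ?_⟩
    obtain ⟨U, hU, hl1, hl2⟩ := hl
    have hUV : U ≤ V := hl2.trans k.le
    have h1 := span_rS 𝔐 hN hM hV hU hUV s' hs'
    obtain ⟨c, hc⟩ := (Submodule.mem_span_range_iff_exists_fun (AV 𝔛 hN.1 U)).1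
      (h1 ▸ (Submodule.mem_top (x := rS hN.1 𝔐 hl2 x)))
    refine ⟨fun j => rA hN.1 hl1 (c j), ?_⟩
    have h2 := congrArg (rS hN.1 𝔐 hl1) hc.symm
    rw [rS_sum, rS_comp] at h2
    refine Eq.trans h2 (Finset.sum_congr rfl fun j _ => congrArg (rA hN.1 hl1 (c j) • ·) ?_)
    exact rS_comp hN.1 𝔐 hUV hl1 (s' j)
  · intro r
    have h1 : R r.down ∈ LinearMap.ker (Fintype.linearCombination (AV 𝔛 hN.1 V) s) :=
      hR ▸ Submodule.subset_span ⟨_, rfl⟩
    rw [LinearMap.mem_ker, Fintype.linearCombination_apply] at h1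
    exact Eq.trans (Fintype.sum_equiv Equiv.ulift _ (fun j => R r.down j • s j) fun j => rfl) h1
  · intro W' k c hc
    refine ⟨affSieve W', affSieve_mem W', fun W'' l hl => ?_⟩
    obtain ⟨U, hU, hl1, hl2⟩ := hl
    have hUV : U ≤ V := hl2.trans k.le
    have h0 : ∑ j, rA hN.1 hl2 (c j) • rS hN.1 𝔐 hUV (s' j) = 0 := by
      have h' := congrArg (rS hN.1 𝔐 hl2) hc
      rw [map_zero, rS_sum] at h'
      refine Eq.trans (Finset.sum_congr rfl fun j _ => ?_) h'
      exact congrArg (rA hN.1 hl2 (c j) • ·) (rS_comp hN.1 𝔐 k.le hl2 (s' j)).symm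
    obtain ⟨d, hd⟩ := (Submodule.mem_span_range_iff_exists_fun (AV 𝔛 hN.1 U)).1
      (rels_rS 𝔐 hN hM hV hU hUV s' hs' R' hR' _ h0)
    refine ⟨fun r => rA hN.1 hl1 (d r), fun j => ?_⟩
    have h' := congrArg (rA hN.1 hl1) (congrFun hd j).symm
    rw [Finset.sum_apply, map_sum, rA_comp] at h'
    refine Eq.trans h' (Finset.sum_congr rfl fun r _ => ?_)
    rw [Pi.smul_apply, smul_eq_mul, map_mul, rA_comp]
    rfl

end Groth.Agent.FormalModH7

namespace Groth.Agent.FormalModH7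

theorem isFinitePresentation_realMod {𝔛 : FSch.Sys.{u}} (𝔐 : FSch.ModSys 𝔛) (hN : 𝔛.IsLocNoethFormal) (hM : 𝔐.IsCoh) :
    SheafOfModules.IsFinitePresentation (R := ModSite.ringSh (𝔛.Osh hN.1)) (𝔐.realMod hN.1) := by
  refine ModFlat16.isFinitePresentation_of_covd fun X => ⟨affSieve X, affSieve_mem X, fun U k hk => ?_⟩
  obtain ⟨U', hU', hle, -⟩ := hk
  exact ModFlat16.HasPres.res (homOfLE hle) (hasPres_realMod 𝔐 hN hM hU')

end Groth.Agent.FormalModH7
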