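import Groth.Agent.Lib.FormalModH7.QColim
import Groth.Agent.Lib.FormalModH7.FreeFP

/-!
# Cokernels of maps of free modules on quasi-compact spaces
-/

set_option autoImplicit false
set_option linter.style.haveILetI false
set_option linter.unusedSectionVars false
set_option backward.isDefEq.respectTransparency false
set_option backward.isDefEq.respectTransparency.types false
universe u

open CategoryTheory CategoryTheory.Limits Opposite TopologicalSpace

namespace Groth.Agent.FormalModH7

open ModFlat16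

variable {X : TopCat.{u}} {O : Sheaf (Opens.grothendieckTopology X) CommRingCat.{u}}

variable (O) in
/-- The free module. -/
noncomputable abbrev Fr (σ : Type u) : ModSite.Mod O := SheafOfModules.free (R := ModSite.ringSh O) σ

/-- The inclusion of a coordinate. -/
noncomputable abbrev gι {σ : Type u} (j : σ) : SheafOfModules.unit (ModSite.ringSh O) ⟶ Fr O σ :=
  SheafOfModules.ιFree (R := ModSite.ringSh O) j

/-- The inclusion of a finite subfree module. -/
noncomputable def fInc {β : Type u} (G : Finset β) : Fr O G ⟶ Fr O β :=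
  Cofan.IsColimit.desc (SheafOfModules.isColimitFreeCofan _) fun j => SheafOfModules.ιFree j.1

/-- The inclusion between finite subfree modules. -/
noncomputable def fIncF {β : Type u} {G G' : Finset β} (h : G ⊆ G') : Fr O G ⟶ Fr O G' :=
  Cofan.IsColimit.desc (SheafOfModules.isColimitFreeCofan _) fun j => SheafOfModules.ιFree (⟨j.1, h j.2⟩ : G')

/-- The projection to a finite subfree module. -/
noncomputable def fRet {β : Type u} [DecidableEq β] (G : Finset β) : Fr O β ⟶ Fr O G :=
  Cofan.IsColimit.desc (SheafOfModules.isColimitFreeCofan _) fun b =>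
    if h : b ∈ G then SheafOfModules.ιFree (⟨b, h⟩ : G) else 0

theorem fr_hom_ext {σ : Type u} {M : ModSite.Mod O} {f g : Fr O σ ⟶ M}
    (h : ∀ j, SheafOfModules.ιFree j ≫ f = SheafOfModules.ιFree j ≫ g) : f = g :=
  Cofan.IsColimit.hom_ext (SheafOfModules.isColimitFreeCofan _) _ _ h

theorem fr_fac {σ : Type u} {M : ModSite.Mod O} (f : σ → (SheafOfModules.unit (ModSite.ringSh O) ⟶ M)) (j : σ) :
    SheafOfModules.ιFree j ≫ Cofan.IsColimit.desc (SheafOfModules.isColimitFreeCofan σ) f = f j :=
  Cofan.IsColimit.fac (SheafOfModules.isColimitFreeCofan σ) _ j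

@[reassoc]
theorem ι_fInc {β : Type u} (G : Finset β) (j : G) :
    SheafOfModules.ιFree j ≫ fInc (O := O) G = SheafOfModules.ιFree j.1 := fr_fac _ j

@[reassoc]
theorem ι_fIncF {β : Type u} {G G' : Finset β} (h : G ⊆ G') (j : G) :
    SheafOfModules.ιFree j ≫ fIncF (O := O) h = SheafOfModules.ιFree (⟨j.1, h j.2⟩ : G') := fr_fac _ j

@[reassoc]
theorem ι_fRet {β : Type u} [DecidableEq β] (G : Finset β) (b : β) :
    SheafOfModules.ιFree b ≫ fRet (O := O) G = if h : b ∈ G then SheafOfModules.ιFree (⟨b, h⟩ : G) else 0 :=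
  fr_fac _ b

@[reassoc]
theorem fInc_fRet {β : Type u} [DecidableEq β] (G : Finset β) : fInc (O := O) G ≫ fRet G = 𝟙 _ :=
  fr_hom_ext fun j => by rw [ι_fInc_assoc, ι_fRet, dif_pos j.2, Category.comp_id]

@[reassoc]
theorem fIncF_fInc {β : Type u} {G G' : Finset β} (h : G ⊆ G') : fIncF (O := O) h ≫ fInc G' = fInc G :=
  fr_hom_ext fun j => by rw [ι_fIncF_assoc, ι_fInc, ι_fInc]

instance {β : Type u} (G : Finset β) : Mono (fInc (O := O) G) := by
  classical
  exact mono_of_mono_fac (fInc_fRet G)

theorem fIncF_comp {β : Type u} {G G' G'' : Finset β} (h : G ⊆ G') (h' : G' ⊆ G'') :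
    fIncF (O := O) h ≫ fIncF h' = fIncF (h.trans h') :=
  (cancel_mono (fInc G'')).1 (by rw [Category.assoc, fIncF_fInc, fIncF_fInc, fIncF_fInc])

theorem fIncF_refl {β : Type u} (G : Finset β) : fIncF (O := O) (subset_refl G) = 𝟙 _ :=
  (cancel_mono (fInc G)).1 (by rw [fIncF_fInc, Category.id_comp])

/-- The finite subfree modules. -/
noncomputable def finFree (β : Type u) : Finset β ⥤ ModSite.Mod O where
  obj G := Fr O G
  map h := fIncF h.le
  map_id G := fIncF_refl G
  map_comp h h' := (fIncF_comp h.le h'.le).symm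

/-- The free module as the union of its finite subfree modules. -/
noncomputable def finFreeCocone (β : Type u) : Cocone (finFree (O := O) β) where
  pt := Fr O β
  ι :=
    { app := fun G => fInc G
      naturality := fun G G' h => (fIncF_fInc h.le).trans (Category.comp_id _).symm }

/-- The free module is the colimit of its finite subfree modules. -/
noncomputable def isColimitFinFree (β : Type u) : IsColimit (finFreeCocone (O := O) β) where
  desc s := Cofan.IsColimit.desc (SheafOfModules.isColimitFreeCofan _) fun b =>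
    SheafOfModules.ιFree (⟨b, Finset.mem_singleton_self b⟩ : ({b} : Finset β)) ≫ s.ι.app {b}
  fac s G := fr_hom_ext fun j => by
    show SheafOfModules.ιFree j ≫ fInc G ≫ _ = _
    rw [ι_fInc_assoc, fr_fac]
    have h : ({j.1} : Finset β) ⊆ G := Finset.singleton_subset_iff.2 j.2
    have h1 : s.ι.app {j.1} = fIncF h ≫ s.ι.app G := (s.w (homOfLE h)).symm
    rw [h1, ι_fIncF_assoc]
  uniq s m hm := fr_hom_ext fun b => by
    rw [fr_fac, ← hm]
    exact (ι_fInc_assoc (O := O) ({b} : Finset β) ⟨b, Finset.mem_singleton_self b⟩ m).symm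

/-- Sections of a module on a space. -/
noncomputable def gSec (M : ModSite.Mod O) : M.sections ≃ ModSite.sect M (⊤ : Opens X) where
  toFun s := s.eval (op (⊤ : Opens X))
  invFun m := PresheafOfModules.sectionsMk (fun Y => M.val.map (homOfLE (le_top : Y.unop ≤ ⊤)).op m) fun Y Z f => by
    have e : (homOfLE (le_top : Z.unop ≤ ⊤)).op = (homOfLE (le_top : Y.unop ≤ ⊤)).op ≫ f :=
      Quiver.Hom.unop_inj (Subsingleton.elim _ _)
    rw [e, PresheafOfModules.map_comp_apply]
  left_inv s := PresheafOfModules.sections_ext _ _ fun Y => PresheafOfModules.sections_property s _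
  right_inv m := by
    show M.val.presheaf.map (homOfLE (le_top : (⊤ : Opens X) ≤ ⊤)).op m = m
    rw [show (homOfLE (le_top : (⊤ : Opens X) ≤ ⊤)).op = 𝟙 _ from Subsingleton.elim _ _, M.val.presheaf.map_id]
    rfl

theorem unit_app_smul (M : ModSite.Mod O) (f : SheafOfModules.unit (ModSite.ringSh O) ⟶ M) (Y : (Opens X)ᵒᵖ)
    (r : (ModSite.ringSh O).obj.obj Y) : f.val.app Y r = r • f.val.app Y (1 : (ModSite.ringSh O).obj.obj Y) := by
  rw [← map_smul]
  exact congrArg (f.val.app Y) (mul_one r).symm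

/-- The map given by a global section. -/
noncomputable def gHom {M : ModSite.Mod O} (m : ModSite.sect M (⊤ : Opens X)) : SheafOfModules.unit (ModSite.ringSh O) ⟶ M :=
  M.unitHomEquiv.symm ((gSec M).symm m)

theorem gHom_app {M : ModSite.Mod O} (m : ModSite.sect M (⊤ : Opens X)) (U : Opens X) (c : O.obj.obj (op U)) :
    (gHom m).val.app (op U) c = (c • smap M (homOfLE le_top) m : ModSite.sect M U) := by
  refine (unit_app_smul M (gHom m) (op U) c).trans (congrArg (c • ·) ?_)
  refine (SheafOfModules.unitHomEquiv_apply_coe M (gHom m) (op U)).symm.trans ?_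
  rw [gHom, Equiv.apply_symm_apply]
  rfl

theorem gHom_of {M : ModSite.Mod O} (f : SheafOfModules.unit (ModSite.ringSh O) ⟶ M) :
    gHom (f.val.app (op (⊤ : Opens X)) (1 : O.obj.obj (op (⊤ : Opens X)))) = f := by
  refine (Equiv.symm_apply_eq _).2 ((gSec M).injective ?_)
  rw [Equiv.apply_symm_apply]
  rfl

theorem gHom_inj {M : ModSite.Mod O} {f g : SheafOfModules.unit (ModSite.ringSh O) ⟶ M}
    (h : f.val.app (op (⊤ : Opens X)) (1 : O.obj.obj (op (⊤ : Opens X))) =
      g.val.app (op (⊤ : Opens X)) (1 : O.obj.obj (op (⊤ : Opens X)))) : f = g := by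
  rw [← gHom_of f, ← gHom_of g, h]

/-- A global element of a free module on a quasi-compact space has finite support. -/
theorem exists_fin_supp [CompactSpace X] {β : Type u} [DecidableEq β]
    (f : SheafOfModules.unit (ModSite.ringSh O) ⟶ Fr O β) :
    ∃ G : Finset β, f ≫ fRet G ≫ fInc G = f := by
  classical
  let s : ModSite.sect (Fr O β) (⊤ : Opens X) := f.val.app (op (⊤ : Opens X)) (1 : O.obj.obj (op (⊤ : Opens X)))
  choose G V hV hxV t ht using fun x : X =>
    exists_local_rep_filt _ _ (isColimitFinFree (O := O) β) (U := ⊤) s (x := x) trivial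
  obtain ⟨T, hT⟩ := isCompact_univ.elim_finite_subcover (fun x => (V x : Set X)) (fun x => (V x).2)
    fun x _ => Set.mem_iUnion.2 ⟨x, hxV x⟩
  refine ⟨T.biUnion G, gHom_inj ?_⟩
  refine sect_ext (Fr O β) (Sieve.generate (Presieve.ofArrows (fun x : T => V x.1) fun x => homOfLE (hV x.1)))
    (fun x _ => ?_) fun W l hl => ?_
  · obtain ⟨y, hy, hxy⟩ := Set.mem_iUnion₂.1 (hT (Set.mem_univ x))
    exact ⟨_, homOfLE (hV y), Sieve.le_generate _ _ _ (Presieve.ofArrows.mk (⟨y, hy⟩ : T)), hxy⟩
  · obtain ⟨W', l₁, l₂, ⟨x⟩, rfl⟩ := hl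
    rw [smap_comp, smap_comp]
    refine congrArg (smap (Fr O β) l₁) ?_
    have h1 : fInc (O := O) (G x.1) ≫ fRet (T.biUnion G) ≫ fInc (T.biUnion G) = fInc (G x.1) := by
      rw [← fIncF_fInc (O := O) (Finset.subset_biUnion_of_mem G x.2), Category.assoc, fInc_fRet_assoc]
    show smap (Fr O β) _ ((f ≫ fRet _ ≫ fInc _).val.app (op (⊤ : Opens X)) (1 : O.obj.obj (op (⊤ : Opens X)))) =
      smap (Fr O β) _ s
    have ht' : (fInc (O := O) (G x.1)).val.app (op (V x.1)) (t x.1) = smap (Fr O β) (homOfLE (hV x.1)) s := ht x.1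
    refine Eq.trans ?_ ht'
    refine (app_smap (fRet (T.biUnion G) ≫ fInc (T.biUnion G)) _ s).symm.trans ?_
    rw [← ht']
    exact congrArg (fun q : Fr O (G x.1) ⟶ Fr O β => q.val.app (op (V x.1)) (t x.1)) h1

/-- The coordinates in a finite free module. -/
theorem fin_total {G : Type u} [Fintype G] [DecidableEq G] {M : ModSite.Mod O} (π : Fr O G ⟶ M) {U : Opens X}
    (z : ModSite.sect (Fr O G) U) :
    ∃ c : G → O.obj.obj (op U), z = ∑ j, (gι (O := O) j).val.app (op U) (c j) := by
  let p : ∀ j : G, Fr O G ⟶ SheafOfModules.unit (ModSite.ringSh O) := fun j =>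
    Cofan.IsColimit.desc (SheafOfModules.isColimitFreeCofan G) fun i => if i = j then 𝟙 _ else 0
  have h : ∑ j, p j ≫ SheafOfModules.ιFree j = 𝟙 (Fr O G) := fr_hom_ext fun i => by
    rw [Preadditive.comp_sum, Finset.sum_eq_single i (fun j _ hj => by rw [reassoc_of% (fr_fac _ i), if_neg (Ne.symm hj), zero_comp])
      (fun h => absurd (Finset.mem_univ i) h), reassoc_of% (fr_fac _ i), if_pos rfl, Category.id_comp, Category.comp_id]
  refine ⟨fun j => (p j).val.app (op U) z, ?_⟩
  have h1 := congrArg (fun q : Fr O G ⟶ Fr O G => q.val.app (op U) z) h.symm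
  refine h1.trans ?_
  have : ∀ S : Finset G, ((∑ j ∈ S, p j ≫ SheafOfModules.ιFree j).val.app (op U)) z =
      ∑ j ∈ S, (gι (O := O) j).val.app (op U) ((p j).val.app (op U) z) := fun S => by
    induction S using Finset.induction_on with
    | empty => rfl
    | @insert i S hi ih =>
      rw [Finset.sum_insert hi, Finset.sum_insert hi, ← ih]
      rfl
  exact this Finset.univ

/-- The map out of a free module given by global sections. -/
noncomputable def gDesc {σ : Type u} {M : ModSite.Mod O} (s : σ → ModSite.sect M (⊤ : Opens X)) : Fr O σ ⟶ M :=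
  Cofan.IsColimit.desc (SheafOfModules.isColimitFreeCofan σ) fun j => gHom (s j)

theorem gDesc_ι {σ : Type u} {M : ModSite.Mod O} (s : σ → ModSite.sect M (⊤ : Opens X)) (j : σ) (U : Opens X)
    (c : O.obj.obj (op U)) :
    (gDesc s).val.app (op U) ((gι (O := O) j).val.app (op U) c) = (c • smap M (homOfLE le_top) (s j) : ModSite.sect M U) := by
  refine (congrArg (fun q : SheafOfModules.unit (ModSite.ringSh O) ⟶ M => q.val.app (op U) c) (fr_fac _ j)).trans ?_
  exact gHom_app _ _ _

theorem epi_gDesc {σ : Type u} {M : ModSite.Mod O} {s : σ → ModSite.sect M (⊤ : Opens X)} (hs : GenF M ⊤ s) :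
    Epi (gDesc s) := by
  refine epi_of_locally _ fun V y => ?_
  obtain ⟨S, hS, h⟩ := hs (homOfLE le_top) y
  refine ⟨S, hS, fun W l hl => ?_⟩
  obtain ⟨F, c, hc⟩ := h l hl
  refine ⟨∑ j ∈ F, (gι (O := O) j).val.app (op W) (c j), ?_⟩
  rw [hc, map_sum]
  exact Finset.sum_congr rfl fun j _ => gDesc_ι s j W (c j)

/-- A global presentation. -/
theorem exists_coker_free [CompactSpace X] {σ : Type u} {M : ModSite.Mod O} {s : σ → ModSite.sect M (⊤ : Opens X)}
    (hs : GenF M ⊤ s) (hr : RelF M ⊤ s) : ∃ (α : Type u) (φ : Fr O α ⟶ Fr O σ), Nonempty (cokernel φ ≅ M) := by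
  classical
  haveI := epi_gDesc hs
  let K := kernel (gDesc s)
  let g : ModSite.sect K (⊤ : Opens X) → ModSite.sect K (⊤ : Opens X) := fun w => w
  haveI : Epi (gDesc g) := by
    refine epi_of_locally _ fun V y => ?_
    let S : Sieve V :=
      { arrows := fun W l => ∃ (G : Finset σ) (t : ModSite.sect (Fr O G) W),
          (fInc G).val.app (op W) t = smap (Fr O σ) l ((kernel.ι (gDesc s)).val.app (op V) y)
        downward_closed := by
          rintro W₁ W₂ l ⟨G, t, ht⟩ g'
          exact ⟨G, smap (Fr O G) g' t, by rw [app_smap, ht, smap_comp]⟩ }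
    refine bind_cover S (fun x hx => ?_) fun W l hl => ?_
    · obtain ⟨G, W, hW, hxW, t, ht⟩ := exists_local_rep_filt _ _ (isColimitFinFree (O := O) σ)
        (U := V) ((kernel.ι (gDesc s)).val.app (op V) y) hx
      exact ⟨W, homOfLE hW, ⟨G, t, ht⟩, hxW⟩
    · obtain ⟨G, t, ht⟩ := hl
      obtain ⟨c, hc⟩ := fin_total (gDesc fun j : G => s j.1) t
      have e : ∀ (j : G) (U : Opens X) (b : O.obj.obj (op U)), (fInc G).val.app (op U) ((gι (O := O) j).val.app (op U) b) =
          (gι (O := O) j.1).val.app (op U) b := fun j U b =>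
        congrArg (fun q : SheafOfModules.unit (ModSite.ringSh O) ⟶ Fr O σ => q.val.app (op U) b) (ι_fInc G j)
      rw [hc, map_sum] at ht
      simp only [e] at ht
      let c' : σ → O.obj.obj (op W) := fun j => if h : j ∈ G then c ⟨j, h⟩ else 0
      have ht' : ∑ j ∈ G, (gι (O := O) j).val.app (op W) (c' j) =
          smap (Fr O σ) l ((kernel.ι (gDesc s)).val.app (op V) y) := by
        rw [← ht, ← Finset.sum_coe_sort G (fun j => (gι (O := O) j).val.app (op W) (c' j))]
        exact Finset.sum_congr rfl fun j _ => by simp only [c', dif_pos j.2]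
      have h0 : ∑ j ∈ G, c' j • smap M (homOfLE (le_top : W ≤ ⊤)) (s j) = 0 := by
        refine Eq.trans ?_ ((congrArg ((gDesc s).val.app (op W)) ht').trans ?_)
        · rw [map_sum]
          exact Finset.sum_congr rfl fun j _ => (gDesc_ι s j W (c' j)).symm
        · rw [app_smap, cond_apply _ _ (kernel.condition (gDesc s)), map_zero]
      obtain ⟨T, hT, h'⟩ := hr (homOfLE le_top) G c' h0
      refine ⟨T, hT, fun W₂ l₂ hl₂ => ?_⟩
      obtain ⟨κ, hκ, G', a, e', hG, ha, he⟩ := h' l₂ hl₂
      choose w hw using fun q => exists_mod_kernel_section (gDesc s)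
        (∑ j ∈ G', (gι (O := O) j).val.app (op (⊤ : Opens X)) (a q j)) (by
          rw [map_sum]
          refine Eq.trans (Finset.sum_congr rfl fun j _ => ?_) (ha q)
          exact (gDesc_ι s j ⊤ (a q j)).trans (congrArg (a q j • ·) (smap_id _)))
      refine ⟨∑ q, (gι (O := O) (w q)).val.app (op W₂) (e' q), sections_injective' (kernel.ι (gDesc s)) W₂ ?_⟩
      rw [map_sum, map_sum, app_smap, smap_comp, ← ht', map_sum]
      refine Eq.trans (Finset.sum_congr rfl fun q _ => ?_) (?_ : ∑ q, ∑ j ∈ G',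
        (gι (O := O) j).val.app (op W₂) (e' q * rmap O (l₂ ≫ homOfLE le_top) (a q j)) = _)
      · show (kernel.ι (gDesc s)).val.app (op W₂) ((gDesc g).val.app (op W₂) ((gι (O := O) (w q)).val.app (op W₂) (e' q))) = _
        rw [gDesc_ι, map_smul, app_smap]
        show e' q • smap (Fr O σ) _ ((kernel.ι (gDesc s)).val.app (op (⊤ : Opens X)) (w q)) = _
        rw [hw, map_sum, Finset.smul_sum]
        refine Finset.sum_congr rfl fun j _ => ?_
        rw [← app_smap]
        exact ((SheafOfModules.ιFree (R := ModSite.ringSh O) j).val.app (op W₂)).hom.map_smul (e' q)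
          (rmap O (homOfLE le_top) (a q j)) |>.symm
      · rw [Finset.sum_comm]
        refine Eq.trans (Finset.sum_congr rfl fun j hj => ?_) (Finset.sum_subset hG fun j _ hj => ?_).symm
        · rw [← map_sum, ← he j hj, ← app_smap]
          refine congrArg ((gι (O := O) j).val.app (op W₂)) ?_
          split_ifs with h
          · rfl
          · rw [show c' j = 0 from dif_neg h]
            exact (map_zero _).symm
        · rw [show c' j = 0 from dif_neg hj, map_zero]
          exact map_zero _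
  refine ⟨_, gDesc g ≫ kernel.ι (gDesc s), ⟨?_⟩⟩
  exact cokernelEpiComp _ _ ≪≫ IsColimit.coconePointUniqueUpToIso (cokernelIsCokernel _)
    (Abelian.epiIsCokernelOfKernel _ (kernelIsKernel (gDesc s)))

section Pairs

variable {α β : Type u} [DecidableEq β] (φ : Fr O α ⟶ Fr O β)

/-- Finite parts of a map of free modules. -/
abbrev Part : Type u := {p : Finset α × Finset β // fInc p.1 ≫ φ ≫ fRet p.2 ≫ fInc p.2 = fInc p.1 ≫ φ}

/-- The part of the map. -/
noncomputable abbrev pMap (p : Part φ) : Fr O p.1.1 ⟶ Fr O p.1.2 := fInc p.1.1 ≫ φ ≫ fRet p.1.2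

theorem pMap_fInc (p : Part φ) : pMap φ p ≫ fInc p.1.2 = fInc p.1.1 ≫ φ := by
  simpa only [Category.assoc] using p.2

theorem pMap_w {p q : Part φ} (h : p ≤ q) : pMap φ p ≫ fIncF h.2 = fIncF h.1 ≫ pMap φ q :=
  (cancel_mono (fInc q.1.2)).1 (by
    rw [Category.assoc, fIncF_fInc, pMap_fInc, Category.assoc, pMap_fInc, fIncF_fInc_assoc])

/-- The diagram of cokernels of finite parts. -/
noncomputable def partFunctor : Part φ ⥤ ModSite.Mod O where
  obj p := cokernel (pMap φ p)
  map {p q} h := cokernel.map _ _ (fIncF h.le.1) (fIncF h.le.2) (pMap_w φ h.le)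
  map_id p := by
    apply coequalizer.hom_ext
    simp only [cokernel.π_desc, fIncF_refl, Category.id_comp, Category.comp_id]
  map_comp {p q r} h h' := by
    apply coequalizer.hom_ext
    simp only [cokernel.π_desc, cokernel.π_desc_assoc, Category.assoc, ← fIncF_comp (O := O) h.le.2 h'.le.2]

/-- The cocone of finite parts. -/
noncomputable def partCocone : Cocone (partFunctor φ) where
  pt := cokernel φ
  ι :=
    { app := fun p => cokernel.map _ _ (fInc p.1.1) (fInc p.1.2) (pMap_fInc φ p)
      naturality := fun p q h => by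
        refine Eq.trans ?_ (Category.comp_id _).symm
        apply coequalizer.hom_ext
        dsimp only [partFunctor, cokernel.map]
        simp only [cokernel.π_desc, cokernel.π_desc_assoc, Category.assoc, fIncF_fInc_assoc] }

variable {φ}

theorem exists_part [CompactSpace X] (F : Finset α) (G : Finset β) : ∃ p : Part φ, F ⊆ p.1.1 ∧ G ⊆ p.1.2 := by
  classical
  choose H hH using fun a : α => exists_fin_supp (SheafOfModules.ιFree a ≫ φ)
  refine ⟨⟨(F, G ∪ F.biUnion H), fr_hom_ext fun j => ?_⟩, subset_rfl, Finset.subset_union_left⟩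
  have h : H j.1 ⊆ G ∪ F.biUnion H :=
    (Finset.subset_biUnion_of_mem H j.2).trans Finset.subset_union_right
  rw [ι_fInc_assoc, ι_fInc_assoc]
  calc SheafOfModules.ιFree j.1 ≫ φ ≫ fRet (G ∪ F.biUnion H) ≫ fInc (G ∪ F.biUnion H)
      = ((SheafOfModules.ιFree j.1 ≫ φ) ≫ fRet (H j.1) ≫ fInc (H j.1)) ≫ fRet (G ∪ F.biUnion H) ≫
          fInc (G ∪ F.biUnion H) := by rw [hH j.1, Category.assoc]
    _ = SheafOfModules.ιFree j.1 ≫ φ := by
      rw [← fIncF_fInc (O := O) h]
      simp only [Category.assoc, fInc_fRet_assoc]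
      rw [fIncF_fInc]
      simpa only [Category.assoc] using hH j.1

/-- The components of a cocone on the finite parts agree. -/
theorem desc_key [CompactSpace X] (s : Cocone (partFunctor φ)) (P : β → Part φ) (hP : ∀ b, b ∈ (P b).1.2) (p : Part φ) :
    fInc p.1.2 ≫ Cofan.IsColimit.desc (SheafOfModules.isColimitFreeCofan β)
        (fun b => SheafOfModules.ιFree (⟨b, hP b⟩ : (P b).1.2) ≫ cokernel.π _ ≫ s.ι.app (P b)) =
      cokernel.π _ ≫ s.ι.app p := by
  classical
  refine fr_hom_ext fun j => ?_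
  obtain ⟨q, hq₁, hq₂⟩ := exists_part (φ := φ) (p.1.1 ∪ (P j.1).1.1) (p.1.2 ∪ (P j.1).1.2)
  have h1 : p ≤ q := ⟨Finset.subset_union_left.trans hq₁, Finset.subset_union_left.trans hq₂⟩
  have h2 : P j.1 ≤ q := ⟨Finset.subset_union_right.trans hq₁, Finset.subset_union_right.trans hq₂⟩
  rw [ι_fInc_assoc, fr_fac, ← s.w (homOfLE h1), ← s.w (homOfLE h2)]
  dsimp only [partFunctor, cokernel.map]
  rw [cokernel.π_desc_assoc, cokernel.π_desc_assoc, Category.assoc, Category.assoc, ι_fIncF_assoc, ι_fIncF_assoc]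

/-- The cokernel is the colimit of the cokernels of the finite parts. -/
theorem isColimit_part [CompactSpace X] : Nonempty (IsColimit (partCocone φ)) := by
  classical
  choose P hP₁ hP₂ using fun b : β => exists_part (φ := φ) ∅ {b}
  refine ⟨IsColimit.mk (fun s => cokernel.desc φ (Cofan.IsColimit.desc (SheafOfModules.isColimitFreeCofan β) fun b =>
    SheafOfModules.ιFree (⟨b, hP₂ b (Finset.mem_singleton_self b)⟩ : (P b).1.2) ≫ cokernel.π _ ≫ s.ι.app (P b)) ?_) ?_ ?_⟩
  · have key := desc_key s P (fun b => hP₂ b (Finset.mem_singleton_self b))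
    refine fr_hom_ext fun a => ?_
    obtain ⟨p, hp, -⟩ := exists_part (φ := φ) {a} ∅
    rw [comp_zero, ← ι_fInc_assoc p.1.1 ⟨a, hp (Finset.mem_singleton_self a)⟩, ← Category.assoc (fInc p.1.1),
      ← pMap_fInc φ p, Category.assoc, key p, ← Category.assoc (pMap φ p), cokernel.condition, zero_comp, comp_zero]
  · intro s p
    apply coequalizer.hom_ext
    dsimp only [partCocone, cokernel.map]
    rw [cokernel.π_desc_assoc, Category.assoc, cokernel.π_desc]
    exact desc_key s P _ p
  · intro s m hm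
    apply coequalizer.hom_ext
    show cokernel.π _ ≫ m = cokernel.π _ ≫ cokernel.desc _ _ _
    rw [cokernel.π_desc]
    refine fr_hom_ext fun b => ?_
    rw [fr_fac, ← hm (P b)]
    dsimp only [partCocone, cokernel.map]
    rw [cokernel.π_desc_assoc, Category.assoc, ι_fInc_assoc]

end Pairs

end Groth.Agent.FormalModH7
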