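import Groth.Agent.Lib.FormalModH7.Ring
import Groth.Agent.Lib.FormalModH7.ClosedSec
import Groth.Agent.Lib.AdicLimH7.Basic

/-!
# Sections of the module of a system over an affine open
-/

set_option autoImplicit false
set_option backward.isDefEq.respectTransparency false
universe u

open CategoryTheory CategoryTheory.Limits AlgebraicGeometry Opposite TopologicalSpace

namespace Groth.Agent.FormalModH7

variable {𝔛 : FSch.Sys.{u}} (h : 𝔛.IsFormal) (𝔐 : FSch.ModSys 𝔛) (V : (𝔛.X 0).Opens)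

/-- Sections of a level of the system. -/
abbrev MV (n : ℕ) : Type u := Γ(𝔐.F n, 𝔛.lvU h n V)

/-- Sections of the module of the system. -/
abbrev RSec : Type u := ((𝔐.realMod h).val.obj (op V) : Type u)

noncomputable instance moduleRSec : Module (AV 𝔛 h V) (RSec h 𝔐 V) :=
  inferInstanceAs (Module ((ModSite.ringSh (𝔛.Osh h)).obj.obj (op V)) ((𝔐.realMod h).val.obj (op V)))

noncomputable instance moduleMV (n : ℕ) : Module (AV 𝔛 h V) (MV h 𝔐 V n) :=
  Module.compHom _ (prj 𝔛 h V n)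

theorem smul_MV (n : ℕ) (a : AV 𝔛 h V) (m : MV h 𝔐 V n) : a • m = prj 𝔛 h V n a • m := rfl

/-- The transition map. -/
noncomputable def trM (n : ℕ) : MV h 𝔐 V (n + 1) →ₗ[AV 𝔛 h V] MV h 𝔐 V n where
  toFun s := (𝔐.e n).hom.app (𝔛.lvU h n V)
    (ModLimH13.res' (𝔛.ι n) (𝔐.F (n + 1)) (𝔛.lvU_le h n V) s)
  map_add' s t := by rw [ModLimH13.res'_add, map_add]
  map_smul' a s := by
    rw [smul_MV, ModLimH13.res'_smul, Scheme.Modules.Hom.app_smul, RingHom.id_apply, smul_MV]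
    exact congrArg (· • _) (tr_prj 𝔛 h V n a)

/-- The projection. -/
noncomputable def piM (n : ℕ) : RSec h 𝔐 V →ₗ[AV 𝔛 h V] MV h 𝔐 V n where
  toFun s := ((FSch.realProj 𝔛 h 𝔐.F 𝔐.toPush n).val.app (op V)).hom s
  map_add' s t := map_add _ s t
  map_smul' a s := ((FSch.realProj 𝔛 h 𝔐.F 𝔐.toPush n).val.app (op V)).hom.map_smul a s

theorem levelSys_app (n : ℕ) (s : MV h 𝔐 V (n + 1)) :
    (((FSch.levelSysOf 𝔛 h 𝔐.F 𝔐.toPush).map (homOfLE (Nat.le_add_right n 1)).op).val.app (op V)).hom s =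
      trM h 𝔐 V n s := by
  rw [FSch.levelSysOf_map_succ]
  change M1.mres _ (𝔛.lvU_le h n V) ((𝔐.toPush n).app (𝔛.lvU h (n + 1) V) s) = _
  rw [FSch.ModSys.toPush, Adjunction.homEquiv_unit]
  exact M1.app_mres (𝔐.e n).hom _ _ |>.symm

theorem trM_piM (n : ℕ) (s : RSec h 𝔐 V) : trM h 𝔐 V n (piM h 𝔐 V (n + 1) s) = piM h 𝔐 V n s := by
  rw [← levelSys_app]
  exact congrArg (fun φ : 𝔐.realMod h ⟶ _ => (φ.val.app (op V)).hom s)
    (limit.w (FSch.levelSysOf 𝔛 h 𝔐.F 𝔐.toPush) (homOfLE (Nat.le_add_right n 1)).op)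

/-- The sections functor to types. -/
noncomputable abbrev evT : FSch.ModF 𝔛 h ⥤ Type u :=
  SheafOfModules.evaluation (ModSite.ringSh (𝔛.Osh h)) (op V) ⋙ forget _

theorem piM_ext {s : RSec h 𝔐 V} (hs : ∀ n, piM h 𝔐 V n s = 0) : s = 0 := by
  have hlim := isLimitOfPreserves (evT h V) (limit.isLimit (FSch.levelSysOf 𝔛 h 𝔐.F 𝔐.toPush))
  apply (Types.isLimitEquivSections hlim).injective
  refine Subtype.ext (funext fun n => ?_)
  refine (Types.isLimitEquivSections_apply hlim n s).trans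
    (Eq.trans ?_ (Types.isLimitEquivSections_apply hlim n (0 : RSec h 𝔐 V)).symm)
  exact (hs n.unop).trans (map_zero (piM h 𝔐 V n.unop)).symm

theorem exists_piM (y : ∀ n, MV h 𝔐 V n) (hy : ∀ n, trM h 𝔐 V n (y (n + 1)) = y n) :
    ∃ s : RSec h 𝔐 V, ∀ n, piM h 𝔐 V n s = y n := by
  have hlim := isLimitOfPreserves (evT h V) (limit.isLimit (FSch.levelSysOf 𝔛 h 𝔐.F 𝔐.toPush))
  let F := FSch.levelSysOf 𝔛 h 𝔐.F 𝔐.toPush ⋙ evT h V
  let y' : ∀ n, F.obj (op n) := y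
  have key : ∀ (a b : ℕ) (e : a ≤ b), F.map (homOfLE e).op (y' b) = y' a := fun a b e => by
    induction b, e using Nat.le_induction with
    | base => simp
    | succ b e ih =>
      refine Eq.trans ?_ ((congrArg (F.map (homOfLE e).op) ((levelSys_app h 𝔐 V b (y (b + 1))).trans (hy b))).trans ih)
      exact FunctorToTypes.map_comp_apply F (homOfLE (Nat.le_succ b)).op (homOfLE e).op (y' (b + 1))
  let sec : F.sections := ⟨fun n => y' n.unop, fun {a b} f => by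
    rw [show f = (homOfLE f.unop.le).op from Subsingleton.elim _ _]
    exact key _ _ _⟩
  exact ⟨(Types.isLimitEquivSections hlim).symm sec, fun n => Types.isLimitEquivSections_symm_apply hlim sec (op n)⟩

variable (hN : 𝔛.IsLocNoethFormal) (hM : 𝔐.IsCoh) {V}

theorem pow_defIdeal_smul_top (hV : IsAffineOpen V) (n m : ℕ) (s : MV hN.1 𝔐 V m) :
    s ∈ defIdeal 𝔛 hN.1 V ^ n • (⊤ : Submodule (AV 𝔛 hN.1 V) (MV hN.1 𝔐 V m)) ↔
      s ∈ (defIdeal 𝔛 hN.1 V ^ n).map (prj 𝔛 hN.1 V m) • (⊤ : Submodule (LV 𝔛 hN.1 m V) (MV hN.1 𝔐 V m)) := by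
  constructor
  · intro hs
    refine Submodule.smul_induction_on hs (fun r hr x _ => ?_) fun a b ha hb => add_mem ha hb
    exact Submodule.smul_mem_smul (Ideal.mem_map_of_mem _ hr) Submodule.mem_top
  · intro hs
    refine Submodule.smul_induction_on hs (fun r hr x _ => ?_) fun a b ha hb => add_mem ha hb
    obtain ⟨a, ha, rfl⟩ := (Ideal.mem_map_iff_of_surjective _ (prj_surjective hN hV m)).1 hr
    exact Submodule.smul_mem_smul (M := MV hN.1 𝔐 V m) ha Submodule.mem_top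

theorem map_defIdeal (hV : IsAffineOpen V) (n : ℕ) :
    (defIdeal 𝔛 hN.1 V).map (prj 𝔛 hN.1 V n) = RingHom.ker (low hN.1 V n) := by
  have : defIdeal 𝔛 hN.1 V = (RingHom.ker (low hN.1 V n)).comap (prj 𝔛 hN.1 V n) := by
    ext x
    rw [defIdeal, RingHom.mem_ker, Ideal.mem_comap, RingHom.mem_ker, low_prj]
  rw [this, Ideal.map_comap_of_surjective _ (prj_surjective hN hV n)]

include hM in
theorem trM_spec (hV : IsAffineOpen V) (n : ℕ) :
    Function.Surjective (trM hN.1 𝔐 V n) ∧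
      LinearMap.ker (trM hN.1 𝔐 V n) = defIdeal 𝔛 hN.1 V ^ (n + 1) • ⊤ := by
  haveI : Coh.IsQCoh (𝔐.F (n + 1)) := (hM (n + 1)).1
  have hb : Function.Bijective ((𝔐.e n).hom.app (𝔛.lvU hN.1 n V)) :=
    ConcreteCategory.bijective_of_isIso _
  have hs := tr_surjective hN hV n
  refine ⟨hb.2.comp (res'_surjective _ _ _ (isAffineOpen_lvU hN hV _) (isAffineOpen_lvU hN hV _) hs), ?_⟩
  ext s
  rw [LinearMap.mem_ker, pow_defIdeal_smul_top 𝔐 hN hV, Ideal.map_pow, map_defIdeal hN hV, ← ker_tr hN hV]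
  refine Iff.trans ?_ (res'_eq_zero_iff _ _ _ (isAffineOpen_lvU hN hV _) (isAffineOpen_lvU hN hV _) hs s)
  exact ⟨fun hh => hb.1 (hh.trans (map_zero _).symm), fun hh => by
    show ((𝔐.e n).hom.app (𝔛.lvU hN.1 n V)).hom _ = 0
    rw [hh, map_zero]⟩

include hM in
/-- The sections over an affine open form an adic system. -/
theorem sysM (hV : IsAffineOpen V) :
    AdicLimH7.Sys (defIdeal 𝔛 hN.1 V) (MV hN.1 𝔐 V) (trM hN.1 𝔐 V) (RSec hN.1 𝔐 V) (piM hN.1 𝔐 V) :=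
  ⟨fun n => (trM_spec 𝔐 hN hM hV n).1, fun n => (trM_spec 𝔐 hN hM hV n).2,
    fun n => LinearMap.ext fun s => trM_piM hN.1 𝔐 V n s, fun _ hx => piM_ext hN.1 𝔐 V hx,
    fun y hy => exists_piM hN.1 𝔐 V y hy⟩

include hN in
theorem fg_defIdeal (hV : IsAffineOpen V) : (defIdeal 𝔛 hN.1 V).FG :=
  haveI := (structure_AV hN hV).1
  IsNoetherian.noetherian _

include hM in
theorem piM_surjective (hV : IsAffineOpen V) (n : ℕ) : Function.Surjective (piM hN.1 𝔐 V n) :=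
  (sysM 𝔐 hN hM hV).surjective n

include hM in
theorem ker_piM (hV : IsAffineOpen V) (n : ℕ) :
    LinearMap.ker (piM hN.1 𝔐 V n) = defIdeal 𝔛 hN.1 V ^ (n + 1) • ⊤ :=
  (sysM 𝔐 hN hM hV).ker_eq (fg_defIdeal hN hV) n

end Groth.Agent.FormalModH7
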