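import Groth.Prelude.Def_FSch6
import Groth.Agent.Lib.FormalModH7.Gens
import Groth.Agent.Lib.FormalModH7.PullElts
import Groth.Agent.Lib.FormalModH7.IsoPres
import Groth.Agent.Lib.FormalModH7.Lvl
import Groth.Agent.Lib.ModLimH13.Sections
import Groth.Agent.Lib.ModM1.Pull
import Mathlib.LinearAlgebra.TensorProduct.Vanishing

/-!
# The module of an inverse image system
-/

set_option autoImplicit false
set_option linter.style.haveILetI false
set_option backward.isDefEq.respectTransparency false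
set_option backward.isDefEq.respectTransparency.types false
universe u

open CategoryTheory CategoryTheory.Limits AlgebraicGeometry Opposite TopologicalSpace

noncomputable section

namespace Groth.Agent.FormalModH7

theorem res'_zero' {X X' : Scheme.{u}} (g : X' ⟶ X) (M : X.Modules) {W : X.Opens} {W' : X'.Opens} (e : W' ≤ g ⁻¹ᵁ W) :
    ModLimH13.res' g M e 0 = 0 := by
  have := ModLimH13.res'_add g M e 0 0
  rw [add_zero] at this
  exact add_eq_left.1 this.symm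

theorem map_mem_span' {A B ι κ : Type*} [CommRing A] [CommRing B] (f : A →+* B) (R : κ → ι → A) {z : ι → A}
    (hz : z ∈ Submodule.span A (Set.range R)) :
    (fun i => f (z i)) ∈ Submodule.span B (Set.range fun r i => f (R r i)) := by
  induction hz using Submodule.span_induction with
  | mem y hy =>
    obtain ⟨r, rfl⟩ := hy
    exact Submodule.subset_span ⟨r, rfl⟩
  | zero => simp only [Pi.zero_apply, map_zero]; exact Submodule.zero_mem _
  | add p q _ _ hp hq => simp only [Pi.add_apply, map_add]; exact Submodule.add_mem _ hp hq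
  | smul d p _ hp =>
    simp only [Pi.smul_apply, smul_eq_mul, map_mul]
    exact Submodule.smul_mem _ (f d) hp

variable {𝔛 𝔜 : FSch.Sys.{u}} (f : 𝔛 ⟶ 𝔜) (hX : 𝔛.IsFormal) (hY : 𝔜.IsFormal) (𝔐 : FSch.ModSys 𝔜)

/-- The map of a level. -/
abbrev gk (k : ℕ) : 𝔛.X k ⟶ 𝔜.X k := (f : FSch.Hom 𝔛 𝔜).app k

/-- The preimage of an open of the common space. -/
abbrev preU (U : (𝔜.X 0).Opens) : (𝔛.X 0).Opens := gk f 0 ⁻¹ᵁ U

include f in
theorem lvU_pre (k : ℕ) (U : (𝔜.X 0).Opens) : 𝔛.lvU hX k (preU f U) ≤ gk f k ⁻¹ᵁ 𝔜.lvU hY k U :=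
  (FSch.Hom.lvU_preimage f hX hY k U).ge

/-- The map to a level of the inverse image. -/
def compK (k : ℕ) : 𝔐.realMod hY ⟶
    (FSch.pushF f hX hY).obj ((FSch.levelMor 𝔛 hX k).push.obj ((FSch.ModSys.pullback f 𝔐).F k)) :=
  FSch.realProj 𝔜 hY 𝔐.F 𝔐.toPush k ≫
    (FSch.levelMor 𝔜 hY k).push.map ((ModSite.RMor.ofScheme (gk f k)).adj.unit.app (𝔐.F k)) ≫
      (FSch.lvPushSq f hX hY k).inv.app ((FSch.ModSys.pullback f 𝔐).F k)

theorem compK_app (k : ℕ) (U : (𝔜.X 0).Opens) (x : RSec hY 𝔐 U) :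
    ((compK f hX hY 𝔐 k).val.app (op U)).hom x =
      ModLimH13.res' (gk f k) (𝔐.F k) (lvU_pre f hX hY k U) (piM hY 𝔐 U k x) := by
  rfl

/-- The value at a level of the transition map on an inverse image. -/
theorem trM_pullback (k : ℕ) (U : (𝔜.X 0).Opens) (m : MV hY 𝔐 U (k + 1)) :
    trM hX (FSch.ModSys.pullback f 𝔐) (preU f U) k
        (ModLimH13.res' (gk f (k + 1)) (𝔐.F (k + 1)) (lvU_pre f hX hY (k + 1) U) m) =
      ModLimH13.res' (gk f k) (𝔐.F k) (lvU_pre f hX hY k U) (trM hY 𝔐 U k m) := by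
  show ((FSch.ModSys.pullTrans f k (𝔐.F (k + 1))).hom ≫
      (Scheme.Modules.pullback (gk f k)).map (𝔐.e k).hom).app _
        (ModLimH13.res' (𝔛.ι k) _ (𝔛.lvU_le hX k (preU f U))
          (ModLimH13.res' (gk f (k + 1)) (𝔐.F (k + 1)) (lvU_pre f hX hY (k + 1) U) m)) = _
  have h1 := ModLimH13.cmp_res' (𝔛.ι k) (gk f (k + 1)) (𝔐.F (k + 1)) ((f : FSch.Hom 𝔛 𝔜).comm k).symm
    (lvU_pre f hX hY (k + 1) U) (𝔛.lvU_le hX k (preU f U)) m
  have h2 := ModLimH13.cmp_res' (gk f k) (𝔜.ι k) (𝔐.F (k + 1)) rfl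
    (𝔜.lvU_le hY k U) (lvU_pre f hX hY k U) m
  have h3 : (FSch.ModSys.pullTrans f k (𝔐.F (k + 1))).hom.app (𝔛.lvU hX k (preU f U))
      (ModLimH13.res' (𝔛.ι k) _ (𝔛.lvU_le hX k (preU f U))
        (ModLimH13.res' (gk f (k + 1)) (𝔐.F (k + 1)) (lvU_pre f hX hY (k + 1) U) m)) =
      ModLimH13.res' (gk f k) _ (lvU_pre f hX hY k U) (ModLimH13.res' (𝔜.ι k) _ (𝔜.lvU_le hY k U) m) := by
    have h4 := h1.trans h2.symm
    have h5 := congrArg (fun z => (((ModLimH13.cmp (gk f k) (𝔜.ι k) rfl).inv.app (𝔐.F (k + 1))).app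
      (𝔛.lvU hX k (preU f U))) z) h4
    have h6 := congrArg (fun φ => φ.app (𝔛.lvU hX k (preU f U))
      (ModLimH13.res' (gk f k) _ (lvU_pre f hX hY k U) (ModLimH13.res' (𝔜.ι k) (𝔐.F (k + 1)) (𝔜.lvU_le hY k U) m)))
      ((ModLimH13.cmp (gk f k) (𝔜.ι k) rfl).hom_inv_id_app (𝔐.F (k + 1)))
    refine Eq.trans ?_ (h5.trans h6)
    rfl
  refine Eq.trans ?_ (ModLimH13.map_res' (gk f k) _ (lvU_pre f hX hY k U) (𝔐.e k).hom
    (ModLimH13.res' (𝔜.ι k) (𝔐.F (k + 1)) (𝔜.lvU_le hY k U) m))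
  exact congrArg _ h3

theorem compK_compat (k : ℕ) :
    compK f hX hY 𝔐 (k + 1) ≫ (FSch.pushF f hX hY).map
        ((FSch.levelSysOf 𝔛 hX (FSch.ModSys.pullback f 𝔐).F (FSch.ModSys.pullback f 𝔐).toPush).map
          (homOfLE (Nat.le_add_right k 1)).op) = compK f hX hY 𝔐 k := by
  apply SheafOfModules.hom_ext
  refine PresheafOfModules.hom_ext fun U => ?_
  obtain ⟨U, rfl⟩ : ∃ B, op B = U := ⟨U.unop, rfl⟩
  refine ModuleCat.hom_ext (LinearMap.ext fun x => ?_)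
  have h1 := (levelSys_app hX (FSch.ModSys.pullback f 𝔐) (preU f U) k _).trans
    ((congrArg (trM hX (FSch.ModSys.pullback f 𝔐) (preU f U) k) (compK_app f hX hY 𝔐 (k + 1) U x)).trans
      (trM_pullback f hX hY 𝔐 k U _))
  rw [trM_piM] at h1
  exact h1.trans (compK_app f hX hY 𝔐 k U x).symm

/-- The transposed map to a level. -/
def alphaK (k : ℕ) : (FSch.pullF f hX hY).obj (𝔐.realMod hY) ⟶
    (FSch.levelMor 𝔛 hX k).push.obj ((FSch.ModSys.pullback f 𝔐).F k) :=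
  ((FSch.homMor f hX hY).adj.homEquiv _ _).symm (compK f hX hY 𝔐 k)

theorem alphaK_compat (k : ℕ) :
    alphaK f hX hY 𝔐 (k + 1) ≫
        (FSch.levelSysOf 𝔛 hX (FSch.ModSys.pullback f 𝔐).F (FSch.ModSys.pullback f 𝔐).toPush).map
          (homOfLE (Nat.le_add_right k 1)).op = alphaK f hX hY 𝔐 k :=
  (Adjunction.homEquiv_naturality_right_symm (FSch.homMor f hX hY).adj (compK f hX hY 𝔐 (k + 1))
    ((FSch.levelSysOf 𝔛 hX (FSch.ModSys.pullback f 𝔐).F (FSch.ModSys.pullback f 𝔐).toPush).map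
      (homOfLE (Nat.le_add_right k 1)).op)).symm.trans
    (congrArg ((FSch.homMor f hX hY).adj.homEquiv _ _).symm (compK_compat f hX hY 𝔐 k))

/-- The comparison of the module of the inverse image. -/
def pullCmp : (FSch.pullF f hX hY).obj (𝔐.realMod hY) ⟶ (FSch.ModSys.pullback f 𝔐).realMod hX :=
  limit.lift _ ⟨_, NatTrans.ofOpSequence (fun k => alphaK f hX hY 𝔐 k) fun k => by
    refine Eq.trans ?_ (alphaK_compat f hX hY 𝔐 k).symm
    exact Category.id_comp _⟩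

theorem pullCmp_proj (k : ℕ) :
    pullCmp f hX hY 𝔐 ≫ FSch.realProj 𝔛 hX _ (FSch.ModSys.pullback f 𝔐).toPush k = alphaK f hX hY 𝔐 k :=
  limit.lift_π _ _

/-- The transposed comparison. -/
def pullCmpAdj : 𝔐.realMod hY ⟶ (FSch.pushF f hX hY).obj ((FSch.ModSys.pullback f 𝔐).realMod hX) :=
  (FSch.homMor f hX hY).adj.homEquiv _ _ (pullCmp f hX hY 𝔐)

theorem pullCmpAdj_proj (k : ℕ) :
    pullCmpAdj f hX hY 𝔐 ≫ (FSch.pushF f hX hY).map
        (FSch.realProj 𝔛 hX _ (FSch.ModSys.pullback f 𝔐).toPush k) = compK f hX hY 𝔐 k :=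
  (Adjunction.homEquiv_naturality_right _ _ _).symm.trans
    ((congrArg _ (pullCmp_proj f hX hY 𝔐 k)).trans (Equiv.apply_symm_apply _ _))

theorem pullCmp_spec (k : ℕ) :
    (FSch.homMor f hX hY).adj.homEquiv _ _ (pullCmp f hX hY 𝔐) ≫
          (FSch.pushF f hX hY).map (FSch.realProj 𝔛 hX _ (FSch.ModSys.pullback f 𝔐).toPush k) ≫
          (FSch.lvPushSq f hX hY k).hom.app ((FSch.ModSys.pullback f 𝔐).F k) =
        FSch.realProj 𝔜 hY _ 𝔐.toPush k ≫
          (FSch.levelMor 𝔜 hY k).push.map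
            ((ModSite.RMor.ofScheme (gk f k)).adj.unit.app (𝔐.F k)) := by
  refine (Category.assoc _ _ _).symm.trans ((congrArg (· ≫ _) (pullCmpAdj_proj f hX hY 𝔐 k)).trans ?_)
  simp only [compK, Category.assoc, Iso.inv_hom_id_app]
  exact congrArg _ (Category.comp_id _)

/-- The image of a section. -/
def imSec {U : (𝔜.X 0).Opens} (x : RSec hY 𝔐 U) : RSec hX (FSch.ModSys.pullback f 𝔐) (preU f U) :=
  ((pullCmpAdj f hX hY 𝔐).val.app (op U)).hom x

theorem piM_imSec {U : (𝔜.X 0).Opens} (x : RSec hY 𝔐 U) (k : ℕ) :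
    piM hX (FSch.ModSys.pullback f 𝔐) (preU f U) k (imSec f hX hY 𝔐 x) =
      ModLimH13.res' (gk f k) (𝔐.F k) (lvU_pre f hX hY k U) (piM hY 𝔐 U k x) :=
  (congrArg (fun φ : 𝔐.realMod hY ⟶ _ => (φ.val.app (op U)).hom x) (pullCmpAdj_proj f hX hY 𝔐 k)).trans
    (compK_app f hX hY 𝔐 k U x)

theorem pullCmp_unit {U : (𝔜.X 0).Opens} (x : RSec hY 𝔐 U) :
    ((pullCmp f hX hY 𝔐).val.app (op (preU f U))).hom
        (((FSch.homMor f hX hY).adj.unit.app (𝔐.realMod hY)).val.app (op U) x) = imSec f hX hY 𝔐 x := by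
  rw [imSec, pullCmpAdj, Adjunction.homEquiv_unit]
  rfl

open scoped TensorProduct in
/-- The relations of a base change come from the relations. -/
theorem mem_span_of_baseChange {L B P ι κ : Type*} [CommRing L] [CommRing B] [Algebra L B] [AddCommGroup P] [Module L P]
    [Fintype ι] (σ : ι → P) (hσ : Submodule.span L (Set.range σ) = ⊤) (ρ : κ → ι → L)
    (hρ : ∀ a : ι → L, ∑ i, a i • σ i = 0 → a ∈ Submodule.span L (Set.range ρ)) (c : ι → B)
    (hc : ∑ i, c i ⊗ₜ[L] σ i = 0) :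
    c ∈ Submodule.span B (Set.range fun r i => algebraMap L B (ρ r i)) := by
  have hc' : ∑ i, σ i ⊗ₜ[L] c i = 0 := by
    have h := congrArg (TensorProduct.comm L B P) hc
    rwa [map_sum, map_zero] at h
  obtain ⟨κ', a, y, hy, ha⟩ := TensorProduct.vanishesTrivially_of_sum_tmul_eq_zero L hσ hc'
  have e : c = ∑ j, y j • fun i => algebraMap L B (a i j) := funext fun i => by
    rw [hy i, Finset.sum_apply]
    exact Finset.sum_congr rfl fun j _ => by rw [Pi.smul_apply, smul_eq_mul, Algebra.smul_def, mul_comm]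
  rw [e]
  refine Submodule.sum_mem _ fun j _ => Submodule.smul_mem _ _ ?_
  exact map_mem_span' (algebraMap L B) ρ (hρ (fun i => a i j) (ha j))

/-- The arrows factoring through an affine open with affine image. -/
def preSieve (V : (𝔛.X 0).Opens) : Sieve V where
  arrows W _ := ∃ (W' : (𝔛.X 0).Opens) (U : (𝔜.X 0).Opens), IsAffineOpen W' ∧ IsAffineOpen U ∧ W ≤ W' ∧ W' ≤ V ∧
    W' ≤ preU f U
  downward_closed := by
    rintro W₁ W₂ g ⟨W', U, h1, h2, h3, h4, h5⟩ g'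
    exact ⟨W', U, h1, h2, g'.le.trans h3, h4, h5⟩

theorem preSieve_mem (V : (𝔛.X 0).Opens) : preSieve f V ∈ Opens.grothendieckTopology (𝔛.X 0) V := fun x hx => by
  obtain ⟨U, hU, hxU, -⟩ := exists_isAffineOpen_mem_and_subset (X := 𝔜.X 0) (U := ⊤) (x := gk f 0 x) trivial
  obtain ⟨W, hW, hxW, hWV⟩ := exists_isAffineOpen_mem_and_subset (U := V ⊓ preU f U) (x := x) ⟨hx, hxU⟩
  exact ⟨W, homOfLE (hWV.trans inf_le_left), ⟨W, U, hW, hU, le_rfl, hWV.trans inf_le_left, hWV.trans inf_le_right⟩, hxW⟩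

theorem prj_sharp (k : ℕ) {U : (𝔜.X 0).Opens} {W : (𝔛.X 0).Opens} (i : W ≤ preU f U) (a : AV 𝔜 hY U) :
    prj 𝔛 hX W k (rA hX i (ModFlat16.shp (FSch.homMor f hX hY) U a)) =
      (gk f k).appLE (𝔜.lvU hY k U) (𝔛.lvU hX k W) ((lvU_mono hX i k).trans (lvU_pre f hX hY k U))
        (prj 𝔜 hY U k a) := by
  rw [prj_rA]
  have h := congrArg (fun t => (t.hom.app (op U)).hom a) (FSch.Hom.sharp_proj f hX hY k)
  refine (congrArg (rL hX i k) h).trans ?_
  exact congrArg (fun φ => φ.hom (prj 𝔜 hY U k a))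
    (Scheme.Hom.appLE_map (gk f k) (lvU_pre f hX hY k U) (homOfLE (lvU_mono hX i k)).op)

section Iso

variable (hNX : 𝔛.IsLocNoethFormal) (hNY : 𝔜.IsLocNoethFormal) (hM : 𝔐.IsCoh)

include hM in
theorem isCoh_pullback : (FSch.ModSys.pullback f 𝔐).IsCoh := fun n => M1.isCoh_pullback _ (hM n)

include hM in
/-- Generators over an affine open generate. -/
theorem gens_RSec {U : (𝔜.X 0).Opens} (hU : IsAffineOpen U) {ι : Type u} [Fintype ι] (s : ι → RSec hNY.1 𝔐 U)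
    (hs : Submodule.span (AV 𝔜 hNY.1 U) (Set.range s) = ⊤) : ModFlat16.Gens (𝔐.realMod hNY.1) U s := by
  refine ModFlat16.gens_mk _ fun {W'} e x => ⟨affSieve W', affSieve_mem W', fun W'' l' hl' => ?_⟩
  obtain ⟨U', hU', hl1, hl2⟩ := hl'
  have hle : U' ≤ U := hl2.trans e.le
  obtain ⟨c, hc⟩ := (Submodule.mem_span_range_iff_exists_fun (AV 𝔜 hNY.1 U')).1
    (span_rS 𝔐 hNY hM hU hU' hle s hs ▸ (Submodule.mem_top (x := rS hNY.1 𝔐 hl2 x)))
  refine ⟨fun j => rA hNY.1 hl1 (c j), ?_⟩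
  have h2 := congrArg (rS hNY.1 𝔐 hl1) hc.symm
  rw [rS_sum, rS_comp] at h2
  exact Eq.trans h2 (Finset.sum_congr rfl fun j _ => congrArg (rA hNY.1 hl1 (c j) • ·) (rS_comp hNY.1 𝔐 hle hl1 (s j)))

variable {U : (𝔜.X 0).Opens} {W : (𝔛.X 0).Opens} (i : W ≤ preU f U) {ι : Type u} (t : ι → RSec hNY.1 𝔐 U)

/-- The images of sections on a smaller open. -/
abbrev imW (j : ι) : RSec hNX.1 (FSch.ModSys.pullback f 𝔐) W :=
  rS hNX.1 _ i (imSec f hNX.1 hNY.1 𝔐 (t j))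

theorem piM_imW (k : ℕ) (j : ι) :
    piM hNX.1 (FSch.ModSys.pullback f 𝔐) W k (imW f 𝔐 hNX hNY i t j) =
      ModLimH13.res' (gk f k) (𝔐.F k) ((lvU_mono hNX.1 i k).trans (lvU_pre f hNX.1 hNY.1 k U))
        (piM hNY.1 𝔐 U k (t j)) := by
  rw [piM_rS, piM_imSec]
  exact ModLimH13.mres_res' _ _ _ _ _

include hM in
theorem span_imW (hU : IsAffineOpen U) (hW : IsAffineOpen W)
    (ht : Submodule.span (AV 𝔜 hNY.1 U) (Set.range t) = ⊤) :
    Submodule.span (AV 𝔛 hNX.1 W) (Set.range (imW f 𝔐 hNX hNY i t)) = ⊤ := by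
  haveI : Coh.IsQCoh (𝔐.F 0) := (hM 0).1
  refine span_of_level_zero _ hNX (isCoh_pullback f 𝔐 hM) hW _ (eq_top_iff.2 fun z _ => ?_)
  refine ModLimH13.pullback_induction (gk f 0) (𝔐.F 0) ((lvU_mono hNX.1 i 0).trans (lvU_pre f hNX.1 hNY.1 0 U))
    (isAffineOpen_lvU hNY hU 0) (isAffineOpen_lvU hNX hW 0) (p := fun z => z ∈ Submodule.span (LV 𝔛 hNX.1 0 W)
      (Set.range fun j => piM hNX.1 (FSch.ModSys.pullback f 𝔐) W 0 (imW f 𝔐 hNX hNY i t j)))
    (Submodule.zero_mem _) (fun a b => Submodule.add_mem _) (fun c s => Submodule.smul_mem _ c ?_) z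
  have hs : s ∈ Submodule.span (LV 𝔜 hNY.1 0 U) (Set.range fun j => piM hNY.1 𝔐 U 0 (t j)) :=
    span_piM 𝔐 hNY hM hU t ht 0 ▸ Submodule.mem_top
  induction hs using Submodule.span_induction with
  | mem y hy =>
    obtain ⟨j, rfl⟩ := hy
    exact Submodule.subset_span ⟨j, piM_imW f 𝔐 hNX hNY i t 0 j⟩
  | zero => rw [res'_zero']; exact Submodule.zero_mem _
  | add a b _ _ ha hb => rw [ModLimH13.res'_add]; exact Submodule.add_mem _ ha hb
  | smul d a _ ha => rw [ModLimH13.res'_smul]; exact Submodule.smul_mem _ _ ha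

include hM in
theorem rels_imW (hU : IsAffineOpen U) (hW : IsAffineOpen W) [Fintype ι]
    (ht : Submodule.span (AV 𝔜 hNY.1 U) (Set.range t) = ⊤) {κ : Type u} (R : κ → ι → AV 𝔜 hNY.1 U)
    (hR : ∀ a : ι → AV 𝔜 hNY.1 U, ∑ j, a j • t j = 0 → a ∈ Submodule.span (AV 𝔜 hNY.1 U) (Set.range R))
    (c : ι → AV 𝔛 hNX.1 W) (hc : ∑ j, c j • imW f 𝔐 hNX hNY i t j = 0) :
    c ∈ Submodule.span (AV 𝔛 hNX.1 W)
      (Set.range fun r j => rA hNX.1 i (ModFlat16.shp (FSch.homMor f hNX.1 hNY.1) U (R r j))) := by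
  refine mem_span_of_levels hNX hW _ c fun n => ?_
  haveI : Coh.IsQCoh (𝔐.F n) := (hM n).1
  let e := (lvU_mono hNX.1 i n).trans (lvU_pre f hNX.1 hNY.1 n U)
  letI := ((gk f n).appLE (𝔜.lvU hNY.1 n U) (𝔛.lvU hNX.1 n W) e).hom.toAlgebra
  obtain ⟨Φ, hΦ⟩ := ModLimH13.exists_pullEquiv (gk f n) (𝔐.F n) e
    (isAffineOpen_lvU hNY hU n) (isAffineOpen_lvU hNX hW n)
  have h0 := congrArg (piM hNX.1 (FSch.ModSys.pullback f 𝔐) W n) hc
  rw [map_zero, piM_comb] at h0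
  have key := mem_span_of_baseChange (B := LV 𝔛 hNX.1 n W) _ (span_piM 𝔐 hNY hM hU t ht n) _
    (rels_level 𝔐 hNY hM hU t ht R hR n) (fun j => prj 𝔛 hNX.1 W n (c j)) (Φ.injective (by
      rw [map_zero, map_sum]
      refine Eq.trans (Finset.sum_congr rfl fun j _ => ?_) h0
      rw [piM_imW]
      exact hΦ _ _))
  have e2 : (fun r j => prj 𝔛 hNX.1 W n (rA hNX.1 i (ModFlat16.shp (FSch.homMor f hNX.1 hNY.1) U (R r j)))) =
      fun r j => algebraMap (LV 𝔜 hNY.1 n U) (LV 𝔛 hNX.1 n W) (prj 𝔜 hNY.1 U n (R r j)) :=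
    funext fun r => funext fun j => prj_sharp f hNX.1 hNY.1 n i (R r j)
  rw [e2]
  exact key

/-- The units of sections. -/
abbrev etaW (j : ι) : ModSite.sect ((FSch.pullF f hNX.1 hNY.1).obj (𝔐.realMod hNY.1)) (preU f U) :=
  ((FSch.homMor f hNX.1 hNY.1).adj.unit.app (𝔐.realMod hNY.1)).val.app (op U) (t j)

/-- The units of sections on a smaller open. -/
abbrev srcW (j : ι) : ModSite.sect ((FSch.pullF f hNX.1 hNY.1).obj (𝔐.realMod hNY.1)) W :=
  ModFlat16.smap _ (homOfLE i) (etaW f 𝔐 hNX hNY t j)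

theorem pullCmp_srcW (j : ι) :
    (pullCmp f hNX.1 hNY.1 𝔐).val.app (op W) (srcW f 𝔐 hNX hNY i t j) = imW f 𝔐 hNX hNY i t j := by
  rw [ModFlat16.app_smap]
  exact congrArg (rS hNX.1 (FSch.ModSys.pullback f 𝔐) i) (pullCmp_unit f hNX.1 hNY.1 𝔐 (t j))

include hM in
/-- The inverse image of the module of a coherent system is the module of the inverse image. -/
theorem isIso_pullCmp : IsIso (pullCmp f hNX.1 hNY.1 𝔐) := by
  refine isIso_of_pres (O := 𝔛.Osh hNX.1) _ fun V => ⟨preSieve f V, preSieve_mem f V, fun W₀ l hl => ?_⟩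
  obtain ⟨W, U, hW, hU, hl1, -, i⟩ := hl
  obtain ⟨ι, κ, hι, hκ, t, R, ht, hR0, hR⟩ := exists_pres 𝔐 hNY hM hU
  have hA : ModFlat16.Gens ((FSch.pullF f hNX.1 hNY.1).obj (𝔐.realMod hNY.1)) W (srcW f 𝔐 hNX hNY i t) :=
    ModFlat16.gens_smap (homOfLE i) (gens_pullback (FSch.homMor f hNX.1 hNY.1) (gens_RSec 𝔐 hNY hM hU t ht))
  have hB := gens_RSec (FSch.ModSys.pullback f 𝔐) hNX (isCoh_pullback f 𝔐 hM) hW _
    (span_imW f 𝔐 hNX hNY hM i t hU hW ht)
  refine ⟨ι, hι, fun j => ModFlat16.smap _ (homOfLE hl1) (srcW f 𝔐 hNX hNY i t j), ModFlat16.gens_smap _ hA, ?_, ?_⟩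
  · have e : (fun j => (pullCmp f hNX.1 hNY.1 𝔐).val.app (op W₀) (ModFlat16.smap _ (homOfLE hl1) (srcW f 𝔐 hNX hNY i t j))) =
        fun j => ModFlat16.smap ((FSch.ModSys.pullback f 𝔐).realMod hNX.1) (homOfLE hl1) (imW f 𝔐 hNX hNY i t j) :=
      funext fun j => by rw [ModFlat16.app_smap, pullCmp_srcW]
    rw [e]
    exact ModFlat16.gens_smap (homOfLE hl1) hB
  · intro V₁ m c hc
    refine ⟨affSieve V₁, affSieve_mem V₁, fun V' l' hl' => ?_⟩
    obtain ⟨W₁, hW₁, h1, h2⟩ := hl'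
    have hle : W₁ ≤ W := h2.trans (m.le.trans hl1)
    let c' : ι → AV 𝔛 hNX.1 W₁ := fun j => rA hNX.1 h2 (c j)
    have hc' : ∑ j, c' j • imW f 𝔐 hNX hNY (hle.trans i) t j = 0 := by
      have h0 := congrArg (rS hNX.1 (FSch.ModSys.pullback f 𝔐) h2) hc
      rw [map_zero] at h0
      refine Eq.trans ?_ h0
      refine Eq.trans ?_ (rS_sum hNX.1 (FSch.ModSys.pullback f 𝔐) h2 c _).symm
      refine Finset.sum_congr rfl fun j _ => congrArg (c' j • ·) ?_
      rw [ModFlat16.app_smap, pullCmp_srcW]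
      exact ((rS_comp hNX.1 (FSch.ModSys.pullback f 𝔐) (m.le.trans hl1) h2 (imW f 𝔐 hNX hNY i t j)).trans
        (rS_comp hNX.1 (FSch.ModSys.pullback f 𝔐) i hle (imSec f hNX.1 hNY.1 𝔐 (t j)))).symm.trans
          (congrArg (rS hNX.1 _ h2) (ModFlat16.smap_comp (F := (FSch.ModSys.pullback f 𝔐).realMod hNX.1)
            (homOfLE hl1) m (imW f 𝔐 hNX hNY i t j)))
    obtain ⟨d, hd⟩ := (Submodule.mem_span_range_iff_exists_fun (AV 𝔛 hNX.1 W₁)).1
      (rels_imW f 𝔐 hNX hNY hM (hle.trans i) t hU hW₁ ht R hR c' hc')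
    have hzero : ∀ r, ∑ j, (ModFlat16.shp (FSch.homMor f hNX.1 hNY.1) U (R r j) :
        (𝔛.Osh hNX.1).obj.obj (op (preU f U))) • etaW f 𝔐 hNX hNY t j = 0 := fun r => by
      have h0 := congrArg (((FSch.homMor f hNX.1 hNY.1).adj.unit.app (𝔐.realMod hNY.1)).val.app (op U)) (hR0 r)
      rw [map_zero] at h0
      refine Eq.trans ?_ h0
      exact ((map_sum (((FSch.homMor f hNX.1 hNY.1).adj.unit.app (𝔐.realMod hNY.1)).val.app (op U)).hom _ _).trans
        (Finset.sum_congr rfl fun j _ =>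
          (((FSch.homMor f hNX.1 hNY.1).adj.unit.app (𝔐.realMod hNY.1)).val.app (op U)).hom.map_smul _ _)).symm
    have hV : ∑ j, c' j • srcW f 𝔐 hNX hNY (hle.trans i) t j = 0 := by
      refine Eq.trans (Finset.sum_congr rfl fun j _ => ?_) (comb_zero
        (R := (𝔛.Osh hNX.1).obj.obj (op W₁))
        (N := ModSite.sect ((FSch.pullF f hNX.1 hNY.1).obj (𝔐.realMod hNY.1)) W₁) d
        (fun r j => rA hNX.1 (hle.trans i) (ModFlat16.shp (FSch.homMor f hNX.1 hNY.1) U (R r j)))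
        (srcW f 𝔐 hNX hNY (hle.trans i) t) fun r => ?_)
      · refine congrArg (· • _) ?_
        refine (congrFun hd j).symm.trans ?_
        rw [Finset.sum_apply]
        exact Finset.sum_congr rfl fun r _ => rfl
      · refine Eq.trans (ModFlat16.smap_comb (M := (FSch.pullF f hNX.1 hNY.1).obj (𝔐.realMod hNY.1))
          (homOfLE (hle.trans i)) _ _).symm ?_
        rw [hzero r, map_zero]
    have h5 := congrArg (ModFlat16.smap ((FSch.pullF f hNX.1 hNY.1).obj (𝔐.realMod hNY.1)) (homOfLE h1)) hV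
    rw [map_zero] at h5
    refine Eq.trans ?_ h5
    refine Eq.trans ?_ (ModFlat16.smap_comb (M := (FSch.pullF f hNX.1 hNY.1).obj (𝔐.realMod hNY.1)) (homOfLE h1) c' _).symm
    refine Finset.sum_congr rfl fun j _ => congrArg₂ (· • ·) ?_ ?_
    · exact ModFlat16.rmap_comp (O := 𝔛.Osh hNX.1) (homOfLE h2) (homOfLE h1) (c j)
    · rw [← ModFlat16.smap_comp, ← ModFlat16.smap_comp, ← ModFlat16.smap_comp]
      rfl

include hNX hNY hM in
/-- The pinned isomorphism. -/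
theorem exists_iso_pullF_realMod :
    ∃ e : (FSch.pullF f hX hY).obj (𝔐.realMod hY) ≅ (FSch.ModSys.pullback f 𝔐).realMod hX,
      ∀ k : ℕ, (FSch.homMor f hX hY).adj.homEquiv _ _ e.hom ≫
          (FSch.pushF f hX hY).map (FSch.realProj 𝔛 hX _ (FSch.ModSys.pullback f 𝔐).toPush k) ≫
          (FSch.lvPushSq f hX hY k).hom.app ((FSch.ModSys.pullback f 𝔐).F k) =
        FSch.realProj 𝔜 hY _ 𝔐.toPush k ≫
          (FSch.levelMor 𝔜 hY k).push.map
            ((ModSite.RMor.ofScheme (gk f k)).adj.unit.app (𝔐.F k)) :=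
  haveI : IsIso (pullCmp f hX hY 𝔐) := isIso_pullCmp f 𝔐 hNX hNY hM
  ⟨asIso (pullCmp f hX hY 𝔐), pullCmp_spec f hX hY 𝔐⟩

end Iso

end Groth.Agent.FormalModH7
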