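import Groth.Agent.Lib.FormalModH7.Cech1
import Groth.Agent.Lib.FormalModH7.QKer

/-!
# Extensions of quasi-coherent modules on locally Noetherian formal schemes
-/

set_option autoImplicit false
set_option linter.style.haveILetI false
set_option linter.unusedSectionVars false
set_option backward.isDefEq.respectTransparency false
set_option backward.isDefEq.respectTransparency.types false
universe u

open CategoryTheory CategoryTheory.Limits AlgebraicGeometry Opposite TopologicalSpace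

namespace Groth.Agent.FormalModH7

open ModFlat16

section General

variable {C : Type u} [SmallCategory C] {J : GrothendieckTopology C} {O : Sheaf J CommRingCat.{u}}
  {A M Q : ModSite.Mod O} (i : A ⟶ M) (p : M ⟶ Q)

theorem smap_sum_smul {U W : C} (l : W ⟶ U) {ι : Type*} (F : Finset ι) (c : ι → O.obj.obj (op U))
    (t : ι → ModSite.sect M U) : smap M l (∑ j ∈ F, c j • t j) = ∑ j ∈ F, rmap O l (c j) • smap M l (t j) :=
  (map_sum (smap M l) _ _).trans (Finset.sum_congr rfl fun _ _ => smap_smul l _ _)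

/-- The relations in an extension. -/
theorem relF_ext (hinj : ∀ U, Function.Injective (i.val.app (op U)))
    (hexact : ∀ (U : C) (y : ModSite.sect M U), p.val.app (op U) y = 0 → ∃ w, i.val.app (op U) w = y) {V : C}
    (hA : ∀ ⦃τ : Type u⦄ (t : τ → ModSite.sect A V), RelF A V t)
    (hQ : ∀ ⦃τ : Type u⦄ (t : τ → ModSite.sect Q V), RelF Q V t) {τ : Type u} (t : τ → ModSite.sect M V) :
    RelF M V t := fun W k F c hc => by
  classical
  have h0 : ∑ j ∈ F, c j • smap Q k (p.val.app (op V) (t j)) = 0 := by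
    refine Eq.trans ?_ ((congrArg (p.val.app (op W)) hc).trans (map_zero _))
    rw [app_sum]
    exact Finset.sum_congr rfl fun j _ => by rw [app_smap]
  obtain ⟨S, hS, h⟩ := hQ (fun j => p.val.app (op V) (t j)) k F c h0
  refine bind_cover S hS fun W₁ l₁ hl₁ => ?_
  obtain ⟨κ, hκ, G, a, e, hFG, ha, he⟩ := h l₁ hl₁
  choose α hα using fun q => hexact V (∑ j ∈ G, a q j • t j) ((app_sum p G (a q) t).trans (ha q))
  have h1 : ∑ q, e q • smap A (l₁ ≫ k) (α q) = 0 := by
    refine hinj W₁ ?_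
    rw [app_sum, map_zero]
    refine Eq.trans (Finset.sum_congr rfl fun q _ => congrArg (e q • ·)
      ((app_smap i (l₁ ≫ k) (α q)).trans ((congrArg _ (hα q)).trans (smap_sum_smul (l₁ ≫ k) G (a q) t)))) ?_
    simp only [Finset.smul_sum, ← mul_smul]
    rw [Finset.sum_comm]
    simp only [← Finset.sum_smul]
    refine (Finset.sum_congr rfl fun j hj => congrArg (· • smap M (l₁ ≫ k) (t j)) (he j hj).symm).trans ?_
    refine ((Finset.sum_subset hFG fun j _ hj => by rw [if_neg hj, zero_smul]).symm).trans ?_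
    refine Eq.trans ?_ ((congrArg (smap M l₁) hc).trans (map_zero _))
    rw [smap_sum_smul]
    exact Finset.sum_congr rfl fun j hj => by rw [if_pos hj, ← smap_comp]
  obtain ⟨T, hT, h'⟩ := hA α (l₁ ≫ k) Finset.univ e h1
  refine ⟨T, hT, fun W₂ l₂ hl₂ => ?_⟩
  obtain ⟨κ₂, hκ₂, G₂, b, f, hG₂, hb, hf⟩ := h' l₂ hl₂
  have hG₂' : G₂ = Finset.univ := Finset.univ_subset_iff.1 hG₂
  subst hG₂'
  refine ⟨κ₂, hκ₂, G, fun r j => ∑ q, b r q * a q j, f, hFG, fun r => ?_, fun j hj => ?_⟩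
  · have h2 : i.val.app (op V) (∑ q, b r q • α q) = 0 := (congrArg (i.val.app (op V)) (hb r)).trans (map_zero _)
    rw [app_sum] at h2
    simp only [hα, Finset.smul_sum, ← mul_smul] at h2
    rw [Finset.sum_comm] at h2
    simpa only [Finset.sum_smul] using h2
  · have h3 := congrArg (rmap O l₂) (he j hj)
    have h4 : (if j ∈ F then rmap O (l₂ ≫ l₁) (c j) else 0) = rmap O l₂ (if j ∈ F then rmap O l₁ (c j) else 0) := by
      split_ifs <;> simp only [rmap_comp, map_zero]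
    rw [h4, h3, map_sum]
    simp only [map_mul, map_sum, Finset.mul_sum]
    rw [Finset.sum_comm]
    refine Finset.sum_congr rfl fun q _ => ?_
    have h5 := hf q (Finset.mem_univ q)
    rw [if_pos (Finset.mem_univ q)] at h5
    rw [h5, Finset.sum_mul]
    refine Finset.sum_congr rfl fun r _ => ?_
    rw [← rmap_comp, Category.assoc]
    ring

/-- The generators of an extension. -/
theorem genF_ext (hexact : ∀ (U : C) (y : ModSite.sect M U), p.val.app (op U) y = 0 → ∃ w, i.val.app (op U) w = y) {V : C}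
    {σ σ' : Type u} {gA : σ → ModSite.sect A V} (hA : GenF A V gA) {gQ : σ' → ModSite.sect Q V} (hQ : GenF Q V gQ)
    (g : σ' → ModSite.sect M V) (hg : ∀ j, p.val.app (op V) (g j) = gQ j) :
    GenF M V (Sum.elim (fun j => i.val.app (op V) (gA j)) g) := fun W k x => by
  classical
  obtain ⟨S, hS, h⟩ := hQ k (p.val.app (op W) x)
  refine bind_cover S hS fun W₁ l₁ hl₁ => ?_
  obtain ⟨F, c, hc⟩ := h l₁ hl₁
  obtain ⟨w, hw⟩ := hexact W₁ (smap M l₁ x - ∑ j ∈ F, c j • smap M (l₁ ≫ k) (g j)) (by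
    rw [map_sub, app_sum, sub_eq_zero, app_smap, hc]
    exact Finset.sum_congr rfl fun j _ => by rw [app_smap, hg])
  obtain ⟨T, hT, h'⟩ := hA (l₁ ≫ k) w
  refine ⟨T, hT, fun W₂ l₂ hl₂ => ?_⟩
  obtain ⟨F₂, d, hd⟩ := h' l₂ hl₂
  refine ⟨F₂.disjSum F, Sum.elim d fun j => rmap O l₂ (c j), ?_⟩
  rw [Finset.sum_disjSum]
  have h2 : smap M l₂ (i.val.app (op W₁) w) = ∑ j ∈ F₂, d j • smap M ((l₂ ≫ l₁) ≫ k) (i.val.app (op V) (gA j)) := by
    rw [← app_smap, hd, app_sum]
    exact Finset.sum_congr rfl fun j _ => by rw [app_smap, Category.assoc]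
  have h3 := congrArg (smap M l₂) (sub_eq_iff_eq_add.1 hw.symm)
  rw [map_add, smap_sum_smul, h2] at h3
  refine (smap_comp l₁ l₂ x).trans (h3.trans ?_)
  congr 1
  exact Finset.sum_congr rfl fun j _ => by
    simp only [Sum.elim_inr]
    rw [← smap_comp, Category.assoc]

theorem exists_section_of_exact {S : ShortComplex (ModSite.Mod O)} (hS : S.Exact) [Mono S.f] (U : C)
    (y : ModSite.sect S.X₂ U) (hy : S.g.val.app (op U) y = 0) : ∃ w, S.f.val.app (op U) w = y := by
  let h : ModSite.freeOn O U ⟶ S.X₂ := (freeOnHom O U S.X₂).symm y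
  have hh : h ≫ S.g = 0 := by
    apply (freeOnHom O U S.X₃).injective
    rw [freeOnHom_comp, Equiv.apply_symm_apply, hy]
    have h0 := freeOnHom_comp O (0 : ModSite.freeOn O U ⟶ S.X₂) (0 : S.X₂ ⟶ S.X₃)
    rw [comp_zero] at h0
    exact h0.symm.trans (congrArg _ rfl)
  refine ⟨freeOnHom O U S.X₁ (hS.lift h hh), ?_⟩
  rw [← freeOnHom_comp, hS.lift_f]
  exact (freeOnHom O U S.X₂).apply_symm_apply y

end General

variable {𝔛 : FSch.Sys.{u}} (hN : 𝔛.IsLocNoethFormal)

/-- Sections compatible on a cover glue. -/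
theorem exists_sect_of_compatible (M : FSch.ModF 𝔛 hN.1) {V : (𝔛.X 0).Opens} {T : Type u} (U : T → (𝔛.X 0).Opens)
    (hU : ∀ t, U t ≤ V) (hcov : V ≤ ⨆ t, U t) (y : ∀ t, FSec hN M (U t))
    (hy : ∀ s t (W : (𝔛.X 0).Opens) (i : W ≤ U t) (j : W ≤ U s), smap M (homOfLE i) (y t) = smap M (homOfLE j) (y s)) :
    ∃ x : FSec hN M V, ∀ t, smap M (homOfLE (hU t)) x = y t := by
  let Sh : TopCat.Sheaf AddCommGrpCat.{u} (𝔛.X 0).carrier := ⟨M.val.presheaf, M.isSheaf⟩
  obtain ⟨x, hx, -⟩ := Sh.existsUnique_gluing' U V (fun t => homOfLE (hU t)) hcov y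
    fun s t => hy t s (U s ⊓ U t) inf_le_left inf_le_right
  exact ⟨x, hx⟩

variable {A M Q : FSch.ModF 𝔛 hN.1} (i : A ⟶ M) (p : M ⟶ Q) {X₀ V : (𝔛.X 0).Opens}

theorem gX_res {W : (𝔛.X 0).Opens} (hVX : V ≤ X₀) (hWV : W ≤ V)
    (P : SheafOfModules.Presentation ((ModSite.restr (𝔛.Osh hN.1) X₀).obj A)) (j : P.generators.I) :
    smap A (homOfLE hWV) (gX hN hVX P j) = gX hN (hWV.trans hVX) P j :=
  (smap_comp (homOfLE hVX) (homOfLE hWV) _).symm

set_option maxHeartbeats 1000000 in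
/-- The cocycle condition in terms of coefficients. -/
theorem cocycle_mem (hV : IsAffineOpen V) (hVX : V ≤ X₀)
    (P : SheafOfModules.Presentation ((ModSite.restr (𝔛.Osh hN.1) X₀).obj A))
    (F : Finset P.generators.I) {Tn : Finset (F → AV 𝔛 hN.1 V)}
    (hTn : Rels A V (fun j : F => gX hN hVX P j.1) (fun r : Tn => r.1))
    {T : Type u} (g : T → AV 𝔛 hN.1 V) (δ : ∀ s t, FSec hN A (fD hN (g t * g s)))
    (d : ∀ s t, F → AV 𝔛 hN.1 (fD hN (g t * g s)))
    (hd : ∀ s t, δ s t = ∑ j, d s t j • smap A (homOfLE (fD_le hN (g t * g s))) (gX hN hVX P j.1))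
    (s t u : T)
    (hδ : smap A (homOfLE (ftri_left hN g s t u)) (δ s t) + smap A (homOfLE (ftri_mid hN g s t u)) (δ t u) =
      smap A (homOfLE (ftri_out hN g s t u)) (δ s u)) :
    (fun j => rA hN.1 (ftri_left hN g s t u) (d s t j) + rA hN.1 (ftri_mid hN g s t u) (d t u j) -
        rA hN.1 (ftri_out hN g s t u) (d s u j)) ∈
      Submodule.span (AV 𝔛 hN.1 (fD hN (g s * g t * g u)))
        (Set.range fun (r : Tn) j => rA hN.1 (fD_le hN (g s * g t * g u)) (r.1 j)) := by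
  refine mem_span_of_rels hN (isAffineOpen_fD hN hV _) (fD_le hN _) hTn _ ?_
  rw [hd, hd, hd, smap_comb hN, smap_comb hN, smap_comb hN] at hδ
  simp only [← smap_comp] at hδ
  simp only [sub_smul, add_smul, Finset.sum_sub_distrib, Finset.sum_add_distrib]
  rw [sub_eq_zero]
  exact hδ

set_option maxHeartbeats 1000000 in
/-- Sections of the quotient lift over an affine open. -/
theorem exists_lift_ext (hV : IsAffineOpen V) (hVX : V ≤ X₀)
    (P : SheafOfModules.Presentation ((ModSite.restr (𝔛.Osh hN.1) X₀).obj A))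
    (hinj : ∀ U, Function.Injective (i.val.app (op U)))
    (h0 : ∀ {U : (𝔛.X 0).Opens} (a : FSec hN A U), p.val.app (op U) (i.val.app (op U) a) = 0)
    (hexact : ∀ (U : (𝔛.X 0).Opens) (y : FSec hN M U), p.val.app (op U) y = 0 → ∃ w, i.val.app (op U) w = y)
    [Epi p] (s : FSec hN Q V) : ∃ x : FSec hN M V, p.val.app (op V) x = s := by
  classical
  obtain ⟨S, hS, h⟩ := ExtSupp8.exists_local_preimage p s
  have hloc : ∀ x : (V : Set (𝔛.X 0)), ∃ a : AV 𝔛 hN.1 V, x.1 ∈ fD hN a ∧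
      ∃ y : FSec hN M (fD hN a), p.val.app (op (fD hN a)) y = smap Q (homOfLE (fD_le hN a)) s := fun x => by
    obtain ⟨W, l, hl, hxW⟩ := hS x.1 x.2
    obtain ⟨y, hy⟩ := h l hl
    obtain ⟨a, ha, hxa⟩ := exists_fD_le hN hV x.2 hxW
    refine ⟨a, hxa, smap M (homOfLE ha) y, ?_⟩
    rw [app_smap, show p.val.app (op W) y = smap Q l s from hy, ← smap_comp]
    exact congrArg (fun q => smap Q q s) (Subsingleton.elim _ _)
  choose a hxa y hy using hloc
  obtain ⟨T', hT'⟩ := hV.isCompact.elim_finite_subcover (fun x : (V : Set (𝔛.X 0)) => (fD hN (a x) : Set (𝔛.X 0)))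
    (fun x => (fD hN (a x)).2) fun x hx => Set.mem_iUnion.2 ⟨⟨x, hx⟩, hxa _⟩
  let g : T' → AV 𝔛 hN.1 V := fun t => a t.1
  have hg : V ≤ ⨆ t : T', fD hN (g t) := fun x hx => by
    obtain ⟨t, ht, hxt⟩ := Set.mem_iUnion₂.1 (hT' hx)
    exact Opens.mem_iSup.2 ⟨⟨t, ht⟩, hxt⟩
  have hp : ∀ (t : T') (W : (𝔛.X 0).Opens) (l : W ≤ fD hN (g t)),
      p.val.app (op W) (smap M (homOfLE l) (y t.1)) = smap Q (homOfLE (l.trans (fD_le hN _))) s := fun t W l => by
    rw [app_smap, hy, ← smap_comp]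
    rfl
  choose δ hδ using fun q r : T' => hexact (fD hN (g r * g q))
    (smap M (homOfLE (fD_mul_le_left hN (g r) (g q))) (y r.1) - smap M (homOfLE (fD_mul_le_right hN (g r) (g q))) (y q.1))
    (by rw [map_sub, hp, hp, sub_self])
  choose H z hz using fun q r : T' => exists_lift_gX hN (isAffineOpen_fD hN hV (g r * g q))
    ((fD_le hN (g r * g q)).trans hVX) P (δ q r)
  let F := (Finset.univ : Finset (T' × T')).biUnion fun q => H q.1 q.2
  let d : ∀ q r : T', F → AV 𝔛 hN.1 (fD hN (g r * g q)) := fun q r j => if j.1 ∈ H q r then z q r j.1 else 0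
  have hd : ∀ q r, δ q r = ∑ j, d q r j • smap A (homOfLE (fD_le hN (g r * g q))) (gX hN hVX P j.1) := fun q r => by
    rw [hz, Finset.sum_coe_sort F (fun j => (if j ∈ H q r then z q r j else 0) •
      smap A (homOfLE (fD_le hN (g r * g q))) (gX hN hVX P j))]
    refine Eq.trans ?_ (Finset.sum_subset (fun j hj => Finset.mem_biUnion.2 ⟨(q, r), Finset.mem_univ _, hj⟩)
      fun j _ hj => by rw [if_neg hj, zero_smul])
    exact Finset.sum_congr rfl fun j hj => by rw [if_pos hj, gX_res hN hVX (fD_le hN _) P j]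
  obtain ⟨Tn, hTn⟩ := exists_rels_gX hN hV hVX P F
  obtain ⟨c, hc⟩ := exists_split hN hV (fun r : Tn => r.1) g hg d fun q r v => by
    refine cocycle_mem hN hV hVX P F hTn g δ d hd q r v (hinj _ ?_)
    rw [map_add, app_smap, app_smap, app_smap, hδ, hδ, hδ, map_sub, map_sub, map_sub]
    simp only [← smap_comp]
    exact (add_comm _ _).trans (sub_add_sub_cancel _ _ _)
  let y' : ∀ t : T', FSec hN M (fD hN (g t)) := fun t =>
    y t.1 - i.val.app (op (fD hN (g t))) (∑ j, c t j • smap A (homOfLE (fD_le hN (g t))) (gX hN hVX P j.1))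
  have hcomp : ∀ q r : T', smap M (homOfLE (fD_mul_le_left hN (g r) (g q))) (y' r) =
      smap M (homOfLE (fD_mul_le_right hN (g r) (g q))) (y' q) := fun q r => by
    have h1 := comb_eq_of_sub_mem (c := fun j => rA hN.1 (fD_mul_le_left hN (g r) (g q)) (c r j) -
        rA hN.1 (fD_mul_le_right hN (g r) (g q)) (c q j)) (d := d q r) (hc q r)
      (fun j : F => smap A (homOfLE (fD_le hN (g r * g q))) (gX hN hVX P j.1)) fun r' => by
        rw [← smap_comb hN _ Finset.univ, hTn.1 r', map_zero]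
    rw [← hd] at h1
    simp only [sub_smul, Finset.sum_sub_distrib] at h1
    have h2 := congrArg (i.val.app (op (fD hN (g r * g q)))) h1
    rw [map_sub, hδ] at h2
    simp only [y', map_sub, ← app_smap]
    rw [smap_comb hN, smap_comb hN]
    simp only [← smap_comp]
    exact sub_eq_sub_iff_sub_eq_sub.2 h2.symm
  obtain ⟨x, hx⟩ := exists_sect_of_compatible hN M (fun t : T' => fD hN (g t)) (fun t => fD_le hN _) hg y'
    fun q r W l l' => by
      have hle : W ≤ fD hN (g r * g q) := (fD_mul hN (g r) (g q)).symm ▸ le_inf l l'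
      have h1 := congrArg (smap M (homOfLE hle)) (hcomp q r)
      rw [← smap_comp, ← smap_comp] at h1
      exact h1
  refine ⟨x, sect_ext Q (Sieve.generate (Presieve.ofArrows (fun t : T' => fD hN (g t)) fun t => homOfLE (fD_le hN (g t))))
    (fun x hx => ?_) fun W l hl => ?_⟩
  · obtain ⟨t, ht⟩ := Opens.mem_iSup.1 (hg hx)
    exact ⟨_, homOfLE (fD_le hN (g t)), Sieve.le_generate _ _ _ (Presieve.ofArrows.mk t), ht⟩
  · obtain ⟨W', l₁, l₂, ⟨t⟩, rfl⟩ := hl
    rw [smap_comp, smap_comp]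
    refine congrArg (smap Q l₁) ?_
    rw [← app_smap, hx t]
    show p.val.app (op (fD hN (g t))) (y' t) = _
    rw [map_sub, h0, sub_zero]
    exact hy t.1

set_option maxHeartbeats 1000000 in
/-- An extension of quasi-coherent modules is quasi-coherent. -/
theorem isQuasicoherent_X₂ {S : ShortComplex (FSch.ModF 𝔛 hN.1)} (hS : S.ShortExact)
    [h₁ : SheafOfModules.IsQuasicoherent.{u} S.X₁] [h₃ : SheafOfModules.IsQuasicoherent.{u} S.X₃] :
    SheafOfModules.IsQuasicoherent.{u} S.X₂ := by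
  haveI := hS.mono_f
  haveI := hS.epi_g
  refine isQuasicoherent_of_covd fun X => ?_
  obtain ⟨q⟩ := h₁.nonempty_quasicoherentData
  obtain ⟨q'⟩ := h₃.nonempty_quasicoherentData
  refine ⟨{ arrows := fun U _ => ∃ V : (𝔛.X 0).Opens, Nonempty (U ⟶ V) ∧
              Nonempty (SheafOfModules.Presentation ((ModSite.restr (𝔛.Osh hN.1) V).obj S.X₂))
            downward_closed := by
              rintro W₁ W₂ f ⟨V, ⟨m⟩, h2⟩ g
              exact ⟨V, ⟨g ≫ m⟩, h2⟩ }, fun x hx => ?_, fun U k hk => hk⟩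
  obtain ⟨Y, g, ⟨a, ⟨ga⟩⟩, hxY⟩ := q.coversTop X x hx
  obtain ⟨Z, g', ⟨b, ⟨gb⟩⟩, hxZ⟩ := q'.coversTop Y x hxY
  obtain ⟨V, hV, hxV, hle⟩ := exists_isAffineOpen_mem_and_subset (U := Z) hxZ
  refine ⟨V, homOfLE (hle.trans (g'.le.trans g.le)), ⟨V, ⟨𝟙 V⟩, ?_⟩, hxV⟩
  let D₁ := QData.ofPres hN hV (hle.trans (g'.le.trans ga.le)) (q.presentation a)
  let D₃ := QData.ofPres hN hV (hle.trans gb.le) (q'.presentation b)
  have hex := exists_section_of_exact hS.exact
  choose gl hgl using fun j => exists_lift_ext hN S.f S.g hV (hle.trans (g'.le.trans ga.le)) (q.presentation a)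
    (sections_injective' _) (cond_apply _ _ S.zero) hex (D₃.g j)
  exact nonempty_presentation_of_genF (genF_ext S.f S.g hex D₁.gen D₃.gen gl hgl)
    (relF_ext S.f S.g (sections_injective' _) hex D₁.rel D₃.rel _)

/-- The middle term of an exact five-term sequence with quasi-coherent outer terms. -/
theorem isQuasicoherent_of_five {X₀ X₁ X₂ X₃ X₄ : FSch.ModF 𝔛 hN.1} (a : X₀ ⟶ X₁) (b : X₁ ⟶ X₂) (c : X₂ ⟶ X₃)
    (d : X₃ ⟶ X₄) (hab : a ≫ b = 0) (hbc : b ≫ c = 0) (hcd : c ≫ d = 0) (e₁ : (ShortComplex.mk a b hab).Exact)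
    (e₂ : (ShortComplex.mk b c hbc).Exact) (e₃ : (ShortComplex.mk c d hcd).Exact)
    [SheafOfModules.IsQuasicoherent.{u} X₀] [SheafOfModules.IsQuasicoherent.{u} X₁]
    [SheafOfModules.IsQuasicoherent.{u} X₃] [SheafOfModules.IsQuasicoherent.{u} X₄] :
    SheafOfModules.IsQuasicoherent.{u} X₂ := by
  let i : cokernel a ⟶ X₂ := cokernel.desc a b hab
  let p : X₂ ⟶ kernel d := kernel.lift d c hcd
  haveI : Mono i := e₁.mono_cokernelDesc
  haveI : Epi p := e₃.epi_kernelLift
  have hp : b ≫ p = 0 := by rw [← cancel_mono (kernel.ι d), Category.assoc, kernel.lift_ι, hbc, zero_comp]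
  have h0 : i ≫ p = 0 := by rw [← cancel_epi (cokernel.π a), cokernel.π_desc_assoc, hp, comp_zero]
  have e₄ : (ShortComplex.mk b p hp).Exact :=
    (ShortComplex.exact_iff_of_epi_of_isIso_of_mono ({ τ₁ := 𝟙 _, τ₂ := 𝟙 _, τ₃ := kernel.ι d, comm₂₃ := by simp [p] } :
      ShortComplex.mk b p hp ⟶ ShortComplex.mk b c hbc)).2 e₂
  have e₅ : (ShortComplex.mk i p h0).Exact :=
    (ShortComplex.exact_iff_of_epi_of_isIso_of_mono ({ τ₁ := cokernel.π a, τ₂ := 𝟙 _, τ₃ := 𝟙 _, comm₁₂ := by simp [i] } :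
      ShortComplex.mk b p hp ⟶ ShortComplex.mk i p h0)).1 e₄
  exact isQuasicoherent_X₂ hN (S := ShortComplex.mk i p h0) ⟨e₅⟩
    (h₁ := isQuasicoherent_cokernel' hN a) (h₃ := isQuasicoherent_kernel' hN d)

end Groth.Agent.FormalModH7
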