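import Groth.Agent.Lib.FormalModH7.Mod
import Groth.Agent.Lib.ModM1.Stalk

/-!
# Restriction of sections of the module of a system
-/

set_option autoImplicit false
set_option backward.isDefEq.respectTransparency false
universe u

open CategoryTheory CategoryTheory.Limits AlgebraicGeometry Opposite TopologicalSpace

namespace Groth.Agent.FormalModH7

variable {𝔛 : FSch.Sys.{u}} (h : 𝔛.IsFormal) (𝔐 : FSch.ModSys 𝔛) {V W : (𝔛.X 0).Opens} (i : W ≤ V)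

include i in
/-- The opens of the levels are monotone. -/
theorem lvU_mono (n : ℕ) : 𝔛.lvU h n W ≤ 𝔛.lvU h n V := ((Opens.map (𝔛.gInv h n)).map (homOfLE i)).le

/-- Restriction on the ring. -/
noncomputable def rA : AV 𝔛 h V →+* AV 𝔛 h W := ((𝔛.Osh h).obj.map (homOfLE i).op).hom

/-- Restriction on a level. -/
noncomputable def rL (n : ℕ) : LV 𝔛 h n V →+* LV 𝔛 h n W :=
  ((𝔛.X n).presheaf.map (homOfLE (lvU_mono h i n)).op).hom

theorem prj_rA (n : ℕ) (a : AV 𝔛 h V) : prj 𝔛 h W n (rA h i a) = rL h i n (prj 𝔛 h V n a) :=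
  congrArg (fun φ => φ.hom a) ((𝔛.OshProj h n).hom.naturality (homOfLE i).op)

theorem rA_mem_pow (n : ℕ) {a : AV 𝔛 h V} (ha : a ∈ defIdeal 𝔛 h V ^ n) :
    rA h i a ∈ defIdeal 𝔛 h W ^ n := by
  have h0 : (defIdeal 𝔛 h V).map (rA h i) ≤ defIdeal 𝔛 h W := Ideal.map_le_iff_le_comap.2 fun b hb => by
    rw [Ideal.mem_comap, defIdeal, RingHom.mem_ker, prj_rA, RingHom.mem_ker.1 hb, map_zero]
  have h1 := Ideal.mem_map_of_mem (rA h i) ha
  rw [Ideal.map_pow] at h1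
  exact Ideal.pow_right_mono h0 n h1

/-- Restriction on sections. -/
noncomputable def rS : RSec h 𝔐 V →+ RSec h 𝔐 W :=
  (((𝔐.realMod h).val.presheaf.map (homOfLE i).op)).hom

theorem rS_smul (a : AV 𝔛 h V) (s : RSec h 𝔐 V) : rS h 𝔐 i (a • s) = rA h i a • rS h 𝔐 i s :=
  PresheafOfModules.map_smul _ _ _ _

theorem rS_sum {ι : Type*} [Fintype ι] (a : ι → AV 𝔛 h V) (s : ι → RSec h 𝔐 V) :
    rS h 𝔐 i (∑ j, a j • s j) = ∑ j, rA h i (a j) • rS h 𝔐 i (s j) :=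
  (map_sum _ _ _).trans (Finset.sum_congr rfl fun j _ => rS_smul h 𝔐 i _ _)

theorem rS_comp {U : (𝔛.X 0).Opens} (j : U ≤ W) (s : RSec h 𝔐 V) :
    rS h 𝔐 j (rS h 𝔐 i s) = rS h 𝔐 (j.trans i) s :=
  (congrArg (fun φ => φ.hom s) ((𝔐.realMod h).val.presheaf.map_comp (homOfLE i).op (homOfLE j).op)).symm

theorem rA_comp {U : (𝔛.X 0).Opens} (j : U ≤ W) (a : AV 𝔛 h V) :
    rA h j (rA h i a) = rA h (j.trans i) a :=
  (congrArg (fun φ => φ.hom a) ((𝔛.Osh h).obj.map_comp (homOfLE i).op (homOfLE j).op)).symm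

theorem piM_rS (n : ℕ) (s : RSec h 𝔐 V) :
    piM h 𝔐 W n (rS h 𝔐 i s) = M1.mres (𝔐.F n) (lvU_mono h i n) (piM h 𝔐 V n s) :=
  PresheafOfModules.naturality_apply (FSch.realProj 𝔛 h 𝔐.F 𝔐.toPush n).val (homOfLE i).op s

theorem piM_smul (n : ℕ) (a : AV 𝔛 h V) (s : RSec h 𝔐 V) :
    piM h 𝔐 V n (a • s) = prj 𝔛 h V n a • piM h 𝔐 V n s :=
  (piM h 𝔐 V n).map_smul a s

theorem piM_comb {ι : Type*} [Fintype ι] (n : ℕ) (a : ι → AV 𝔛 h V) (s : ι → RSec h 𝔐 V) :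
    piM h 𝔐 V n (∑ j, a j • s j) = ∑ j, prj 𝔛 h V n (a j) • piM h 𝔐 V n (s j) :=
  (map_sum _ _ _).trans (Finset.sum_congr rfl fun j _ => piM_smul h 𝔐 n _ _)

/-- The arrows factoring through an affine open. -/
def affSieve (X : (𝔛.X 0).Opens) : Sieve X where
  arrows U _ := ∃ U' : (𝔛.X 0).Opens, IsAffineOpen U' ∧ U ≤ U' ∧ U' ≤ X
  downward_closed := by
    rintro U U₁ f ⟨U', h1, h2, h3⟩ g
    exact ⟨U', h1, g.le.trans h2, h3⟩

theorem affSieve_mem (X : (𝔛.X 0).Opens) : affSieve X ∈ Opens.grothendieckTopology (𝔛.X 0) X := fun x hx => by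
  obtain ⟨U, hU, hxU, hUX⟩ := exists_isAffineOpen_mem_and_subset (U := X) hx
  exact ⟨U, homOfLE hUX, ⟨U, hU, le_rfl, hUX⟩, hxU⟩

end Groth.Agent.FormalModH7
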