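import Groth.Agent.Lib.FormalH7.OshSurj
import Groth.Agent.Lib.ModLimH13.Sections
import Mathlib.RingTheory.AdicCompletion.Topology

/-!
# The ring of sections of the structure sheaf of a formal scheme over an affine open
-/

set_option autoImplicit false
set_option backward.isDefEq.respectTransparency false
universe u

open CategoryTheory CategoryTheory.Limits AlgebraicGeometry Opposite TopologicalSpace

namespace Groth.Agent.FormalModH7

variable (𝔛 : FSch.Sys.{u}) (h : 𝔛.IsFormal)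

/-- Sections of the structure sheaf over an open of the common space. -/
abbrev AV (V : (𝔛.X 0).Opens) : Type u := (𝔛.Osh h).obj.obj (op V)

/-- Sections of the structure sheaf of a level. -/
abbrev LV (n : ℕ) (V : (𝔛.X 0).Opens) : Type u := Γ(𝔛.X n, 𝔛.lvU h n V)

/-- The projection to a level. -/
noncomputable def prj (V : (𝔛.X 0).Opens) (n : ℕ) : AV 𝔛 h V →+* LV 𝔛 h n V :=
  ((𝔛.OshProj h n).hom.app (op V)).hom

/-- The transition map. -/
noncomputable def tr (V : (𝔛.X 0).Opens) (n : ℕ) : LV 𝔛 h (n + 1) V →+* LV 𝔛 h n V :=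
  ((𝔛.ι n).appLE (𝔛.lvU h (n + 1) V) (𝔛.lvU h n V) (𝔛.lvU_le h n V)).hom

/-- The kernel of the projection to the bottom level. -/
noncomputable def defIdeal (V : (𝔛.X 0).Opens) : Ideal (AV 𝔛 h V) := RingHom.ker (prj 𝔛 h V 0)

theorem tr_prj (V : (𝔛.X 0).Opens) (n : ℕ) (x : AV 𝔛 h V) : tr 𝔛 h V n (prj 𝔛 h V (n + 1) x) = prj 𝔛 h V n x :=
  congrArg (fun φ : 𝔛.Osh h ⟶ 𝔛.levelObj h n => φ.hom.app (op V) x) (𝔛.OshProj_levelMap h n)

theorem ext (V : (𝔛.X 0).Opens) {x y : AV 𝔛 h V} (hxy : ∀ n, prj 𝔛 h V n x = prj 𝔛 h V n y) : x = y := by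
  let G := sheafToPresheaf (Opens.grothendieckTopology (𝔛.X 0)) CommRingCat.{u} ⋙ (evaluation _ _).obj (op V) ⋙
    forget CommRingCat.{u}
  have hlim := isLimitOfPreserves G (limit.isLimit (𝔛.levelRing h))
  apply (Types.isLimitEquivSections hlim).injective
  refine Subtype.ext (funext fun n => ?_)
  rw [Types.isLimitEquivSections_apply, Types.isLimitEquivSections_apply]
  exact hxy n.unop

theorem exists_lift (V : (𝔛.X 0).Opens) (y : ∀ n, LV 𝔛 h n V) (hy : ∀ n, tr 𝔛 h V n (y (n + 1)) = y n) :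
    ∃ x : AV 𝔛 h V, ∀ n, prj 𝔛 h V n x = y n := by
  let G := sheafToPresheaf (Opens.grothendieckTopology (𝔛.X 0)) CommRingCat.{u} ⋙ (evaluation _ _).obj (op V) ⋙
    forget CommRingCat.{u}
  have hlim := isLimitOfPreserves G (limit.isLimit (𝔛.levelRing h))
  let F := 𝔛.levelRing h ⋙ G
  let y' : ∀ n, F.obj (op n) := y
  have key : ∀ (a b : ℕ) (e : a ≤ b), F.map (homOfLE e).op (y' b) = y' a := fun a b e => by
    induction b, e using Nat.le_induction with
    | base => simp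
    | succ b e ih =>
      refine Eq.trans ?_ ((congrArg (F.map (homOfLE e).op) (show F.map (homOfLE (Nat.le_succ b)).op (y' (b + 1)) = y' b from ?_)).trans ih)
      · exact FunctorToTypes.map_comp_apply F (homOfLE (Nat.le_succ b)).op (homOfLE e).op (y' (b + 1))
      · show G.map ((𝔛.levelRing h).map (homOfLE (Nat.le_add_right b 1)).op) (y' (b + 1)) = y' b
        rw [FSch.Sys.levelRing_map_succ]
        exact hy b
  let sec : F.sections := ⟨fun n => y' n.unop, fun {a b} f => by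
    rw [show f = (homOfLE f.unop.le).op from Subsingleton.elim _ _]
    exact key _ _ _⟩
  exact ⟨(Types.isLimitEquivSections hlim).symm sec, fun n => Types.isLimitEquivSections_symm_apply hlim sec (op n)⟩

variable {𝔛}

theorem isNilpotent_ker_toX (hN : 𝔛.IsLocNoethFormal) (i : ℕ) (V : (𝔛.X i).affineOpens) :
    IsNilpotent ((𝔛.toX i).ker.ideal V) := by
  rcases i with _ | m
  · haveI := FormalH7.isClosedImmersion_toX hN.1 0
    refine ⟨1, ?_⟩
    rw [pow_one, Scheme.Hom.ker_apply]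
    exact (RingHom.injective_iff_ker_eq_bot _).1 (fun a b hab => hab)
  · refine ⟨m + 2, ?_⟩
    have := congrArg (fun I : (𝔛.X (m + 1)).IdealSheafData => I.ideal V) (FormalH7.ker_pow_eq_bot 𝔛 hN.1 hN.2.1 m)
    simpa [Scheme.IdealSheafData.ideal_pow] using this

variable (hN : 𝔛.IsLocNoethFormal) {V : (𝔛.X 0).Opens} (hV : IsAffineOpen V)

include hN hV in
theorem isAffineOpen_lvU (n : ℕ) : IsAffineOpen (𝔛.lvU hN.1 n V) :=
  FormalH7.isAffineOpen_lvU 𝔛 hN.1 (isNilpotent_ker_toX hN) n hV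

include hV in
theorem prj_surjective (n : ℕ) : Function.Surjective (prj 𝔛 hN.1 V n) :=
  FormalH7.OshProj_app_surjective 𝔛 hN.1 (isNilpotent_ker_toX hN) n hV

include hV in
theorem tr_surjective (n : ℕ) : Function.Surjective (tr 𝔛 hN.1 V n) := fun y => by
  obtain ⟨x, rfl⟩ := prj_surjective hN hV n y
  exact ⟨prj 𝔛 hN.1 V (n + 1) x, tr_prj 𝔛 hN.1 V n x⟩

include hV in
theorem isNoetherianRing_LV (n : ℕ) : IsNoetherianRing (LV 𝔛 hN.1 n V) :=
  haveI := hN.2.2 n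
  IsLocallyNoetherian.component_noetherian (X := 𝔛.X n) ⟨_, isAffineOpen_lvU hN hV n⟩

theorem ker_appLE_eq {X Y : Scheme.{u}} (i : X ⟶ Y) [IsClosedImmersion i] (U : Y.affineOpens) (W : X.Opens)
    (e : W = i ⁻¹ᵁ U.1) : RingHom.ker (i.appLE U.1 W e.le).hom = i.ker.ideal U := by
  subst e
  rw [Scheme.Hom.ker_apply, ← Scheme.Hom.app_eq_appLE]

/-- The composite down to the bottom level. -/
noncomputable def low (V : (𝔛.X 0).Opens) : ∀ n, LV 𝔛 h n V →+* LV 𝔛 h 0 V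
  | 0 => RingHom.id _
  | n + 1 => (low V n).comp (tr 𝔛 h V n)

theorem low_prj (V : (𝔛.X 0).Opens) : ∀ n x, low h V n (prj 𝔛 h V n x) = prj 𝔛 h V 0 x
  | 0, x => rfl
  | n + 1, x => by
    show low h V n (tr 𝔛 h V n _) = _
    rw [tr_prj, low_prj V n x]

theorem toX_preimage_lvU (n : ℕ) (V : (𝔛.X 0).Opens) : 𝔛.toX n ⁻¹ᵁ 𝔛.lvU h n V = V := by
  show (Opens.map ((𝔛.toX n).base ≫ 𝔛.gInv h n)).obj V = V
  rw [FSch.Sys.toX_base_gInv]
  rfl

theorem lvU_zero_le (V : (𝔛.X 0).Opens) : 𝔛.lvU h 0 V ≤ V := by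
  have := toX_preimage_lvU h 0 V
  exact this.le

theorem low_eq (V : (𝔛.X 0).Opens) : ∀ n,
    low h V n = ((𝔛.toX n).appLE (𝔛.lvU h n V) (𝔛.lvU h 0 V)
      ((lvU_zero_le h V).trans (toX_preimage_lvU h n V).ge)).hom
  | 0 => by
    show RingHom.id _ = _
    ext x
    exact (congrArg (fun φ => φ.hom x) ((𝔛.X 0).presheaf.map_id (op (𝔛.lvU h 0 V)))).symm
  | n + 1 => by
    show (low h V n).comp (tr 𝔛 h V n) = _
    rw [low_eq V n, tr, ← CommRingCat.hom_comp]
    congr 1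
    exact Scheme.Hom.appLE_comp_appLE _ _ _ _ _ _ _

include hV in
theorem ker_low (n : ℕ) :
    RingHom.ker (low hN.1 V n) = (𝔛.toX n).ker.ideal ⟨_, isAffineOpen_lvU hN hV n⟩ := by
  haveI := FormalH7.isClosedImmersion_toX hN.1 n
  rw [low_eq]
  refine ker_appLE_eq (𝔛.toX n) ⟨_, isAffineOpen_lvU hN hV n⟩ _ ?_
  rw [toX_preimage_lvU]
  exact toX_preimage_lvU hN.1 0 V

include hV in
theorem ker_tr (n : ℕ) : RingHom.ker (tr 𝔛 hN.1 V n) = RingHom.ker (low hN.1 V (n + 1)) ^ (n + 1) := by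
  haveI := (hN.1 n).1
  rw [ker_low hN hV, tr]
  refine (ker_appLE_eq (𝔛.ι n) ⟨_, isAffineOpen_lvU hN hV (n + 1)⟩ _ (𝔛.lvU_succ hN.1 n V).symm).trans ?_
  rw [hN.2.1 n, Scheme.IdealSheafData.ideal_pow]
  rfl

include hV in
/-- The sections over an affine open form a complete Noetherian ring presenting the levels. -/
theorem structure_AV :
    IsNoetherianRing (AV 𝔛 hN.1 V) ∧ IsAdicComplete (defIdeal 𝔛 hN.1 V) (AV 𝔛 hN.1 V) ∧
      ∀ n, RingHom.ker (prj 𝔛 hN.1 V n) = defIdeal 𝔛 hN.1 V ^ (n + 1) := by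
  haveI := fun n => isNoetherianRing_LV hN hV n
  obtain ⟨J, h1, h2, -, h4⟩ := FormalH7.exists_complete_of_tower (R := fun n => LV 𝔛 hN.1 n V)
    (t := tr 𝔛 hN.1 V) (tr_surjective hN hV) (low hN.1 V) rfl (fun _ => rfl) (ker_tr hN hV)
  let g : AV 𝔛 hN.1 V →+* FormalH7.towerRing (fun n => LV 𝔛 hN.1 n V) (tr 𝔛 hN.1 V) :=
    (Pi.ringHom (prj 𝔛 hN.1 V)).codRestrict _ fun x n => tr_prj 𝔛 hN.1 V n x
  have hg : Function.Bijective g := by
    refine ⟨fun x y hxy => ext 𝔛 hN.1 V fun n => congrFun (congrArg Subtype.val hxy) n, fun y => ?_⟩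
    obtain ⟨x, hx⟩ := exists_lift 𝔛 hN.1 V y.1 y.2
    exact ⟨x, Subtype.ext (funext hx)⟩
  let e := RingEquiv.ofBijective g hg
  have hcomap : ∀ n, RingHom.ker (prj 𝔛 hN.1 V n) = (J ^ (n + 1)).comap e.toRingHom := fun n => by
    rw [← h4 n, RingHom.comap_ker]
    rfl
  have hJ : defIdeal 𝔛 hN.1 V = J.comap e.toRingHom := by
    rw [defIdeal, hcomap 0, zero_add, pow_one]
  have hpow : ∀ n, RingHom.ker (prj 𝔛 hN.1 V n) = defIdeal 𝔛 hN.1 V ^ (n + 1) := fun n => by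
    rw [hcomap n, hJ]
    exact (Ideal.map_symm (I := J ^ (n + 1)) e).symm.trans ((Ideal.map_pow _ _ _).trans (congrArg (· ^ (n + 1)) (Ideal.map_symm (I := J) e)))
  refine ⟨isNoetherianRing_of_ringEquiv _ e.symm, ?_, hpow⟩
  have hmap : J.map e.symm.toRingHom = defIdeal 𝔛 hN.1 V := by
    rw [hJ]
    exact Ideal.map_symm (I := J) e
  rw [← hmap]
  exact (IsAdicComplete.congr_ringEquiv J e.symm).2 h2

end Groth.Agent.FormalModH7
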