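import Groth.Agent.Lib.FormalModH7.Spf
import Groth.Agent.Lib.FormalModH7.CplAlgHom
import Groth.Agent.Lib.ModM1.Coh

/-!
# Maps of completions of finite modules on a formal spectrum
-/

set_option autoImplicit false
set_option linter.style.haveILetI false
set_option linter.unusedSectionVars false
set_option backward.isDefEq.respectTransparency false
set_option backward.isDefEq.respectTransparency.types false
universe u

open CategoryTheory CategoryTheory.Limits AlgebraicGeometry Opposite TopologicalSpace

namespace Groth.Agent.FormalModH7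

theorem comap_id' {X : Scheme.{u}} (I : X.IdealSheafData) : I.comap (𝟙 X) = I := by
  simp

theorem isProperOver_id {X : Scheme.{u}} (Z : Set X) (hZ : IsClosed Z) : ClSub.IsProperOver (𝟙 X) Z := by
  refine ⟨hZ, ?_⟩
  rw [Category.comp_id]
  infer_instance

variable {A : Type u} [CommRing A] [IsNoetherianRing A] (J : Ideal A) [IsAdicComplete J A]
  (M N : ModuleCat.{u} A)

theorem resC_secTop_eq_zero_iff [Module.Finite A M] (n : ℕ) (x : M) :
    resC (FSch.idealSpec A J) (noeth_Xh J).1 (TM M) n ⊤ (secTop M x) = 0 ↔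
      x ∈ J ^ (n + 1) • (⊤ : Submodule A M) := by
  haveI : Coh.IsQCoh (TM M) := (coh_tilde M).1
  refine (resC_eq_zero_iff _ _ _ (isAffineOpen_top _) n (secTop _ x)).trans ?_
  rw [FormalH7.idealSpec_ideal_top', ← Ideal.map_pow]
  exact (mem_smul_top_iff_of_semilinear (gT A) gT_bijective.2 (secTop _) (secTop_bijective _)
    (secTop_smul _) _ x).symm

theorem app_tilde_secTop (u : M ⟶ N) (x : M) :
    ((tilde.functor (CommRingCat.of A)).map u).app ⊤ (secTop M x) = secTop N (u.hom x) :=
  congrArg (fun q => q.hom x) (tilde.toOpen_map_app (R := CommRingCat.of A) u ⊤)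

variable [Module.Finite A M] [Module.Finite A N]

theorem app_eq_of_complModMap_eq {X : Scheme.{u}} (𝓘 : X.IdealSheafData) (h : (FSch.completionAlong X 𝓘).IsFormal)
    {F G : X.Modules} (φ ψ : F ⟶ G) (e : FSch.complModMap 𝓘 φ = FSch.complModMap 𝓘 ψ) (U : X.Opens) (n : ℕ)
    (s : Γ(F, U)) : resC 𝓘 h G n U (φ.app U s) = resC 𝓘 h G n U (ψ.app U s) := by
  have e' : (Scheme.Modules.pullback (FSch.completionToX X 𝓘 n)).map φ =
      (Scheme.Modules.pullback (FSch.completionToX X 𝓘 n)).map ψ := by
    rw [← FSch.complModMap_app, ← FSch.complModMap_app, e]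
  rw [← map_resC 𝓘 h φ, ← map_resC 𝓘 h ψ, e']

theorem complModMap_tilde_injective :
    Function.Injective (fun u : M ⟶ N =>
      FSch.complModMap (FSch.idealSpec A J) ((tilde.functor (CommRingCat.of A)).map u)) := by
  intro u v e
  refine ModuleCat.hom_ext (LinearMap.ext fun x => ?_)
  haveI : IsHausdorff J N := IsHausdorff.of_le_jacobson _ _ (IsAdicComplete.le_jacobson_bot J)
  refine sub_eq_zero.1 (IsHausdorff.haus' (I := J) _ fun n => ?_)
  rw [SModEq.zero]
  refine Submodule.smul_mono (Ideal.pow_le_pow_right n.le_succ) le_rfl ((resC_secTop_eq_zero_iff J N n _).1 ?_)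
  rw [map_sub, map_sub, sub_eq_zero, ← app_tilde_secTop, ← app_tilde_secTop]
  exact app_eq_of_complModMap_eq _ (noeth_Xh J).1 ((tilde.functor (CommRingCat.of A)).map u)
    ((tilde.functor (CommRingCat.of A)).map v) e ⊤ n (secTop M x)

theorem complModMap_tilde_surjective :
    Function.Surjective (fun u : M ⟶ N =>
      FSch.complModMap (FSch.idealSpec A J) ((tilde.functor (CommRingCat.of A)).map u)) := by
  intro σ
  letI : (Spec (CommRingCat.of A)).Over (Spec (CommRingCat.of A)) := ⟨𝟙 _⟩
  have hover : (Spec (CommRingCat.of A) ↘ Spec (CommRingCat.of A)) = 𝟙 _ := rfl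
  haveI : LocallyOfFiniteType (Spec (CommRingCat.of A) ↘ Spec (CommRingCat.of A)) := by rw [hover]; infer_instance
  haveI : QuasiCompact (Spec (CommRingCat.of A) ↘ Spec (CommRingCat.of A)) := by rw [hover]; infer_instance
  have hM := coh_tilde M
  have hN := coh_tilde N
  obtain ⟨φ, hφ⟩ := exists_complModMap_eq J (FSch.idealSpec A J) (by rw [hover, comap_id']) (noeth_Xh J).1
    hM hN (by rw [hover]; exact isProperOver_id _ ((M1.isClosed_support hM.2).inter (M1.isClosed_support hN.2)))
    (FSch.ModSys.realModMap (noeth_Xh J).1 σ)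
  obtain ⟨u, hu⟩ : ∃ u : M ⟶ N, (tilde.functor (CommRingCat.of A)).map u = φ :=
    ⟨(tilde.fullyFaithfulFunctor (R := CommRingCat.of A)).preimage φ,
      (tilde.fullyFaithfulFunctor (R := CommRingCat.of A)).map_preimage φ⟩
  refine ⟨u, ?_⟩
  show FSch.complModMap _ ((tilde.functor (CommRingCat.of A)).map u) = σ
  rw [hu]
  exact realModMap_injective (noeth_Xh J) (isCoh_complMod _ hM) hφ

end Groth.Agent.FormalModH7
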