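import Groth.Agent.Lib.FormalModH7.EqFlat
import Mathlib.RingTheory.Flat.EquationalCriterion
import Mathlib.Topology.Sheaves.Stalks

/-!
# Flatness of stalk maps gives the equational condition
-/

set_option autoImplicit false
set_option linter.style.haveILetI false
set_option backward.isDefEq.respectTransparency false
set_option backward.isDefEq.respectTransparency.types false

universe u

open CategoryTheory CategoryTheory.Limits Opposite TopologicalSpace

noncomputable section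

namespace Groth.Agent.FormalModH7

open ModFlat16

variable {Z : TopCat.{u}}

theorem exists_common_open (F : TopCat.Presheaf CommRingCat.{u} Z) {ι : Type*} [Finite ι] (z : Z) (V₀ : Opens Z)
    (hz : z ∈ V₀) (t : ι → F.stalk z) :
    ∃ (V : Opens Z) (hV : z ∈ V) (_ : V ≤ V₀) (s : ι → F.obj (op V)), ∀ i, F.germ V z hV (s i) = t i := by
  classical
  cases nonempty_fintype ι
  choose U hU s hs using fun i => TopCat.Presheaf.exists_germ_eq F (t i)
  let V : Opens Z := V₀ ⊓ Finset.univ.inf U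
  have hV : z ∈ V := ⟨hz, by
    suffices ∀ S : Finset ι, z ∈ S.inf U from this _
    intro S
    induction S using Finset.induction_on with
    | empty => simp
    | @insert a S _ ih => rw [Finset.inf_insert]; exact ⟨hU a, ih⟩⟩
  have hle : ∀ i, V ≤ U i := fun i => inf_le_right.trans (Finset.inf_le (Finset.mem_univ i))
  refine ⟨V, hV, inf_le_left, fun i => F.map (homOfLE (hle i)).op (s i), fun i => ?_⟩
  exact (TopCat.Presheaf.germ_res_apply F (homOfLE (hle i)) z hV (s i)).trans (hs i)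

theorem exists_open_eq (F : TopCat.Presheaf CommRingCat.{u} Z) {ι : Type*} [Finite ι] (z : Z) (V : Opens Z)
    (hz : z ∈ V) (s t : ι → F.obj (op V)) (h : ∀ i, F.germ V z hz (s i) = F.germ V z hz (t i)) :
    ∃ (V' : Opens Z) (_ : z ∈ V') (e : V' ≤ V), ∀ i, F.map (homOfLE e).op (s i) = F.map (homOfLE e).op (t i) := by
  classical
  cases nonempty_fintype ι
  choose U hU i₁ i₂ he using fun i => TopCat.Presheaf.germ_eq F z hz hz (s i) (t i) (h i)
  let V' : Opens Z := V ⊓ Finset.univ.inf U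
  have hV : z ∈ V' := ⟨hz, by
    suffices ∀ S : Finset ι, z ∈ S.inf U from this _
    intro S
    induction S using Finset.induction_on with
    | empty => simp
    | @insert a S _ ih => rw [Finset.inf_insert]; exact ⟨hU a, ih⟩⟩
  have hle : ∀ i, V' ≤ U i := fun i => inf_le_right.trans (Finset.inf_le (Finset.mem_univ i))
  refine ⟨V', hV, inf_le_left, fun i => ?_⟩
  have h' := congrArg (F.map (homOfLE (hle i)).op) (he i)
  rw [← ConcreteCategory.comp_apply, ← ConcreteCategory.comp_apply, ← F.map_comp, ← F.map_comp] at h'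
  exact h'

variable {X Y : TopCat.{u}} (f : X ⟶ Y) (O_X : TopCat.Sheaf CommRingCat.{u} X) (O_Y : TopCat.Sheaf CommRingCat.{u} Y)
  (c : O_Y ⟶ ((Opens.map f).sheafPushforwardContinuous CommRingCat.{u}
    (Opens.grothendieckTopology Y) (Opens.grothendieckTopology X)).obj O_X)

/-- The map of stalks. -/
def stkMap (x : X) : O_Y.presheaf.stalk (f x) ⟶ O_X.presheaf.stalk x :=
  (TopCat.Presheaf.stalkFunctor CommRingCat.{u} (f x)).map
      (show O_Y.presheaf ⟶ (TopCat.Presheaf.pushforward CommRingCat.{u} f).obj O_X.presheaf from c.hom) ≫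
    TopCat.Presheaf.stalkPushforward CommRingCat.{u} f O_X.presheaf x

theorem germ_rho (x : X) {W : Opens X} {V : Opens Y} (u : W ⟶ (Opens.map f).obj V) (hx : x ∈ W)
    (a : O_Y.presheaf.obj (op V)) :
    O_X.presheaf.germ W x hx (rho (ModSite.RMor.ofFlat (Opens.map f) c) u a) =
      stkMap f O_X O_Y c x (O_Y.presheaf.germ V (f x) (u.le hx) a) := by
  rw [stkMap, ConcreteCategory.comp_apply]
  erw [TopCat.Presheaf.stalkFunctor_map_germ_apply]
  erw [TopCat.Presheaf.stalkPushforward_germ_apply]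
  exact TopCat.Presheaf.germ_res_apply O_X.presheaf u x hx _

theorem eqFlat_of_stalks (hflat : ∀ x : X, (stkMap f O_X O_Y c x).hom.Flat) :
    EqFlat (ModSite.RMor.ofFlat (Opens.map f) c) := by
  intro W V₀ u₀ l n a h0
  let T : Sieve W :=
    { arrows := fun W' k => ∃ (V' : Opens Y) (b : V' ⟶ V₀) (u' : W' ⟶ (Opens.map f).obj V') (r : ℕ)
        (cc : Fin l → Fin r → O_Y.obj.obj (op V')) (z : Fin r → O_X.obj.obj (op W')),
        u' ≫ (Opens.map f).map b = k ≫ u₀ ∧
          (∀ i, rmap O_X k (n i) = ∑ q, rho (ModSite.RMor.ofFlat (Opens.map f) c) u' (cc i q) * z q) ∧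
          ∀ q, ∑ i, cc i q * rmap O_Y b (a i) = 0
      downward_closed := by
        rintro W₁ W₂ k ⟨V', b, u', r, cc, z, h1, h2, h3⟩ m
        refine ⟨V', b, m ≫ u', r, cc, fun q => rmap O_X m (z q), Subsingleton.elim _ _, fun i => ?_, h3⟩
        rw [rmap_comp, h2, map_sum]
        refine Finset.sum_congr rfl fun q _ => ?_
        rw [map_mul, rmap_rho] }
  refine ⟨T, fun x hx => ?_, fun W' k hk => hk⟩
  letI : Algebra (O_Y.presheaf.stalk (f x)) (O_X.presheaf.stalk x) := (stkMap f O_X O_Y c x).hom.toAlgebra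
  haveI : Module.Flat (O_Y.presheaf.stalk (f x)) (O_X.presheaf.stalk x) := hflat x
  have hrel : ∑ i, O_Y.presheaf.germ V₀ (f x) (u₀.le hx) (a i) • O_X.presheaf.germ W x hx (n i) = 0 := by
    have h' := congrArg (O_X.presheaf.germ W x hx) h0
    rw [map_sum, map_zero] at h'
    refine Eq.trans (Finset.sum_congr rfl fun i _ => ?_) h'
    rw [map_mul, germ_rho f O_X O_Y c x u₀ hx (a i), mul_comm, Algebra.smul_def]
    rfl
  obtain ⟨r, A, y, hAy, hA⟩ := Module.Flat.isTrivialRelation_of_sum_smul_eq_zero hrel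
  obtain ⟨V₁, hxV₁, e₁, s, hs⟩ := exists_common_open O_Y.presheaf (f x) V₀ (u₀.le hx) fun p : Fin l × Fin r => A p.1 p.2
  obtain ⟨U₂, hxU₂, e₂, w, hw⟩ := exists_common_open O_X.presheaf x (W ⊓ (Opens.map f).obj V₁) ⟨hx, hxV₁⟩ y
  let b₁ : V₁ ⟶ V₀ := homOfLE e₁
  obtain ⟨V₃, hxV₃, e₃, hV₃⟩ := exists_open_eq O_Y.presheaf (f x) V₁ hxV₁
    (fun q => ∑ i, s (i, q) * rmap O_Y b₁ (a i)) (fun _ => 0) fun q => by
      rw [map_zero, map_sum, ← hA q]
      refine Finset.sum_congr rfl fun i _ => ?_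
      rw [map_mul, hs, mul_comm]
      exact congrArg (· * _) (TopCat.Presheaf.germ_res_apply O_Y.presheaf b₁ (f x) hxV₁ (a i))
  let U₃ : Opens X := U₂ ⊓ (Opens.map f).obj V₃
  let u₃ : U₃ ⟶ (Opens.map f).obj V₃ := homOfLE inf_le_right
  let b₃ : V₃ ⟶ V₁ := homOfLE e₃
  let cc : Fin l → Fin r → O_Y.obj.obj (op V₃) := fun i q => rmap O_Y b₃ (s (i, q))
  let k₃ : U₃ ⟶ W := homOfLE (inf_le_left.trans (e₂.trans inf_le_left))
  let z₃ : Fin r → O_X.obj.obj (op U₃) := fun q => rmap O_X (homOfLE inf_le_left) (w q)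
  obtain ⟨U₄, hxU₄, e₄, hU₄⟩ := exists_open_eq O_X.presheaf x U₃ ⟨hxU₂, hxV₃⟩
    (fun i => rmap O_X k₃ (n i))
    (fun i => ∑ q, rho (ModSite.RMor.ofFlat (Opens.map f) c) u₃ (cc i q) * z₃ q) fun i => by
      rw [map_sum, show O_X.presheaf.germ U₃ x _ (rmap O_X k₃ (n i)) = O_X.presheaf.germ W x hx (n i) from
        TopCat.Presheaf.germ_res_apply O_X.presheaf k₃ x _ (n i)]
      refine (hAy i).trans (Finset.sum_congr rfl fun q _ => ?_)
      rw [map_mul, germ_rho f O_X O_Y c x u₃ ⟨hxU₂, hxV₃⟩ (cc i q), Algebra.smul_def]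
      refine congrArg₂ (· * ·) (congrArg (stkMap f O_X O_Y c x) ?_) ?_
      · exact ((TopCat.Presheaf.germ_res_apply O_Y.presheaf b₃ (f x) hxV₃ (s (i, q))).trans (hs (i, q))).symm
      · exact ((TopCat.Presheaf.germ_res_apply O_X.presheaf (homOfLE inf_le_left) x _ (w q)).trans (hw q)).symm
  refine ⟨U₄, homOfLE e₄ ≫ k₃, ⟨V₃, b₃ ≫ b₁, homOfLE e₄ ≫ u₃, r, cc, fun q => rmap O_X (homOfLE e₄) (z₃ q),
    Subsingleton.elim _ _, fun i => ?_, fun q => ?_⟩, hxU₄⟩
  · rw [rmap_comp]
    refine (hU₄ i).trans ?_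
    rw [map_sum]
    refine Finset.sum_congr rfl fun q _ => ?_
    refine (map_mul (rmap O_X (homOfLE e₄)) _ _).trans ?_
    rw [rmap_rho]
  · refine Eq.trans ?_ ((hV₃ q).trans (map_zero _))
    rw [map_sum]
    refine Finset.sum_congr rfl fun i _ => ?_
    rw [rmap_comp]
    exact (map_mul (rmap O_Y b₃) _ _).symm

end Groth.Agent.FormalModH7
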